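import Cfsg.Agent.Lib.S86.Defs
import Cfsg.Agent.Lib.Symp.Order
import Cfsg.Agent.S0814
import Cfsg.Agent.Lib.Classical.SmallIso

/-! The model is `Sp₆(2)` (project S86, see plans/S86.md). -/

set_option autoImplicit false
set_option maxRecDepth 100000
set_option Elab.async false
set_option linter.unusedSectionVars false

namespace CfsgLib.S86

open Subgroup CfsgLib.W2 CfsgLib.Tech CfsgLib.PComp CfsgLib.Rec3C CfsgLib.Rec3C.V4
open CfsgLib.Rec3B (V81)
open CfsgLib.L72 (Nm IsQ Oc)

variable {G : Type*} [Group G] [Finite G]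

namespace Iso

open Matrix

/-- coordinates -/
def cv (v : E64) : Fin 3 ⊕ Fin 3 → ZMod 2 :=
  Sum.elim (fun i => (bt v (2 * i.val) : ℕ)) (fun i => (bt v (2 * i.val + 1) : ℕ))

theorem cv_mul (u v : E64) : cv (u * v) = cv u + cv v := by
  have k : ∀ i < 6, ∀ u v : E64, ((bt (u * v) i : ℕ) : ZMod 2) = (bt u i : ℕ) + (bt v i : ℕ) := by
    decide +kernel
  ext (i | i)
  exacts [k _ (by omega) u v, k _ (by omega) u v]

theorem cv_bf (u v : E64) : Forms.spB (Fin 3) (ZMod 2) (cv u) (cv v) = cond (bf u v) 1 0 := by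
  rw [Forms.spB_eq_sum, Fin.sum_univ_three]
  revert u v
  decide +kernel

theorem bf_iff {u v u' v' : E64} : Forms.spB (Fin 3) (ZMod 2) (cv u) (cv v) =
    Forms.spB (Fin 3) (ZMod 2) (cv u') (cv v') ↔ bf u v = bf u' v' := by
  rw [cv_bf, cv_bf]
  cases bf u v <;> cases bf u' v' <;> simp

theorem cv_bij : Function.Bijective cv :=
  (Nat.bijective_iff_injective_and_card _).2 ⟨fun u v e => bf_ext fun g => bf_iff.1 (by rw [e]),
    by rw [TG.card_eq]; simp⟩

/-- coordinates -/
noncomputable def ce : E64 ≃ (Fin 3 ⊕ Fin 3 → ZMod 2) := Equiv.ofBijective cv cv_bij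

theorem ce_mul (u v : E64) : ce (u * v) = ce u + ce v := cv_mul u v

/-- the linear map of an element -/
noncomputable def lin (g : SM) : (Fin 3 ⊕ Fin 3 → ZMod 2) →ₗ[ZMod 2] (Fin 3 ⊕ Fin 3 → ZMod 2) :=
  (AddMonoidHom.mk' (fun x => ce (sa g (ce.symm x))) fun x y => by
    obtain ⟨u, rfl⟩ := ce.surjective x
    obtain ⟨v, rfl⟩ := ce.surjective y
    simp only [← ce_mul, Equiv.symm_apply_apply, sa_mul]).toZModLinearMap 2

theorem lin_ce (g : SM) (v : E64) : lin g (ce v) = ce (sa g v) :=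
  congrArg (fun u => ce (sa g u)) (ce.symm_apply_apply v)

theorem mat_ce (g : SM) (v : E64) : LinearMap.toMatrix' (lin g) *ᵥ ce v = ce (sa g v) := by
  rw [← toLin'_apply, toLin'_toMatrix', lin_ce]

theorem mat_ext {A B : Matrix (Fin 3 ⊕ Fin 3) (Fin 3 ⊕ Fin 3) (ZMod 2)} (h : ∀ v, A *ᵥ ce v = B *ᵥ ce v) :
    A = B := toLin'.injective (LinearMap.ext fun x => by
  obtain ⟨v, rfl⟩ := ce.surjective x
  exact h v)

/-- the matrix of an element -/
noncomputable def hom : SM →* symplecticGroup (Fin 3) (ZMod 2) :=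
  MonoidHom.mk' (fun g => ⟨LinearMap.toMatrix' (lin g), (Forms.mem_sp_iff _).2 fun x y => by
    obtain ⟨u, rfl⟩ := ce.surjective x
    obtain ⟨v, rfl⟩ := ce.surjective y
    rw [mat_ce, mat_ce]
    exact bf_iff.2 (bf_sa g u v)⟩) fun g h => Subtype.ext (mat_ext fun v => by
      rw [Submonoid.coe_mul, ← mulVec_mulVec, mat_ce, mat_ce, mat_ce, mul_sa])

theorem hom_bij : Function.Bijective hom := by
  refine ⟨fun g h e => sa_ext' fun v => ce.injective ?_, fun A => ?_⟩
  · rw [← mat_ce, ← mat_ce]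
    exact congrArg (fun A : symplecticGroup (Fin 3) (ZMod 2) => A.1 *ᵥ ce v) e
  · obtain ⟨g, e⟩ := exists_of_hom (MonoidHom.mk' (fun v => ce.symm (A.1 *ᵥ ce v)) fun u v =>
      ce.injective (by simp only [ce_mul, Equiv.apply_symm_apply, mulVec_add])) fun u v => bf_iff.1
        ((congrArg₂ (fun x y => Forms.spB (Fin 3) (ZMod 2) x y) (ce.apply_symm_apply _)
          (ce.apply_symm_apply _)).trans ((Forms.mem_sp_iff _).1 A.2 _ _))
    exact ⟨g, Subtype.ext (mat_ext fun v => (mat_ce g v).trans (by rw [e]; exact ce.apply_symm_apply _))⟩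

end Iso

theorem exists_iso_sp : Nonempty (SM ≃* Matrix.symplecticGroup (Fin 3) (ZMod 2)) :=
  ⟨MulEquiv.ofBijective _ Iso.hom_bij⟩

theorem exists_iso {F : Type*} [Field F] [Fintype F] (hF : Fintype.card F = 2) : Nonempty (SM ≃* Cfsg.PSp 3 F) := by
  obtain ⟨f⟩ := exists_iso_sp
  let e : F ≃+* ZMod 2 := FiniteField.ringEquivOfCardEq (hF.trans (ZMod.card 2).symm)
  exact ⟨(f.trans ((QuotientGroup.quotientMulEquivOfEq (Symp.center_eq_bot_of_two_eq_zero rfl)).trans
    QuotientGroup.quotientBot).symm).trans (Classical.centerQuotEquiv (Classical.spMapEquiv e)).symm⟩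

theorem simple_SM : IsSimpleGroup SM := by
  obtain ⟨f⟩ := exists_iso (ZMod.card 2)
  have := Symp.isSimpleGroup_PSp (F := ZMod 2) (m := 3) (by omega) (by omega)
  exact f.isSimpleGroup

theorem card_SM : Nat.card SM = 1451520 := by
  obtain ⟨f⟩ := exists_iso_sp
  rw [Nat.card_congr f.toEquiv, Symp.card_sp, ZMod.card]
  decide

theorem center_SM (m : SM) (h : ∀ k, Commute m k) : m = 1 :=
  sa_ext' fun v => by rw [comm_tv.1 (h _), one_sa]

open scoped commutatorElement in
theorem perfect_SM : commutator SM = ⊤ := by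
  have := simple_SM
  refine (Subgroup.Normal.eq_bot_or_eq_top inferInstance).resolve_left fun e => ?_
  have k : ⁅tv e1, tv f1⁆ ∈ commutator SM := commutator_mem_commutator (mem_top _) (mem_top _)
  rw [e, mem_bot, commutatorElement_eq_one_iff_commute, tv_comm] at k
  revert k
  decide +kernel

/-- every automorphism is inner -/
theorem inner_SM (f : SM →* SM) (hf : Function.Injective f) : ∃ M, ∀ m, f m = M * m * M⁻¹ := by
  obtain ⟨e⟩ := exists_iso (ZMod.card 2)
  have k := Cfsg.Agent.S0814.result (F := ZMod 2) 2 1 le_rfl (ZMod.card 2) 3 (by omega) (by omega)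
  rw [← Nat.card_congr e.toEquiv, ← Nat.card_congr (MulAut.congr e).toEquiv] at k
  have hb : Function.Bijective (MulAut.conj : SM →* MulAut SM) :=
    (Nat.bijective_iff_injective_and_card _).2 ⟨(injective_iff_map_eq_one _).2 fun m e => center_SM m fun k =>
      mul_inv_eq_iff_eq_mul.1 (DFunLike.congr_fun e k), by simpa using k.symm⟩
  obtain ⟨M, hM⟩ := hb.2 (MulEquiv.ofBijective f (Finite.injective_iff_bijective.1 hf))
  exact ⟨M, fun m => (DFunLike.congr_fun hM m).symm⟩

/-- an element normalising the image of an injective chart acts as an inner automorphism -/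
theorem inner_of_norm {φ : SM →* G} (hφ : Function.Injective φ) {g : G} (hg : ∀ m, g * φ m * g⁻¹ ∈ φ.range) :
    ∃ M, ∀ m, g * φ m * g⁻¹ = φ (M * m * M⁻¹) := by
  choose f hf using hg
  obtain ⟨M, hM⟩ := inner_SM (MonoidHom.mk' f fun a b => hφ (by rw [map_mul, hf, hf, hf, map_mul, conj_mul]))
    fun a b e => hφ (by
      have := hf a
      rw [show f a = f b from e, hf] at this
      exact (mul_left_cancel (mul_right_cancel this)).symm)
  exact ⟨M, fun m => by rw [← hM, ← hf]; rfl⟩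

end CfsgLib.S86
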