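import Cfsg.Agent.Lib.S86.Iso
import Cfsg.Agent.Lib.Rec3.RealSp

/-! Witt, `C(β3)`, involutions (project S86, see plans/S86.md). -/

set_option autoImplicit false
set_option maxRecDepth 100000
set_option Elab.async false
set_option linter.unusedSectionVars false

namespace CfsgLib.S86

open Subgroup CfsgLib.W2 CfsgLib.Tech CfsgLib.PComp CfsgLib.Rec3C CfsgLib.Rec3C.V4
open CfsgLib.Rec3B (V81)
open CfsgLib.L72 (Nm IsQ Oc)

variable {G : Type*} [Group G] [Finite G]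

namespace Wt

theorem mv : ∀ u v : E64, bf u v = true → sa (tv (u * v)) u = v := by decide +kernel

theorem tv_fix {z w : E64} (h : bf z w = false) : sa (tv w) z = z := by
  rw [sa_tv, h, if_neg Bool.false_ne_true]

/-- `u` can be moved to `v` by one or two transvections fixing `Z` -/
def Lk (Z : List E64) (u v : E64) : Prop :=
  bf u v = true ∨ ∃ w, bf u w = true ∧ bf w v = true ∧ ∀ z ∈ Z, bf z u = bf z w

noncomputable instance (Z : List E64) (u v : E64) : Decidable (Lk Z u v) := by unfold Lk; infer_instance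

theorem step {S : Subgroup SM} {Z : List E64} (hS : ∀ w, (∀ z ∈ Z, bf z w = false) → tv w ∈ S) {u v : E64}
    (h : ∀ z ∈ Z, bf z u = bf z v) (k : Lk Z u v) : ∃ g ∈ S, (∀ z ∈ Z, sa g z = z) ∧ sa g u = v := by
  have one : ∀ u v : E64, (∀ z ∈ Z, bf z u = bf z v) → bf u v = true →
      ∃ g ∈ S, (∀ z ∈ Z, sa g z = z) ∧ sa g u = v := fun u v h k => by
    have e : ∀ z ∈ Z, bf z (u * v) = false := fun z hz => by rw [bf_mul', h z hz, Bool.xor_self]
    exact ⟨_, hS _ e, fun z hz => tv_fix (e z hz), mv u v k⟩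
  rcases k with k | ⟨w, k1, k2, k3⟩
  · exact one u v h k
  · obtain ⟨g, hg, g1, g2⟩ := one u w k3 k1
    obtain ⟨g', hg', g1', g2'⟩ := one w v (fun z hz => (k3 z hz).symm.trans (h z hz)) k2
    exact ⟨g' * g, S.mul_mem hg' hg, fun z hz => by rw [mul_sa, g1 z hz, g1' z hz], by rw [mul_sa, g2, g2']⟩

theorem red {S : Subgroup SM} {Z : List E64} {b : E64} (hS : ∀ w, (∀ z ∈ Z, bf z w = false) → tv w ∈ S)
    (hd : b ≠ 1 ∧ ∀ v, v ≠ 1 → (∀ z ∈ Z, bf z v = bf z b) → Lk Z v b)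
    (H : ∀ m, (∀ z ∈ b :: Z, sa m z = z) → m ∈ S) (m : SM) (hm : ∀ z ∈ Z, sa m z = z) : m ∈ S := by
  have e : ∀ z ∈ Z, bf z (sa m b) = bf z b := fun z hz => by rw [← bf_sa m z b, hm z hz]
  obtain ⟨g, hg, g1, g2⟩ := step hS e (hd.2 _ (fun e => hd.1 (sa_inj m (e.trans (sa_one m).symm))) e)
  refine (S.mul_mem_cancel_left hg).1 (H _ fun z hz => ?_)
  rcases List.mem_cons.1 hz with rfl | hz
  · rw [mul_sa, g2]
  · rw [mul_sa, hm z hz, g1 z hz]

theorem fix3 {S : Subgroup SM} (hS : ∀ w, bf e3 w = false → bf f3 w = false → tv w ∈ S) (m : SM)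
    (hm : ∀ z ∈ [f3, e3], sa m z = z) : m ∈ S := by
  refine red (b := e1) (fun w h => hS w (h _ (by simp)) (h _ (by simp))) (by decide +kernel) (fun m hm => ?_) m hm
  refine red (b := f1) (fun w h => hS w (h _ (by simp)) (h _ (by simp))) (by decide +kernel) (fun m hm => ?_) m hm
  refine red (b := e2) (fun w h => hS w (h _ (by simp)) (h _ (by simp))) (by decide +kernel) (fun m hm => ?_) m hm
  refine red (b := f2) (fun w h => hS w (h _ (by simp)) (h _ (by simp))) (by decide +kernel) (fun m hm => ?_) m hm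
  have : m = 1 := by
    refine sa_ext ?_ ?_ ?_ ?_ ?_ ?_ <;> rw [one_sa] <;> exact hm _ (by simp)
  exact this ▸ S.one_mem

theorem to_e1 {u : E64} (hu : u ≠ 1) : ∃ g, sa g u = e1 := by
  obtain ⟨g, -, -, e⟩ := step (S := ⊤) (Z := []) (fun _ _ => mem_top _) (by simp)
    ((by decide +kernel : ∀ u : E64, u ≠ 1 → Lk [] u e1) u hu)
  exact ⟨g, e⟩

theorem to_hyp {u v : E64} (h : bf u v = true) : ∃ g, sa g u = e1 ∧ sa g v = f1 := by
  obtain ⟨g, e⟩ := to_e1 (u := u) (by rintro rfl; rw [bf_comm, bf_one] at h; exact Bool.false_ne_true h)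
  rw [← bf_sa g, e] at h
  obtain ⟨k, k'⟩ := (by decide +kernel : ∀ v : E64, bf e1 v = true →
    (∀ z ∈ [e1], bf z v = bf z f1) ∧ Lk [e1] v f1) _ h
  obtain ⟨g', -, e1', e2'⟩ := step (S := ⊤) (fun _ _ => mem_top _) k k'
  exact ⟨g' * g, by rw [mul_sa, e, e1' _ (by simp)], by rw [mul_sa, e2']⟩

theorem to_perp {u v : E64} (hu : u ≠ 1) (hv : v ≠ 1) (huv : u ≠ v) (h : bf u v = false) :
    ∃ g, sa g u = e1 ∧ sa g v = e2 := by
  obtain ⟨g, e⟩ := to_e1 hu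
  rw [← bf_sa g, e] at h
  obtain ⟨k, k'⟩ := (by decide +kernel : ∀ v : E64, bf e1 v = false → v ≠ 1 → e1 ≠ v →
    (∀ z ∈ [e1], bf z v = bf z e2) ∧ Lk [e1] v e2) _ h (fun e => hv (sa_inj g (e.trans (sa_one g).symm)))
    (fun e' => huv (sa_inj g (e.trans e')))
  obtain ⟨g', -, e1', e2'⟩ := step (S := ⊤) (fun _ _ => mem_top _) k k'
  exact ⟨g' * g, by rw [mul_sa, e, e1' _ (by simp)], by rw [mul_sa, e2']⟩

theorem back {g g' : SM} {u u' : E64} (h : sa g u = sa g' u') : sa (g'⁻¹ * g) u = u' := by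
  rw [mul_sa, h, inv_sa_sa]

/-- distance to `e1` -/
def rk (v : E64) : ℕ := [0, 0, 2, 1, 1, 3, 2, 3, 3, 3, 4, 4, 2, 4, 3, 4, 2, 4, 3, 4, 5, 6, 5, 4, 4, 6, 7, 6, 5, 5, 6, 5,
  4, 4, 5, 5, 5, 7, 6, 6, 6, 7, 8, 8, 6, 7, 7, 7, 3, 5, 4, 5, 6, 6, 6, 5, 5, 7, 8, 7, 6, 6, 7, 6].getD v.v 0

/-- alternating -/
def PA (m : SM) : Prop := ∀ v, bf v (sa m v) = false
/-- rank at most one -/
def PB (m : SM) : Prop := ∀ u v, sa m u * u = 1 ∨ sa m v * v = 1 ∨ sa m u * u = sa m v * v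
/-- kernel inside image -/
def PD (m : SM) : Prop := ∀ v, sa m v = v → ∃ u, sa m u * u = v

noncomputable instance (m : SM) : Decidable (PA m) := by unfold PA; infer_instance
noncomputable instance (m : SM) : Decidable (PB m) := by unfold PB; infer_instance
noncomputable instance (m : SM) : Decidable (PD m) := by unfold PD; infer_instance

theorem cj (g m : SM) (v : E64) : sa (g * m * g⁻¹) (sa g v) = sa g (sa m v) := by
  rw [mul_sa, mul_sa, inv_sa_sa]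

theorem PA.conj {m n : SM} (h : IsConj m n) (k : PA m) : PA n := by
  obtain ⟨g, rfl⟩ := isConj_iff.1 h
  intro v
  rw [← sa_inv_sa g v, cj, bf_sa, k]

theorem PB.conj {m n : SM} (h : IsConj m n) (k : PB m) : PB n := by
  obtain ⟨g, rfl⟩ := isConj_iff.1 h
  intro u v
  rw [← sa_inv_sa g v, ← sa_inv_sa g u, cj, cj, ← sa_mul, ← sa_mul]
  rcases k (sa g⁻¹ u) (sa g⁻¹ v) with e | e | e
  · exact .inl (by rw [e, sa_one])
  · exact .inr (.inl (by rw [e, sa_one]))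
  · exact .inr (.inr (by rw [e]))

theorem PD.conj {m n : SM} (h : IsConj m n) (k : PD m) : PD n := by
  obtain ⟨g, rfl⟩ := isConj_iff.1 h
  intro v hv
  rw [← sa_inv_sa g v, cj] at hv
  obtain ⟨u, e⟩ := k _ (sa_inj g hv)
  exact ⟨sa g u, by rw [cj, ← sa_mul, e, sa_inv_sa]⟩

/-- the class invariant -/
noncomputable def inv (m : SM) : Bool × Bool × Bool := (decide (PA m), decide (PB m), decide (PD m))

theorem inv_conj {m n : SM} (h : IsConj m n) : inv m = inv n := by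
  simp only [inv, Prod.mk.injEq, decide_eq_decide]
  exact ⟨⟨PA.conj h, PA.conj h.symm⟩, ⟨PB.conj h, PB.conj h.symm⟩, ⟨PD.conj h, PD.conj h.symm⟩⟩

/-- the five classes -/
noncomputable def cl (i : Fin 5) : SM := [1, t1, s12, t1 * t2, t1 * t2 * t3].getD i 1

theorem inv_cl : ∀ i : Fin 5, inv (cl i) = [(true, true, false), (false, true, false), (true, false, false),
    (false, false, false), (false, false, true)].getD i (true, true, true) := by decide +kernel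

theorem cl_inj {i j : Fin 5} (h : IsConj (cl i) (cl j)) : i = j := by
  have := inv_conj h
  rw [inv_cl, inv_cl] at this
  clear h
  revert i j
  decide

end Wt

open Wt

theorem gen_tv {S : Subgroup SM} (h : ∀ v, tv v ∈ S) : S = ⊤ := by
  refine eq_top_iff.2 fun m _ => ?_
  refine red (Z := []) (b := e3) (fun w _ => h w) (by decide +kernel) (fun m hm => ?_) m (by simp)
  exact red (b := f3) (fun w _ => h w) (by decide +kernel) (fix3 fun w _ _ => h w) m hm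

theorem gen6 {S : Subgroup SM} (h1 : t1 ∈ S) (h2 : β1 ∈ S) (h3 : β2 ∈ S) (h4 : β3 ∈ S) (h5 : s12 ∈ S) (h6 : s23 ∈ S)
    (h7 : tv (e1 * e2) ∈ S) : S = ⊤ := by
  have hg : ∀ g ∈ [t1, β1, β2, β3, s12, s23, tv (e1 * e2)], g ∈ S := by
    simp only [List.mem_cons, List.not_mem_nil, or_false, forall_eq_or_imp, forall_eq]
    exact ⟨h1, h2, h3, h4, h5, h6, h7⟩
  have k : ∀ v : E64, v = 1 ∨ v = e1 ∨ ∃ g ∈ [t1, β1, β2, β3, s12, s23, tv (e1 * e2)], rk (sa g v) < rk v := by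
    decide +kernel
  refine gen_tv fun v => ?_
  induction h : rk v using Nat.strong_induction_on generalizing v with
  | _ n ih =>
    rcases k v with rfl | rfl | ⟨g, hg', e⟩
    · exact tv_one ▸ S.one_mem
    · exact vals.1 ▸ h1
    · have := ih _ (h ▸ e) _ rfl
      rw [← conj_tv] at this
      exact (S.mul_mem_cancel_left (hg g hg')).1 ((S.mul_mem_cancel_right (S.inv_mem (hg g hg'))).1 this)

theorem witt1 {u v : E64} (hu : u ≠ 1) (hv : v ≠ 1) : ∃ g, sa g u = v := by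
  obtain ⟨g, e⟩ := to_e1 hu
  obtain ⟨g', e'⟩ := to_e1 hv
  exact ⟨_, back (e.trans e'.symm)⟩

theorem witt_perp {u v u' v' : E64} (hu : u ≠ 1) (hv : v ≠ 1) (huv : u ≠ v) (h : bf u v = false)
    (hu' : u' ≠ 1) (hv' : v' ≠ 1) (huv' : u' ≠ v') (h' : bf u' v' = false) : ∃ g, sa g u = u' ∧ sa g v = v' := by
  obtain ⟨g, a, b⟩ := to_perp hu hv huv h
  obtain ⟨g', a', b'⟩ := to_perp hu' hv' huv' h'
  exact ⟨_, back (a.trans a'.symm), back (b.trans b'.symm)⟩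

theorem witt_hyp {u v u' v' : E64} (h : bf u v = true) (h' : bf u' v' = true) : ∃ g, sa g u = u' ∧ sa g v = v' := by
  obtain ⟨g, a, b⟩ := to_hyp h
  obtain ⟨g', a', b'⟩ := to_hyp h'
  exact ⟨_, back (a.trans a'.symm), back (b.trans b'.symm)⟩

set_option synthInstance.maxSize 2000 in
/-- every functional is `bf · q` -/
theorem exists_dual (l : E64 → Bool) (h : ∀ u v, l (u * v) = xor (l u) (l v)) : ∃ q, ∀ u, l u = bf u q := by
  obtain ⟨q, k⟩ := (by decide +kernel : ∀ a b c d e f : Bool, ∃ q : E64, a = bf e1 q ∧ b = bf f1 q ∧ c = bf e2 q ∧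
    d = bf f2 q ∧ e = bf e3 q ∧ f = bf f3 q) (l e1) (l f1) (l e2) (l f2) (l e3) (l f3)
  have k' : ∀ g ∈ [e1, f1, e2, f2, e3, f3], l g = bf g q := by
    simpa only [List.mem_cons, List.not_mem_nil, or_false, forall_eq_or_imp, forall_eq] using k
  refine ⟨q, TG.ind_of_genB genE ?_ fun a ha g hg => by rw [h, bf_mul, ha, k' g hg]⟩
  rw [bf_comm, bf_one, ← Bool.xor_self (l 1), ← h, mul_one]

theorem fix_e3f3 {m : SM} (h1 : sa m e3 = e3) (h2 : sa m f3 = f3) : ∃ p, m = κ p := by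
  have k : ∀ w : E64, bf e3 w = false → bf f3 w = false → tv w ∈ List.map κ [PG.pl [0, 1, 2, 3, 4, 5], PG.pl [1, 0, 2, 3, 4, 5], PG.pl [2, 1, 0, 3, 4, 5], PG.pl [3, 1, 2, 0, 4, 5], PG.pl [4, 1, 2, 3, 0, 5], PG.pl [5, 1, 2, 3, 4, 0], PG.pl [0, 2, 1, 3, 4, 5], PG.pl [0, 3, 2, 1, 4, 5], PG.pl [0, 4, 2, 3, 1, 5], PG.pl [0, 5, 2, 3, 4, 1], PG.pl [0, 1, 3, 2, 4, 5], PG.pl [0, 1, 4, 3, 2, 5], PG.pl [0, 1, 5, 3, 4, 2], PG.pl [0, 1, 2, 4, 3, 5], PG.pl [0, 1, 2, 5, 4, 3], PG.pl [0, 1, 2, 3, 5, 4]] := by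
    decide +kernel
  obtain ⟨p, hp⟩ := fix3 (S := κ.range) (fun w a b => by
    obtain ⟨p, -, e⟩ := List.mem_map.1 (k w a b)
    exact ⟨p, e⟩) m (by simp [h1, h2])
  exact ⟨p, hp.symm⟩

theorem cβ3 {m : SM} (h : Commute m β3) : ∃ (i : ℕ) (p : PG 6), m = β3 ^ i * κ p := by
  have c : ∀ {n : SM}, Commute n β3 → ∀ v, sa n (sa β3 v) = sa β3 (sa n v) := fun h v => by
    rw [← mul_sa, h.eq, mul_sa]
  obtain ⟨a1, a2, a3⟩ : e3 * sa β3 e3 * sa β3 (sa β3 e3) = 1 ∧ sa β3 e3 = f3 ∧ e3 ≠ 1 := by decide +kernel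
  have k : ∀ x : E64, x ≠ 1 → x * sa β3 x * sa β3 (sa β3 x) = 1 → ∃ i : Fin 3, sa (β3 ^ i.1) e3 = x := by
    decide +kernel
  obtain ⟨i, e⟩ := k (sa m e3) (fun e => a3 (sa_inj m (e.trans (sa_one m).symm)))
    (by rw [← c h, ← c h, ← sa_mul, ← sa_mul, a1, sa_one])
  have e' : sa ((β3 ^ i.1)⁻¹ * m) e3 = e3 := back e.symm
  obtain ⟨p, hp⟩ := fix_e3f3 e'
    (by rw [← a2, c (((Commute.refl β3).pow_left _).inv_left.mul_left h), e'])
  exact ⟨i, p, by rw [← hp, mul_inv_cancel_left]⟩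

theorem κ_comm (p : PG 6) : Commute (κ p) β3 ∧ Commute (κ p) t3 ∧ Commute (κ p) (tv f3) := by
  have a := comm_tv.2 (κ_fix p).1
  have b := comm_tv.2 (κ_fix p).2
  exact ⟨vals.2.2.2.2.2.2.2.2 ▸ a.mul_right b, vals.2.2.1 ▸ a, b⟩

/-- a transvection is not a square -/
theorem nsq (h : SM) {v : E64} (hv : v ≠ 1) : h * h ≠ tv v := by
  intro e
  have f : sa h v = v := comm_tv.1 (e ▸ (Commute.refl h).mul_right (Commute.refl h))
  obtain ⟨x, hx⟩ := (by decide +kernel : ∀ v : E64, v ≠ 1 → ∃ x, bf x v = true) v hv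
  have a : sa h (sa h x) = x * v := by rw [← mul_sa, e, sa_tv, if_pos hx]
  have b := bf_sa h x (sa h x)
  have c := bf_sa h x v
  rw [f, hx] at c
  rw [a, bf_mul', c, bf_comm x] at b
  revert b
  cases bf (sa h x) x <;> simp

theorem nconj : ¬ IsConj s12 t3 ∧ ¬ IsConj s12 (s12 * t3) ∧ ¬ IsConj t3 (s12 * t3) := by
  obtain ⟨a, b, c, d, e⟩ : PA s12 ∧ ¬ PA t3 ∧ ¬ PA (s12 * t3) ∧ PB t3 ∧ ¬ PB (s12 * t3) := by decide +kernel
  exact ⟨fun h => b (a.conj h), fun h => c (a.conj h), fun h => e (d.conj h)⟩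

theorem conj_b3 : IsConj (s12 * t3) (t1 * t2 * t3) := by
  have k : mk (TG.o 10) (TG.o 35) (TG.o 15) (TG.o 50) (TG.o 21) (TG.o 47) * (s12 * t3) *
      (mk (TG.o 10) (TG.o 35) (TG.o 15) (TG.o 50) (TG.o 21) (TG.o 47))⁻¹ = t1 * t2 * t3 ∨
      mk (TG.o 10) (TG.o 35) (TG.o 15) (TG.o 50) (TG.o 21) (TG.o 47) * (t1 * t2 * t3) *
      (mk (TG.o 10) (TG.o 35) (TG.o 15) (TG.o 50) (TG.o 21) (TG.o 47))⁻¹ = s12 * t3 := by decide +kernel
  exact k.elim (fun e => isConj_iff.2 ⟨_, e⟩) fun e => (isConj_iff.2 ⟨_, e⟩).symm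

theorem inv_class {m : SM} (h : m * m = 1) : ∃ g, g * m * g⁻¹ ∈ [1, t1, s12, t1 * t2, t1 * t2 * t3] := by
  obtain ⟨f0⟩ := exists_iso_sp
  let f : SM ≃* Rec3.P6.SP := f0.trans (CG.eqv Rec3.P6.spok)
  have c : ∀ m : SM, m * m = 1 → ∃ j : Fin 5, IsConj m (f.symm (Rec3.P6.rep j)) := fun m h => by
    obtain ⟨j, hj, e⟩ := Rec3.P6.sp_c1 (u := f m) (by rw [← map_mul, h, map_one])
    exact ⟨⟨j, hj⟩, by simpa using f.symm.toMonoidHom.map_isConj e⟩
  choose j hj using fun i => c (cl i) ((by decide +kernel : ∀ i, cl i * cl i = 1) i)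
  have hi : Function.Injective j := fun a b e => cl_inj ((hj a).trans (e ▸ (hj b).symm))
  obtain ⟨j0, h0⟩ := c m h
  obtain ⟨i, rfl⟩ := Finite.injective_iff_surjective.1 hi j0
  obtain ⟨g, e⟩ := isConj_iff.1 (h0.trans (hj i).symm)
  refine ⟨g, e ▸ ?_⟩
  revert i
  intro i _ _
  fin_cases i <;> simp [cl]

end CfsgLib.S86
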