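import Cfsg.Agent.Lib.S86.Loc

/-! The frame (project S86, see plans/S86.md). -/

set_option autoImplicit false
set_option maxRecDepth 100000
set_option Elab.async false
set_option linter.unusedSectionVars false

namespace CfsgLib.S86

open Subgroup CfsgLib.W2 CfsgLib.Tech CfsgLib.PComp CfsgLib.Rec3C CfsgLib.Rec3C.V4
open CfsgLib.Rec3B (V81)
open CfsgLib.L72 (Nm IsQ Oc)

variable {G : Type*} [Group G] [Finite G]

theorem bld_act {ev : V81 →* G} {g : G} {w : GO} (h : Act4 ev g (act w x1) (act w x2) (act w x3) (act w x4))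
    (v : V81) : g * ev v * g⁻¹ = ev (act w v) :=
  DFunLike.congr_fun (hom_ext4 (f := (MulAut.conj g).toMonoidHom.comp ev) (g := ev.comp (actH w))
    h.1 h.2.1 h.2.2.1 h.2.2.2) v

theorem bld_mono : ∀ p ∈ L6, ∀ q ∈ L6, ∀ r ∈ L6, (∀ v, ap4 p q r x4 v = 1 → v = 1) → ∃ s, e48 s ∈ M4 ∧
    act (e48 s) x1 = p ∧ act (e48 s) x2 = q ∧ act (e48 s) x3 = r ∧ act (e48 s) x4 = x4 := by decide +kernel

theorem bld_vals : (act r1 x1 = x1⁻¹ ∧ act r1 x2 = x2 ∧ act r1 x3 = x3 ∧ act r1 x4 = x4) ∧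
    (act t12 x1 = x2 ∧ act t12 x2 = x1 ∧ act t12 x3 = x3 ∧ act t12 x4 = x4) ∧
    (act al x1 = x2 ∧ act al x2 = x3 ∧ act al x3 = x1 ∧ act al x4 = x4) ∧
    (act r4 x1 = x1 ∧ act r4 x2 = x2 ∧ act r4 x3 = x3 ∧ act r4 x4 = x4⁻¹) ∧
    (∀ v, act m1 v = v⁻¹) ∧ ∀ v : V81, v⁻¹ = v → v = 1 := by decide +kernel

theorem bld_M : Commute t1 (t1 * t2 * t3) ∧ Commute s12 (t1 * t2 * t3) ∧ Commute α0 (t1 * t2 * t3) ∧
    t1 * t2 * t3 * β1 * (t1 * t2 * t3)⁻¹ = β1⁻¹ ∧ t1 * t2 * t3 * β2 * (t1 * t2 * t3)⁻¹ = β2⁻¹ ∧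
    t1 * t2 * t3 * β3 * (t1 * t2 * t3)⁻¹ = β3⁻¹ := by decide +kernel

theorem exists_fr {b : G} {φ : SM →* G} {ev : V81 →* G} {Γ : Subgroup GO} (hΓ : Γ = M4 ∨ Γ = WF4 ∨ Γ = ⊤)
    (h : Bd b φ ev) (hp : Pat Γ b ev) (th : Th ev) : ∃ ι, Fr Γ ι φ := by
  have hM : M4 ≤ Γ := by
    rcases hΓ with rfl | rfl | rfl
    exacts [le_rfl, M4_le, le_top]
  obtain ⟨⟨a1, a2, a3, a4⟩, ⟨b1, b2, b3, b4⟩, ⟨c1, c2, c3, c4⟩, ⟨d1, d2, d3, d4⟩, em, e1⟩ := bld_vals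
  obtain ⟨k1, k2, k3, k4, k5, k6⟩ := bld_M
  obtain ⟨t, t2', tb, tφ⟩ := h.exists_t0 (hp.rw r4 (hM mem_M4.2.2.2.1))
  obtain ⟨τ, hτ⟩ : ∃ τ, τ = t * φ (t1 * t2 * t3) := ⟨_, rfl⟩
  have fx : ∀ {g a : G}, Commute g a → g * a * g⁻¹ = a := fun k => by rw [k.eq, mul_inv_cancel_right]
  have τφ : ∀ m, τ * φ m * τ⁻¹ = φ (t1 * t2 * t3 * m * (t1 * t2 * t3)⁻¹) := fun m => by
    rw [← fx (tφ (_ * m * _)), map_mul, map_mul, map_inv, hτ]
    group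
  have τv : ∀ v, τ * ev v * τ⁻¹ = (ev v)⁻¹ := fun v => by
    rw [← map_inv, ← em]
    refine bld_act ?_ v
    simp only [Act4, em, map_inv, h.v1, h.v2, h.v3, h.v4, τφ, k4, k5, k6, true_and]
    rw [← tb, hτ, mul_assoc t, ← (h.comm _).eq]
    group
  have cm : ∀ u v, ev u * ev v * (ev u)⁻¹ = ev v := fun u v => by
    rw [← map_mul, Rec3B.W4.V_comm, map_mul, mul_inv_cancel_right]
  have cB : ∀ g, (∀ v, g * ev v * g⁻¹ = ev v) → ∃ v, g = ev v := fun g hg => by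
    obtain ⟨k, v, e, m1, m2⟩ := h.cent_dec fun v => mul_inv_eq_iff_eq_mul.1 (hg v)
    exact ⟨v, by rw [e, th k m1 m2, one_mul]⟩
  have cA : ∀ (w : GO) g g', (∀ v, g * ev v * g⁻¹ = ev (act w v)) → (∀ v, g' * ev v * g'⁻¹ = ev (act w v)) →
      ∃ u, g = ev u * g' := fun w g g' m1 m2 => by
    obtain ⟨u, e⟩ := cB (g * g'⁻¹) fun v => by
      rw [← act_inv_act w v]
      conv_lhs => rw [← m2]
      rw [← m1]
      group
    exact ⟨u, by rw [← e, inv_mul_cancel_right]⟩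
  have ex : ∀ w ∈ Γ, ∃ g, Commute g τ ∧ ∀ v, g * ev v * g⁻¹ = ev (act w v) := fun w hw => by
    obtain ⟨g, hg⟩ := hp.rw w hw
    obtain ⟨u, e⟩ := cA m1 (g * τ * g⁻¹) τ (fun v => by
      rw [em, map_inv, ← act_inv_act w v, ← hg, (conj_inv : (g * ev _ * g⁻¹)⁻¹ = _), ← τv]
      group) fun v => by rw [τv, em, map_inv]
    refine ⟨ev u * g, mul_inv_eq_iff_eq_mul.1 ?_, fun v => by rw [← cm u (act w v), ← hg]; group⟩
    calc ev u * g * τ * (ev u * g)⁻¹ = ev u * (g * τ * g⁻¹) * (ev u)⁻¹ := by group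
      _ = ev u * ev u * (τ * ev u * τ⁻¹)⁻¹ * τ := by rw [e]; group
      _ = τ := by rw [τv, inv_inv, ← map_mul, ← map_mul, Rec3B.W4.V_cube, map_one, one_mul]
  choose! l lτ la using ex
  have un : ∀ w ∈ Γ, ∀ g, Commute g τ → (∀ v, g * ev v * g⁻¹ = ev (act w v)) → l w = g := fun w hw g m1 m2 => by
    obtain ⟨u, e⟩ := cA w (l w) g (la w hw) m2
    have m3 : Commute τ (ev u) := by
      rw [eq_mul_inv_of_mul_eq e.symm]
      exact ((lτ w hw).mul_left m1.inv_left).symm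
    rw [e, e1 u (h.einj (by rw [map_inv, ← τv, fx m3])), map_one, one_mul]
  have l1 : l 1 = 1 := un 1 (one_mem _) 1 (.one_left τ) fun v => by rw [act_one]; group
  have lm : ∀ w ∈ Γ, ∀ w' ∈ Γ, l (w * w') = l w * l w' := fun w hw w' hw' =>
    un _ (mul_mem hw hw') _ ((lτ w hw).mul_left (lτ w' hw')) fun v => by
      rw [mul_act, ← la w hw, ← la w' hw']
      group
  let ι : N4 → G := fun a => ev a.v * l a.w
  have ιv : ∀ v, ι (nv v) = ev v := fun v => (congrArg (ev v * ·) l1).trans (mul_one _)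
  have ιl : ∀ w, ι (nl w) = l w := fun w => (congrArg (· * l w) ev.map_one).trans (one_mul _)
  have ιa : ∀ a ∈ NG Γ, ∀ v, ι a * ev v * (ι a)⁻¹ = ev (act a.w v) := fun a ha v => by
    rw [← cm a.v (act a.w v), ← la a.w ha]
    simp only [ι]
    group
  have φτ : ∀ m, Commute m (t1 * t2 * t3) → Commute (φ m) τ := fun m k =>
    hτ ▸ (tφ m).symm.mul_right (k.map φ)
  have hJ : JG ι = ev.range := le_antisymm (gim_le.2 fun a ha => eq_nv ha ▸ ⟨a.v, (ιv _).symm⟩) (by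
    rintro _ ⟨v, rfl⟩
    exact ιv v ▸ mem_gim_of (nv_JV v))
  obtain ⟨m1, -, -, m2, -, -, m3⟩ := h.act_M
  have m4 : l r4 = t := un r4 (hM mem_M4.2.2.2.1) t (hτ ▸ (Commute.refl t).mul_right (tφ _)) (bld_act (by
    simp only [Act4, d1, d2, d3, d4, map_inv, h.v1, h.v2, h.v3, h.v4, fx (tφ _), tb, and_self]))
  refine ⟨ι, ⟨fun {a c} ha hc => ?_, fun {a c} ha hc e => ?_⟩, by rw [ιv, h.v4]; exact h.toCh0, hΓ,
    fun k => by rw [ιv, h.v4]; exact h.kt th, (ιv _).trans h.v1, (ιv _).trans h.v2, (ιv _).trans h.v3,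
    (ιl _).trans (un _ (hM mem_M4.1) _ (φτ _ k1) (bld_act (by rwa [a1, a2, a3, a4]))),
    (ιl _).trans (un _ (hM mem_M4.2.2.2.2.1) _ (φτ _ k2) (bld_act (by rwa [b1, b2, b3, b4]))),
    (ιl _).trans (un _ (hM mem_M4.2.2.2.2.2.2.2.2.2.2.1) _ (φτ _ k3) (bld_act (by rwa [c1, c2, c3, c4]))),
    by rw [ιl, m4]; exact tφ, ?_, fun v => by rw [ιv, ιv, h.v4]; exact hp.oc v⟩
  · simp only [ι, N4.mul_v, N4.mul_w]
    rw [lm a.w ha c.w hc, map_mul, ← la a.w ha]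
    group
  · have e2 : a.w = c.w := by
      have k : ∀ v, act a.w v = act c.w v := fun v => h.einj (by rw [← ιa a ha, ← ιa c hc, e])
      exact act_ext (k _) (k _) (k _) (k _)
    simp only [ι, e2, mul_left_inj] at e
    exact N4.ext (h.einj e) e2
  rw [NJG, hJ]
  refine le_antisymm (fun g hg => ?_) (gim_le.2 fun a ha => nm_of_act4 ⟨ιa a ha _, ιa a ha _, ιa a ha _, ιa a ha _⟩)
  obtain ⟨p, q, r, s, hg⟩ := act4_of_nm hg
  obtain ⟨w, hw, e⟩ := hp.oc s (.inl (isConj_iff.2 ⟨g, h.v4 ▸ hg.2.2.2⟩))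
  have k : ∀ {x y}, g * ev x * g⁻¹ = ev y → l w⁻¹ * g * ev x * (l w⁻¹ * g)⁻¹ = ev (act w⁻¹ y) := fun k => by
    rw [← la _ (inv_mem hw), ← k]
    group
  have k' : Act4 ev (l w⁻¹ * g) (act w⁻¹ p) (act w⁻¹ q) (act w⁻¹ r) x4 :=
    ⟨k hg.1, k hg.2.1, k hg.2.2.1, by rw [k hg.2.2.2, ← e, inv_act_act]⟩
  obtain ⟨n1, n2, n3⟩ := h.viol ⟨_, k'⟩ (.inl rfl)
  obtain ⟨σ, hσ, o1, o2, o3, o4⟩ := bld_mono _ n1 _ n2 _ n3 fun v e => h.einj (by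
    rw [map_one, ← conj_eq_one_iff, k'.ap, e, map_one])
  obtain ⟨u, e2⟩ := cA (e48 σ) _ _ (bld_act (by rwa [o1, o2, o3, o4])) (la _ (hM hσ))
  rw [eq_inv_mul_of_mul_eq e2, ← ιl, ← ιl, ← ιv]
  exact mul_mem (inv_mem (mem_gim_of (nl_mem (inv_mem hw)))) (mul_mem (mem_gim_of (nv_mem Γ u))
    (mem_gim_of (nl_mem (hM hσ))))

end CfsgLib.S86
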