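import Cfsg.Agent.Lib.S86.Lin1
import Cfsg.Agent.Lib.S86.Witt

/-! The natural module: the group is `Sp₆(2)` (project S86, see plans/S86.md). -/

set_option autoImplicit false
set_option maxRecDepth 100000
set_option Elab.async false
set_option linter.unusedSectionVars false

namespace CfsgLib.S86

open Subgroup CfsgLib.W2 CfsgLib.Tech CfsgLib.PComp CfsgLib.Rec3C CfsgLib.Rec3C.V4
open CfsgLib.Rec3B (V81)
open CfsgLib.L72 (Nm IsQ Oc)

variable {G : Type*} [Group G] [Finite G]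

namespace Lin2

/-- an abstract action on the vectors -/
structure Act (H Q : Subgroup G) (l : G → E64 →* E64) : Prop where
  mul : ∀ g ∈ H, ∀ k ∈ H, ∀ v, l (g * k) v = l g (l k v)
  ker : ∀ g ∈ H, (∀ v, l g v = v) ↔ g ∈ Q

theorem bf_e2 : ∀ v : E64, sa β2 v = v → bf v e2 = false := by decide +kernel

theorem tau_W : ∀ v : E64, sa β2 ((if bf v e2 = true then v * e1 else v) * v) = (if bf v e2 = true then v * e1 else v) * v ∧
    sa β3 ((if bf v e2 = true then v * e1 else v) * v) = (if bf v e2 = true then v * e1 else v) * v := by decide +kernel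

theorem e12 : e1 ≠ 1 ∧ e2 ≠ 1 ∧ e1 ≠ e2 ∧ bf e1 e2 = false ∧ (if bf f2 e2 = true then f2 * e1 else f2) ≠ f2 := by
  decide +kernel

theorem βc : Commute β1 β2 ∧ Commute β1 β3 ∧ Commute β2 β3 := by decide +kernel

theorem fix_sa {m n : SM} (c : Commute m n) {v : E64} (h : sa n v = v) : sa n (sa m v) = sa m v := by
  rw [← mul_sa, ← c.eq, mul_sa, h]

variable {H Q : Subgroup G} {l : G → E64 →* E64} (A : Act H Q l)
include A

theorem Act.one (v : E64) : l 1 v = v := (A.ker 1 (one_mem _)).2 (one_mem _) v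

theorem Act.il {g : G} (hg : g ∈ H) (v : E64) : l g⁻¹ (l g v) = v := by
  rw [← A.mul _ (inv_mem hg) _ hg, inv_mul_cancel, A.one]

theorem Act.li {g : G} (hg : g ∈ H) (v : E64) : l g (l g⁻¹ v) = v := by
  rw [← A.mul _ hg _ (inv_mem hg), mul_inv_cancel, A.one]

theorem Act.inv {g : G} (hg : g ∈ H) {m : SM} (e : l g = saH m) (v : E64) : l g⁻¹ v = sa m⁻¹ v := by
  conv_lhs => rw [← sa_inv_sa m v]
  exact (congrArg _ (DFunLike.congr_fun e _).symm).trans (A.il hg _)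

theorem Act.cj {g k : G} (hg : g ∈ H) (hk : k ∈ H) (v : E64) : l (g * k * g⁻¹) v = l g (l k (l g⁻¹ v)) := by
  rw [A.mul _ (mul_mem hg hk) _ (inv_mem hg), A.mul _ hg _ hk]

/-- the elements of the model that are induced by `H` -/
def Act.S0 : Subgroup SM where
  carrier := {m | ∃ g ∈ H, l g = saH m}
  one_mem' := ⟨1, one_mem _, MonoidHom.ext fun v => (A.one v).trans (one_sa v).symm⟩
  mul_mem' := by
    rintro m n ⟨g, hg, e⟩ ⟨k, hk, e'⟩
    exact ⟨g * k, mul_mem hg hk, MonoidHom.ext fun v => by rw [A.mul _ hg _ hk, e, e']; exact (mul_sa m n v).symm⟩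
  inv_mem' := by
    rintro m ⟨g, hg, e⟩
    exact ⟨g⁻¹, inv_mem hg, MonoidHom.ext (A.inv hg e)⟩

/-- a 2-subgroup normalised by `x, y, z` -/
def Act.R : Subgroup G where
  carrier := {g | g ∈ H ∧ (∀ v, sa β2 v = v → l g v = v) ∧
    ∀ v, sa β2 (l g v * v) = l g v * v ∧ sa β3 (l g v * v) = l g v * v}
  one_mem' := ⟨one_mem _, fun v _ => A.one v, fun v => by rw [A.one, E_sq, sa_one, sa_one]; exact ⟨rfl, rfl⟩⟩
  mul_mem' := by
    rintro g k ⟨hg, g1, g2⟩ ⟨hk, k1, k2⟩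
    refine ⟨mul_mem hg hk, fun v hv => by rw [A.mul _ hg _ hk, k1 v hv, g1 v hv], fun v => ?_⟩
    have e : l (g * k) v * v = l g (l k v) * l k v * (l k v * v) := by
      rw [A.mul _ hg _ hk, mul_assoc, ← mul_assoc (l k v), E_sq, one_mul]
    rw [e, sa_mul, sa_mul β3, (g2 _).1, (g2 _).2, (k2 _).1, (k2 _).2]
    exact ⟨rfl, rfl⟩
  inv_mem' := by
    rintro g ⟨hg, g1, g2⟩
    refine ⟨inv_mem hg, fun v hv => ?_, fun v => ?_⟩
    · conv_lhs => rw [← g1 v hv]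
      exact A.il hg v
    · have := g2 (l g⁻¹ v)
      rwa [A.li hg, E_comm v] at this

theorem Act.R_two (hQ : IsPGroup 2 Q) : IsPGroup 2 A.R := isPGroup_iff_mem.2 fun g ⟨hg, g1, g2⟩ => by
  obtain ⟨k, hk⟩ := isPGroup_iff_mem.1 hQ (g * g) ((A.ker _ (mul_mem hg hg)).1 fun v => by
    have := g1 _ (g2 v).1
    rwa [map_mul, E_comm (l g v) v, mul_left_inj, ← A.mul _ hg _ hg] at this)
  exact ⟨k + 1, by rw [pow_succ', pow_mul, pow_two, hk]⟩

theorem Act.R_norm {b : G} (hb : b ∈ H) {m : SM} (e : l b = saH m) (c2 : Commute m β2) (c3 : Commute m β3) :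
    b ∈ Nm A.R := mem_normalizer_of_forall fun g ⟨hg, g1, g2⟩ => by
  have k : ∀ v, l (b * g * b⁻¹) v = sa m (l g (sa m⁻¹ v)) := fun v => by rw [A.cj hb hg, A.inv hb e, e]; rfl
  refine ⟨mul_mem (mul_mem hb hg) (inv_mem hb), fun v hv => by rw [k, g1 _ (fix_sa c2.inv_left hv), sa_inv_sa],
    fun v => ?_⟩
  have e' : l (b * g * b⁻¹) v * v = sa m (l g (sa m⁻¹ v) * sa m⁻¹ v) := by rw [k, sa_mul, sa_inv_sa]
  rw [e']
  exact ⟨fix_sa c2 (g2 _).1, fix_sa c3 (g2 _).2⟩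

theorem Act.isom (hS : A.S0 = ⊤) (hR : A.R ≤ Q) {g : G} (hg : g ∈ H) (u v : E64) : bf (l g u) (l g v) = bf u v := by
  obtain ⟨q, hq⟩ := exists_dual (fun w => bf (l g⁻¹ w) v) fun a b => by rw [map_mul, bf_mul]
  suffices l g v = q by rw [this, ← hq, A.il hg]
  by_contra hne
  have b1 : ∀ w, bf w 1 = false := bf_one
  have q1 : q ≠ 1 := by
    rintro rfl
    refine hne ?_
    rw [bf_ext (u := v) (v := 1) fun w => by
      rw [bf_comm, ← A.il hg w, hq, b1, bf_comm, b1], map_one]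
  have p1 : l g v ≠ 1 := fun e => q1 (bf_ext fun w => by
    rw [bf_comm, ← hq, ← A.il hg v, e, map_one, b1, bf_comm, b1])
  obtain ⟨m, m1, m2⟩ := witt_perp p1 q1 hne (by rw [← hq, A.il hg, bf_self]) e12.1 e12.2.1 e12.2.2.1 e12.2.2.2.1
  obtain ⟨j, hj, ej⟩ := hS.ge (mem_top m)
  obtain ⟨k, hk, ek⟩ := hS.ge (mem_top (tv v))
  have mH := mul_mem (mul_mem hg hk) (inv_mem hg)
  have τ : ∀ w, l (j * (g * k * g⁻¹) * j⁻¹) w = if bf w e2 = true then w * e1 else w := fun w => by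
    rw [A.cj hj mH, A.cj hg hk, A.inv hj ej, ej, ek, ← m2, ← bf_sa m⁻¹, inv_sa_sa, ← hq]
    change sa m (l g (sa (tv v) _)) = _
    rw [sa_tv]
    split_ifs
    · rw [map_mul, A.li hg, sa_mul, sa_inv_sa, m1]
    · rw [A.li hg, sa_inv_sa]
  have mH' := mul_mem (mul_mem hj mH) (inv_mem hj)
  have := (A.ker _ mH').2 (hR ⟨mH', fun w hw => by rw [τ, bf_e2 w hw]; rfl, fun w => by rw [τ]; exact tau_W w⟩) f2
  rw [τ] at this
  exact e12.2.2.2.2 this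

end Lin2

open Lin2

theorem lin_rho {H Q : Subgroup G} {u f x y z r S S' a : G} (h : LinD H Q u f x y z r S S' a) :
    ∃ (ψ : E64 →* G) (ρ : G → SM), Rho H Q u ψ ρ ∧ ψ e1 = f ∧ ψ f1 = x * f * x⁻¹ ∧ ψ e2 = S * f * S⁻¹ ∧
      ψ f2 = y * (S * f * S⁻¹) * y⁻¹ ∧ ψ e3 = S' * (S * f * S⁻¹) * S'⁻¹ ∧ ψ f3 = z * (S' * (S * f * S⁻¹) * S'⁻¹) * z⁻¹ ∧
      (∀ g, g ∈ AA u f x y z S S' ↔ ∃ v, g = ψ v ∨ g = u * ψ v) ∧
      ρ x = β1 ∧ ρ y = β2 ∧ ρ z = β3 ∧ ρ r = t1 ∧ ρ S = s12 ∧ ρ S' = s23 ∧ ρ a = tv (e1 * e2) := by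
  obtain ⟨ψ, l, p1, p2, p3, p4, p5, p6, mA, ind, act, lmul, lker, lx, ly, lz, lr, lS, lS', la⟩ := lin_coord h
  have A : Act H Q l := ⟨lmul, lker⟩
  have hS : A.S0 = ⊤ := gen6 ⟨r, h.rH, lr⟩ ⟨x, h.xH, lx⟩ ⟨y, h.yH, ly⟩ ⟨z, h.zH, lz⟩ ⟨S, h.SH, lS⟩ ⟨S', h.SH', lS'⟩
    ⟨a, h.aH, la⟩
  have hR : A.R ≤ Q := h.max _ (A.R_two h.Q2) (fun _ hg => hg.1) (A.R_norm h.xH lx βc.1 βc.2.1)
    (A.R_norm h.yH ly (Commute.refl _) βc.2.2) (A.R_norm h.zH lz βc.2.2.symm (Commute.refl _))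
  obtain ⟨ρ, hρ⟩ : ∃ ρ : G → SM, ∀ g ∈ H, ∀ v, sa (ρ g) v = l g v := by
    refine (Classical.skolem (p := fun g (m : SM) => g ∈ H → ∀ v, sa m v = l g v)).1 fun g => ?_
    by_cases hg : g ∈ H
    · exact (exists_of_hom (l g) (A.isom hS hR hg)).imp fun _ e _ => e
    · exact ⟨1, fun e => absurd e hg⟩
  have val : ∀ {g : G} {m : SM}, g ∈ H → l g = saH m → ρ g = m := fun hg e =>
    sa_ext' fun v => (hρ _ hg v).trans (DFunLike.congr_fun e v)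
  refine ⟨ψ, ρ, ⟨fun g hg k hk => sa_ext' fun v => ?_, fun m => ?_, fun g hg => ?_, h.QH, h.Q2, ind,
    fun g hg v => hρ g hg v ▸ act g hg v⟩, p1, p2, p3, p4, p5, p6, mA, val h.xH lx, val h.yH ly, val h.zH lz,
    val h.rH lr, val h.SH lS, val h.SH' lS', val h.aH la⟩
  · rw [mul_sa, hρ _ (mul_mem hg hk), hρ _ hg, hρ _ hk, lmul _ hg _ hk]
  · obtain ⟨g, hg, e⟩ := hS.ge (mem_top m)
    exact ⟨g, hg, val hg e⟩
  · rw [← lker g hg]
    exact ⟨fun e v => by rw [← hρ g hg, e, one_sa], fun e => sa_ext' fun v => by rw [hρ g hg, e, one_sa]⟩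

end CfsgLib.S86
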