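import Cfsg.Agent.Lib.S86.MB

/-! The signalizers of the model (project S86, see plans/S86.md). -/

set_option autoImplicit false
set_option maxRecDepth 100000
set_option Elab.async false
set_option linter.unusedSectionVars false

namespace CfsgLib.S86

open Subgroup CfsgLib.W2 CfsgLib.Tech CfsgLib.PComp CfsgLib.Rec3C CfsgLib.Rec3C.V4
open CfsgLib.Rec3B (V81)
open CfsgLib.L72 (Nm IsQ Oc)

variable {G : Type*} [Group G] [Finite G]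

theorem gu_facts : ∀ u ∈ [e1, f1, e1 * f1, e2, f2, e2 * f2], gu e3 u * gu e3 u = 1 ∧ gu e3 u ≠ 1 ∧ Commute (gu e3 u) t3 ∧
    ∀ v ∈ [e1, f1, e1 * f1, e2, f2, e2 * f2], Commute (gu e3 u) (gu e3 v) := by
  decide +kernel

theorem md_c {s x q : SM} (e : s * x * s⁻¹ = β3) (h : Commute q x) :
    ∃ (p : PG 6) (i : Fin 3), q = s⁻¹ * (β3 ^ i.1 * κ p) * s := by
  obtain ⟨i, p, e'⟩ := cβ3 (e ▸ mb_cj s h)
  obtain ⟨j, k⟩ := mb_mod mb_β.2.2.1 i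
  exact ⟨p, j, by rw [← k, ← e']; group⟩

/-- no elements of order 3 among `q ^ 4`, `[q, y]` -/
def md_P (q y : SM) : Prop := ((q ^ 4) ^ 3 = 1 → q ^ 4 = 1) ∧ ((q * (y * q⁻¹ * y⁻¹)) ^ 3 = 1 → q * (y * q⁻¹ * y⁻¹) = 1)

noncomputable instance (q y : SM) : Decidable (md_P q y) := by unfold md_P; infer_instance

theorem md_p {N : Subgroup SM} (h : (Nat.card N).Coprime 3) {q y : SM} (hq : q ∈ N) (hy : y ∈ Nm N) : md_P q y :=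
  ⟨mb_one h (pow_mem hq 4), mb_one h (mul_mem hq (conj_mem_of_mem_normalizer hy (Subgroup.inv_mem _ hq)))⟩

/-- the `3'`-subgroups of `C(t3)` normalised by `β1, β2` -/
theorem mv {N : Subgroup SM} (h : (Nat.card N).Coprime 3) (hc : N ≤ Cx t3) (h1 : β1 ∈ Nm N) (h2 : β2 ∈ Nm N) :
    N ≤ Va ⊔ Vb := by
  have w : ∀ {a b q : SM}, (∃ i j k : Fin 2, q = t3 ^ i.1 * a ^ j.1 * b ^ k.1) → q ∈ closure ({t3, a, b} : Set SM) :=
    fun ⟨i, j, k, e⟩ => e ▸ mul_mem (mul_mem (pow_mem (subset_closure (by simp)) _) (pow_mem (subset_closure (by simp)) _))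
      (pow_mem (subset_closure (by simp)) _)
  have c : ∀ q ∈ N, q ∈ Nm B0 → q ∈ Va ⊔ Vb := fun q hq hn => by
    obtain ⟨u, hu, e⟩ := c12 (mb_comm h hq hn mb_mem.1 h1) (mb_comm h hq hn mb_mem.2.1 h2)
    obtain ⟨i, j, k, rfl⟩ := mem_B0.1 hu
    have k1 : ∀ i j k : Fin 3, ∀ t ∈ [1, t3], md_P (β1 ^ i.1 * β2 ^ j.1 * β3 ^ k.1 * t) 1 →
        Commute (β1 ^ i.1 * β2 ^ j.1 * β3 ^ k.1 * t) t3 → ∃ a b c : Fin 2, β1 ^ i.1 * β2 ^ j.1 * β3 ^ k.1 * t =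
          t3 ^ a.1 * gu e3 e1 ^ b.1 * gu e3 f1 ^ c.1 := by decide +kernel
    have k2 := md_p h hq (one_mem _)
    have k3 := mem_Cx.1 (hc hq)
    refine mem_sup_left (w ?_)
    rcases e with e | e
    · rw [← mul_one (_ * _ * _)] at e
      subst e
      exact k1 i j k 1 (by simp) k2 k3
    · subst e
      exact k1 i j k t3 (by simp) k2 k3
  refine gen9' h mb_β.1 mb_β.2.1 mb_β.2.2.2.1 h1 h2 (fun q hq hx => ?_) (fun q hq hx => ?_)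
    (fun q hq hx => c q hq (mb_nc (by simp) hx)) fun q hq hx => c q hq (mb_nc (by simp) hx)
  · obtain ⟨p, i, rfl⟩ := md_c (s := s13) (by decide +kernel) hx
    exact mem_sup_right (w (PG.forall_of_dec (P := fun p : PG 6 => ∀ i : Fin 3,
      Commute (s13⁻¹ * (β3 ^ i.1 * κ p) * s13) t3 → md_P (s13⁻¹ * (β3 ^ i.1 * κ p) * s13) β2 → ∃ a b c : Fin 2,
        s13⁻¹ * (β3 ^ i.1 * κ p) * s13 = t3 ^ a.1 * gu e3 e2 ^ b.1 * gu e3 f2 ^ c.1) (by decide +kernel) p i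
      (mem_Cx.1 (hc hq)) (md_p h hq h2)))
  · obtain ⟨p, i, rfl⟩ := md_c (s := s23) (by decide +kernel) hx
    exact mem_sup_left (w (PG.forall_of_dec (P := fun p : PG 6 => ∀ i : Fin 3,
      Commute (s23⁻¹ * (β3 ^ i.1 * κ p) * s23) t3 → md_P (s23⁻¹ * (β3 ^ i.1 * κ p) * s23) β1 → ∃ a b c : Fin 2,
        s23⁻¹ * (β3 ^ i.1 * κ p) * s23 = t3 ^ a.1 * gu e3 e1 ^ b.1 * gu e3 f1 ^ c.1) (by decide +kernel) p i
      (mem_Cx.1 (hc hq)) (md_p h hq h1)))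

/-- the elements of `Vs` -/
noncomputable def mdL : List SM := [κ (PG.pl [0, 1, 2, 3, 4, 5]), κ (PG.pl [3, 1, 2, 0, 4, 5]), κ (PG.pl [0, 4, 2, 3, 1, 5]),
  κ (PG.pl [0, 1, 5, 3, 4, 2]), κ (PG.pl [3, 4, 2, 0, 1, 5]), κ (PG.pl [3, 1, 5, 0, 4, 2]), κ (PG.pl [0, 4, 5, 3, 1, 2]),
  κ (PG.pl [3, 4, 5, 0, 1, 2])]

theorem md_mem {m : SM} : m ∈ Vs ↔ m ∈ mdL := by
  refine ⟨fun h => ?_, fun h => ?_⟩
  · have k : ∀ g ∈ [s12, s12 * κ (PG.pl [3, 1, 2, 0, 4, 5]), s12 * κ (PG.pl [0, 4, 2, 3, 1, 5])], ∀ m ∈ mdL,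
        g * m ∈ mdL ∧ g⁻¹ * m ∈ mdL := by decide +kernel
    induction h using closure_induction_left with
    | one => decide +kernel
    | mul_left x hx y _ ih => exact (k x (by simpa using hx) y ih).1
    | inv_mul_cancel x hx y _ ih => exact (k x (by simpa using hx) y ih).2
  · have k : ∀ m ∈ mdL, ∃ i j k : Fin 2, m = s12 ^ i.1 * (s12 * κ (PG.pl [3, 1, 2, 0, 4, 5])) ^ j.1 *
        (s12 * κ (PG.pl [0, 4, 2, 3, 1, 5])) ^ k.1 := by decide +kernel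
    obtain ⟨i, j, l, rfl⟩ := k m h
    exact mul_mem (mul_mem (pow_mem (subset_closure (by simp)) _) (pow_mem (subset_closure (by simp)) _))
      (pow_mem (subset_closure (by simp)) _)

theorem mem_Vs {m : SM} : m ∈ Vs ↔ ∃ p ∈ [PG.pl [0, 1, 2, 3, 4, 5], PG.pl [3, 1, 2, 0, 4, 5], PG.pl [0, 4, 2, 3, 1, 5],
    PG.pl [0, 1, 5, 3, 4, 2], PG.pl [3, 4, 2, 0, 1, 5], PG.pl [3, 1, 5, 0, 4, 2], PG.pl [0, 4, 5, 3, 1, 2],
    PG.pl [3, 4, 5, 0, 1, 2]], m = κ p := by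
  simp only [md_mem, mdL, List.mem_cons, List.not_mem_nil, or_false, exists_eq_or_imp, exists_eq_left]

theorem card_Vs : Nat.card Vs = 8 := by
  rw [← SetLike.coe_sort_coe, show (Vs : Set SM) = mdL.toFinset from Set.ext fun m => by simp [md_mem],
    Nat.card_coe_set_eq, Set.ncard_coe_finset]
  decide +kernel

theorem Vs_facts : ∀ m ∈ Vs, m * m = 1 ∧ Commute m s12 ∧ Commute m β3 ∧ Commute m t3 ∧ (Commute m c0 → m = 1 ∨ m = s12) ∧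
    (∀ k ∈ Vs, Commute m k) ∧ ∀ q ∈ Q0, Commute m q := by
  simp only [md_mem, mem_Q0]
  decide +kernel

theorem c0_nVs : c0 ∈ Nm Vs := by
  refine mem_normalizer_of_cj_le (cj_le_iff.2 ?_)
  simp only [md_mem]
  decide +kernel

theorem irr_Vs {N : Subgroup SM} (h : N ≤ Vs) (hn : c0 ∈ Nm N) : N ≤ zpowers s12 ∨ Vs ≤ N ⊔ zpowers s12 := by
  refine or_iff_not_imp_left.2 fun hN m hm => ?_
  obtain ⟨n, h1, h2⟩ := SetLike.not_le_iff_exists.1 hN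
  have k : ∀ n ∈ mdL, n ≠ 1 → n ≠ s12 → ∀ m ∈ mdL, ∃ i j k : Fin 2,
      m = n ^ i.1 * (c0 * n * c0⁻¹) ^ j.1 * s12 ^ k.1 := by decide +kernel
  obtain ⟨i, j, l, rfl⟩ := k n (md_mem.1 (h h1)) (fun e => h2 (e ▸ one_mem _)) (fun e => h2 (e ▸ mem_zpowers _)) m
    (md_mem.1 hm)
  exact mul_mem (mem_sup_left (mul_mem (pow_mem h1 _) (pow_mem (conj_mem_of_mem_normalizer hn h1) _)))
    (mem_sup_right (pow_mem (mem_zpowers _) _))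

theorem mw1 {N : Subgroup SM} (h : (Nat.card N).Coprime 3) (hc : N ≤ Cx s12 ⊓ Cx β3) (hn : c0 ∈ Nm N) : N ≤ Vs := by
  intro q hq
  obtain ⟨p, i, rfl⟩ := md_c (s := 1) (by simp) (mem_Cx.1 (hc hq).2)
  exact md_mem.2 (PG.forall_of_dec (P := fun p : PG 6 => ∀ i : Fin 3,
    Commute (1⁻¹ * (β3 ^ i.1 * κ p) * 1) s12 → md_P (1⁻¹ * (β3 ^ i.1 * κ p) * 1) c0 → 1⁻¹ * (β3 ^ i.1 * κ p) * 1 ∈ mdL)
    (by decide +kernel) p i (mem_Cx.1 (hc hq).1) (md_p h hq hn))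

theorem mw2 {N : Subgroup SM} (h : (Nat.card N).Coprime 3) (hc : N ≤ Cx s12 ⊓ Cx c0) (hn : β3 ∈ Nm N) :
    N ≤ zpowers s12 := by
  intro q hq
  obtain ⟨p, i, rfl⟩ := md_c (s := 1) (by simp) (mb_comm h hq (mb_nc (w := β1 * β2) (by simp)
    (vals.2.2.2.2.1 ▸ mem_Cx.1 (hc hq).2)) mb_mem.2.2 hn)
  rcases PG.forall_of_dec (P := fun p : PG 6 => ∀ i : Fin 3,
    Commute (1⁻¹ * (β3 ^ i.1 * κ p) * 1) s12 → Commute (1⁻¹ * (β3 ^ i.1 * κ p) * 1) c0 →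
      md_P (1⁻¹ * (β3 ^ i.1 * κ p) * 1) 1 → 1⁻¹ * (β3 ^ i.1 * κ p) * 1 = 1 ∨ 1⁻¹ * (β3 ^ i.1 * κ p) * 1 = s12)
    (by decide +kernel) p i (mem_Cx.1 (hc hq).1) (mem_Cx.1 (hc hq).2) (md_p h hq (one_mem _)) with e | e <;> rw [e]
  exacts [one_mem _, mem_zpowers _]

theorem mw3 {N : Subgroup SM} (h : (Nat.card N).Coprime 3) (hc : N ≤ Cx s12 ⊓ Cx z0) : N ≤ Q0 := by
  intro m hm
  obtain ⟨q, hq, i, j, e⟩ := cz0s (mem_Cx.1 (hc hm).2) (mem_Cx.1 (hc hm).1)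
  obtain ⟨a, ha⟩ := mb_mod (x := z0) (by decide +kernel) i
  obtain ⟨b, hb⟩ := mb_mod mb_β.2.2.1 j
  rw [ha, hb] at e
  subst e
  have k : ∀ q ∈ [1, s12, q1, q1⁻¹, q2, q2⁻¹, q1 * q2, q2 * q1], ∀ a b : Fin 3, md_P (q * z0 ^ a.1 * β3 ^ b.1) 1 →
      q * z0 ^ a.1 * β3 ^ b.1 ∈ [1, s12, q1, q1⁻¹, q2, q2⁻¹, q1 * q2, q2 * q1] := by decide +kernel
  exact mem_Q0.2 (k q (mem_Q0.1 hq) a b (md_p h hm (one_mem _)))

end CfsgLib.S86
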