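import Cfsg.Agent.Lib.S86.Defs
import Cfsg.Agent.Lib.L72.Gen
import Cfsg.Agent.Lib.L72.GenT
import Cfsg.Agent.Lib.Coprime.Generation

/-! Coprime generation, rank, transfer (project S86, see plans/S86.md). -/

set_option autoImplicit false
set_option maxRecDepth 100000
set_option Elab.async false
set_option linter.unusedSectionVars false

namespace CfsgLib.S86

open Subgroup CfsgLib.W2 CfsgLib.Tech CfsgLib.PComp CfsgLib.Rec3C CfsgLib.Rec3C.V4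
open CfsgLib.Rec3B (V81)
open CfsgLib.L72 (Nm IsQ Oc)

variable {G : Type*} [Group G] [Finite G]

theorem cop_two {Q : Subgroup G} (h : IsPGroup 2 Q) : (Nat.card Q).Coprime 3 := by
  have := Fact.mk Nat.prime_two
  obtain ⟨b, hb⟩ := IsPGroup.iff_card.1 h
  rw [hb]
  exact Nat.Coprime.pow_left _ (by norm_num)

private theorem gen_cop {A Q : Subgroup G} {p : ℕ} [Fact p.Prime] (hA : IsPGroup p A) (hQ : (Nat.card Q).Coprime p) :
    (Nat.card A).Coprime (Nat.card Q) := by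
  obtain ⟨a, ha⟩ := IsPGroup.iff_card.1 hA
  rw [ha]
  exact Nat.Coprime.pow_left _ hQ.symm

theorem gen9' {Q D : Subgroup G} (hQ : (Nat.card Q).Coprime 3) {x y : G} (hx : x ^ 3 = 1) (hy : y ^ 3 = 1)
    (hxy : Commute x y) (hxQ : x ∈ Nm Q) (hyQ : y ∈ Nm Q)
    (h1 : ∀ q ∈ Q, Commute q x → q ∈ D) (h2 : ∀ q ∈ Q, Commute q y → q ∈ D)
    (h3 : ∀ q ∈ Q, Commute q (x * y) → q ∈ D) (h4 : ∀ q ∈ Q, Commute q (x * y⁻¹) → q ∈ D) : Q ≤ D := by
  have := Fact.mk Nat.prime_three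
  have xi : x ^ 2 = x⁻¹ := by rw [eq_inv_iff_mul_eq_one, ← pow_succ, hx]
  have yi : y ^ 2 = y⁻¹ := by rw [eq_inv_iff_mul_eq_one, ← pow_succ, hy]
  have cube : ∀ g ∈ closure ({x, y} : Set G), g ^ 3 = 1 := fun g hg => by
    obtain ⟨i, j, -, -, rfl⟩ := L72.Gen_mem hx hy hxy hg
    rw [(hxy.pow_pow i j).mul_pow, ← pow_mul, ← pow_mul, mul_comm i, mul_comm j, pow_mul, pow_mul, hx, hy]
    simp
  have hcm : IsMulCommutative (closure ({x, y} : Set G)) := ⟨⟨fun a b => Subtype.ext (by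
    obtain ⟨i, j, -, -, e1⟩ := L72.Gen_mem hx hy hxy a.2
    obtain ⟨k, l, -, -, e2⟩ := L72.Gen_mem hx hy hxy b.2
    have c : Commute (x ^ i * y ^ j) (x ^ k * y ^ l) :=
      (((Commute.refl x).pow_pow _ _).mul_right (hxy.pow_pow _ _)).mul_left
        ((hxy.symm.pow_pow _ _).mul_right ((Commute.refl y).pow_pow _ _))
    simp only [coe_mul, e1, e2]
    exact c)⟩⟩
  have hP : IsPGroup 3 (closure ({x, y} : Set G)) := fun g => ⟨1, Subtype.ext (by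
    simpa using cube g g.2)⟩
  have key : ∀ g ∈ closure ({x, y} : Set G), g ≠ 1 → ∀ q ∈ Q, Commute q g → q ∈ D := by
    intro g hg hne q hq c
    obtain ⟨i, j, hi, hj, rfl⟩ := L72.Gen_mem hx hy hxy hg
    interval_cases i <;> interval_cases j <;>
      simp only [pow_zero, pow_one, one_mul, mul_one, xi, yi] at c hne
    · exact absurd rfl hne
    · exact h2 q hq c
    · exact h2 q hq (Commute.inv_right_iff.1 c)
    · exact h1 q hq c
    · exact h3 q hq c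
    · exact h4 q hq c
    · exact h1 q hq (Commute.inv_right_iff.1 c)
    · refine h4 q hq (Commute.inv_right_iff.1 ?_)
      rwa [mul_inv_rev, inv_inv, ← hxy.inv_left.eq]
    · refine h3 q hq (Commute.inv_right_iff.1 ?_)
      rwa [mul_inv_rev, ← hxy.inv_inv.eq]
  refine Coprime.le_of_forall_cyclic_quotient (A := closure {x, y})
    ((closure_le _).2 (by rintro _ (rfl | rfl) <;> assumption)) (gen_cop hP hQ) ?_
  rintro B hBA ⟨a, ha, hB⟩
  by_cases hb : B = ⊥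
  · subst hb
    rw [bot_sup_eq] at hB
    have a3 := cube a ha
    have hm : ∀ g ∈ zpowers a, g = 1 ∨ g = a ∨ g = a⁻¹ := by
      intro g hg
      rw [← mem_powers_iff_mem_zpowers] at hg
      obtain ⟨n, rfl⟩ := hg
      simp only
      rw [pow_eq_pow_mod n a3]
      have : n % 3 < 3 := Nat.mod_lt _ (by norm_num)
      interval_cases n % 3
      · simp
      · simp
      · right; right; rw [eq_inv_iff_mul_eq_one, ← pow_succ, a3]
    rintro q ⟨hq, -⟩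
    rcases hm x (hB ▸ subset_closure (by simp)) with ex | ex | ex
    · exact h1 q hq (ex ▸ Commute.one_right q)
    · rcases hm y (hB ▸ subset_closure (by simp)) with ey | ey | ey
      · exact h2 q hq (ey ▸ Commute.one_right q)
      · exact h4 q hq (by rw [ex, ey]; simp)
      · exact h3 q hq (by rw [ex, ey]; simp)
    · rcases hm y (hB ▸ subset_closure (by simp)) with ey | ey | ey
      · exact h2 q hq (ey ▸ Commute.one_right q)
      · exact h3 q hq (by rw [ex, ey]; simp)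
      · exact h4 q hq (by rw [ex, ey]; simp)
  · obtain ⟨⟨b, hb⟩, hb1⟩ := ne_bot_iff_exists_ne_one.mp hb
    rintro q ⟨hq, hc⟩
    exact key b (hBA hb) (fun h => hb1 (Subtype.ext h)) q hq (hc b hb).symm

theorem gen27 {Q D : Subgroup G} (hQ : (Nat.card Q).Coprime 3) {x y z : G} (hx : x ^ 3 = 1) (hy : y ^ 3 = 1)
    (hz : z ^ 3 = 1) (hxy : Commute x y) (hxz : Commute x z) (hyz : Commute y z) (hxQ : x ∈ Nm Q) (hyQ : y ∈ Nm Q)
    (hzQ : z ∈ Nm Q) (h : ∀ p ∈ pl13 x y z, ∀ q ∈ Q, Commute q p.1 → Commute q p.2 → q ∈ D) : Q ≤ D := by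
  have aux : ∀ w w' : G, w' ^ 3 = 1 → Commute w' z → Commute w' w → Commute z w → w' ∈ Nm Q →
      (∀ q ∈ Q, Commute q w → Commute q w' → q ∈ D) → (∀ q ∈ Q, Commute q w → Commute q z → q ∈ D) →
      (∀ q ∈ Q, Commute q w → Commute q (w' * z) → q ∈ D) → (∀ q ∈ Q, Commute q w → Commute q (w' * z⁻¹) → q ∈ D) →
      ∀ q ∈ Q, Commute q w → q ∈ D := by
    intro w w' h3 c1 c2 c3 hn k1 k2 k3 k4 q hq hc
    have nm : ∀ u, Commute u w → u ∈ Nm Q → u ∈ Nm (Q ⊓ Cx w) := fun u hu hn =>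
      mem_normalizer_of_forall fun a ha => ⟨conj_mem_of_mem_normalizer hn ha.1,
        (Cx w).mul_mem ((Cx w).mul_mem (mem_Cx.2 hu) ha.2) ((Cx w).inv_mem (mem_Cx.2 hu))⟩
    exact gen9' (Q := Q ⊓ Cx w) (hQ.coprime_dvd_left (card_dvd_of_le inf_le_left)) h3 hz c1 (nm _ c2 hn) (nm _ c3 hzQ)
      (fun a ha => k1 a ha.1 (mem_Cx.1 ha.2)) (fun a ha => k2 a ha.1 (mem_Cx.1 ha.2))
      (fun a ha => k3 a ha.1 (mem_Cx.1 ha.2)) (fun a ha => k4 a ha.1 (mem_Cx.1 ha.2)) ⟨hq, mem_Cx.2 hc⟩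
  simp only [pl13, List.forall_mem_cons] at h
  obtain ⟨p1, p2, p3, p4, p5, p6, p7, p8, p9, p10, p11, p12, p13, -⟩ := h
  refine gen9' hQ hx hy hxy hxQ hyQ
    (aux x y hy hyz hxy.symm hxz.symm hyQ p3 p2 (fun q hq a b => p8 q hq b a) fun q hq a b => p9 q hq b a)
    (aux y x hx hxz hxy hyz.symm hxQ (fun q hq a b => p3 q hq b a) p1 (fun q hq a b => p6 q hq b a)
      fun q hq a b => p7 q hq b a)
    (aux (x * y) x hx hxz ((Commute.refl x).mul_right hxy) (hxz.symm.mul_right hyz.symm) hxQ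
      (fun q hq a b => p3 q hq b ?_) p4 p10 p11)
    (aux (x * y⁻¹) x hx hxz ((Commute.refl x).mul_right hxy.inv_right) (hxz.symm.mul_right hyz.symm.inv_right) hxQ
      (fun q hq a b => p3 q hq b ?_) p5 p12 p13)
  · simpa using b.inv_right.mul_right a
  · simpa using b.inv_right.mul_right a

/-- `gen9'` modulo an element `z` that centralises `Q` -/
theorem gen9z {Q D : Subgroup G} (hQ : (Nat.card Q).Coprime 3) {x y z : G} (hx : x ^ 3 = 1) (hy : y ^ 3 = 1)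
    (hz : z ^ 3 = 1) (hzx : Commute z x) (hzy : Commute z y) (hxy : x * y * x⁻¹ * y⁻¹ ∈ zpowers z)
    (hzQ : ∀ q ∈ Q, Commute q z) (hxQ : x ∈ Nm Q) (hyQ : y ∈ Nm Q)
    (h1 : ∀ q ∈ Q, Commute q x → q ∈ D) (h2 : ∀ q ∈ Q, Commute q y → q ∈ D)
    (h3 : ∀ q ∈ Q, Commute q (x * y) → q ∈ D) (h4 : ∀ q ∈ Q, Commute q (x * y⁻¹) → q ∈ D) : Q ≤ D := by
  let Z : Subgroup (Cx z) := (zpowers z).subgroupOf _
  have zn : Z.Normal := ⟨fun n hn g => by
    obtain ⟨k, hk⟩ := mem_zpowers_iff.1 (mem_subgroupOf.1 hn)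
    refine mem_subgroupOf.2 ?_
    have : Commute (g : G) n := hk ▸ (show Commute (g : G) z from mem_Cx.1 g.2).zpow_right k
    change (g : G) * n * (g : G)⁻¹ ∈ _
    rw [this.eq, mul_inv_cancel_right]; exact hn⟩
  let π := QuotientGroup.mk' Z
  have hπ : ∀ g, π g = 1 ↔ (g : G) ∈ zpowers z := fun g => QuotientGroup.eq_one_iff _
  have triv : ∀ g ∈ Q, g ∈ zpowers z → g = 1 := fun g hg ⟨k, hk⟩ => by
    refine orderOf_eq_one_iff.1 (Nat.eq_one_of_dvd_coprimes hQ (orderOf_dvd_natCard _ hg) (orderOf_dvd_of_pow_eq_one ?_))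
    rw [← hk, ← zpow_natCast, ← zpow_mul, mul_comm, zpow_mul, zpow_natCast, hz, one_zpow]
  have hQC : Q ≤ Cx z := fun q hq => mem_Cx.2 (hzQ q hq)
  let X : Cx z := ⟨x, mem_Cx.2 hzx.symm⟩
  let Y : Cx z := ⟨y, mem_Cx.2 hzy.symm⟩
  have nm : ∀ u : Cx z, (u : G) ∈ Nm Q → π u ∈ Nm ((Q.subgroupOf _).map π) := fun u hu =>
    mem_normalizer_of_forall (by
      rintro _ ⟨a, ha, rfl⟩
      exact ⟨u * a * u⁻¹, mem_subgroupOf.2 (conj_mem_of_mem_normalizer hu (mem_subgroupOf.1 ha)), by simp⟩)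
  have cm : ∀ u : Cx z, (u : G) ∈ Nm Q → (∀ q ∈ Q, Commute q u → q ∈ D) →
      ∀ q ∈ (Q.subgroupOf _).map π, Commute q (π u) → q ∈ ((D ⊓ Q).subgroupOf _).map π := by
    rintro u hu hD _ ⟨a, ha, rfl⟩ c
    refine ⟨a, ⟨hD a ha ?_, ha⟩, rfl⟩
    have e := triv ((a : G) * (u * (a : G)⁻¹ * (u : G)⁻¹)) (mul_mem ha (conj_mem_of_mem_normalizer hu (inv_mem ha)))
      ((hπ (a * (u * a⁻¹ * u⁻¹))).1 (by rw [map_mul, map_mul, map_mul, map_inv, map_inv, ← c.inv_left.eq]; group))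
    rw [← commutatorElement_eq_one_iff_commute, ← e, commutatorElement_def]; group
  have key := gen9' (Q := (Q.subgroupOf _).map π) (D := ((D ⊓ Q).subgroupOf _).map π)
    (hQ.coprime_dvd_left ((card_map_dvd _ _).trans (Nat.card_congr (subgroupOfEquivOfLe hQC).toEquiv).dvd))
    (x := π X) (y := π Y) (by rw [← map_pow, show X ^ 3 = 1 from Subtype.ext hx, map_one])
    (by rw [← map_pow, show Y ^ 3 = 1 from Subtype.ext hy, map_one])
    (by rw [← commutatorElement_eq_one_iff_commute, ← map_commutatorElement, hπ]; exact hxy)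
    (nm X hxQ) (nm Y hyQ) (cm X hxQ h1) (cm Y hyQ h2)
    (by rw [← map_mul]; exact cm (X * Y) (mul_mem hxQ hyQ) h3)
    (by rw [← map_inv, ← map_mul]; exact cm (X * Y⁻¹) (mul_mem hxQ (inv_mem hyQ)) h4)
  intro q hq
  obtain ⟨d, hd, e⟩ := key ⟨⟨q, hQC hq⟩, hq, rfl⟩
  have := triv ((d : G)⁻¹ * q) (mul_mem (inv_mem hd.2) hq) ((hπ (d⁻¹ * ⟨q, hQC hq⟩)).1 (by rw [map_mul, map_inv, e, inv_mul_cancel]))
  exact inv_mul_eq_one.1 this ▸ hd.1

/-- a `3`-group normalising a `3'`-group normalises a Sylow subgroup of it -/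
theorem inv_sylow {A N : Subgroup G} {p r : ℕ} [Fact p.Prime] [Fact r.Prime] (hA : IsPGroup p A)
    (hN : (Nat.card N).Coprime p) (h : A ≤ Nm N) : ∃ S, IsSylowIn r S N ∧ A ≤ Nm S := by
  have := hA.isNilpotent
  obtain ⟨S, h1, h2, h3, h4⟩ := Coprime.exists_invariant_sylow' r h (gen_cop hA hN) (Or.inl inferInstance)
  exact ⟨S, ⟨h1, h2, h3⟩, h4⟩

omit [Finite G] in
theorem hom4 {a b c d : G} (ha : a ^ 3 = 1) (hb : b ^ 3 = 1) (hc : c ^ 3 = 1) (hd : d ^ 3 = 1) (hab : Commute a b)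
    (hac : Commute a c) (had : Commute a d) (hbc : Commute b c) (hbd : Commute b d) (hcd : Commute c d) :
    ∃ ev : V81 →* G, ev x1 = a ∧ ev x2 = b ∧ ev x3 = c ∧ ev x4 = d ∧
      ∀ v, ev v = a ^ (v.v % 3) * b ^ (v.v / 3 % 3) * c ^ (v.v / 9 % 3) * d ^ (v.v / 27) := by
  refine ⟨MonoidHom.mk' (fun v => a ^ (v.v % 3) * b ^ (v.v / 3 % 3) * c ^ (v.v / 9 % 3) * d ^ (v.v / 27)) fun u v => ?_,
    show a ^ 1 * b ^ 0 * c ^ 0 * d ^ 0 = a by simp, show a ^ 0 * b ^ 1 * c ^ 0 * d ^ 0 = b by simp,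
    show a ^ 0 * b ^ 0 * c ^ 1 * d ^ 0 = c by simp, show a ^ 0 * b ^ 0 * c ^ 0 * d ^ 1 = d by simp, fun _ => rfl⟩
  have k : ∀ u v : V81, (u * v).v % 3 = (u.v % 3 + v.v % 3) % 3 ∧ (u * v).v / 3 % 3 = (u.v / 3 % 3 + v.v / 3 % 3) % 3 ∧
      (u * v).v / 9 % 3 = (u.v / 9 % 3 + v.v / 9 % 3) % 3 ∧ (u * v).v / 27 = (u.v / 27 + v.v / 27) % 3 := by
    decide +kernel
  have p : ∀ x : G, x ^ 3 = 1 → ∀ i j : ℕ, x ^ ((i + j) % 3) = x ^ i * x ^ j := fun x hx i j => by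
    rw [← pow_eq_pow_mod _ hx, pow_add]
  obtain ⟨k1, k2, k3, k4⟩ := k u v
  rw [k1, k2, k3, k4, p a ha, p b hb, p c hc, p d hd, (hab.pow_pow _ _).mul_mul_mul_comm,
    (((hac.pow_pow _ _).mul_left (hbc.pow_pow _ _))).mul_mul_mul_comm,
    ((((had.pow_pow _ _).mul_left (hbd.pow_pow _ _))).mul_left (hcd.pow_pow _ _)).mul_mul_mul_comm]

theorem Hy.rkV (hy : Hy G) {T : Subgroup G} (hT : IsPGroup 2 T) {ev : V81 →* G} (hi : Function.Injective ev)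
    (h : ∀ v, ev v ∈ Nm T) : T = ⊥ := by
  refine hy.rk T ev.range hT ?_ ?_ ?_ ?_
  · rintro _ ⟨v, rfl⟩; exact h v
  · rintro _ ⟨v, rfl⟩
    rw [← map_pow, show v ^ 3 = 1 by rw [pow_succ, pow_two, Rec3B.W4.V_cube], map_one]
  · rintro _ ⟨u, rfl⟩ _ ⟨v, rfl⟩
    exact (show Commute u v from Rec3B.W4.V_comm u v).map ev
  · rw [← Nat.card_congr (MonoidHom.ofInjective hi).toEquiv, (TG.card_eq : Nat.card V81 = 81)]

theorem Hy.rk4 (hy : Hy G) {T : Subgroup G} (hT : IsPGroup 2 T) {a b c d : G} (ha : a ^ 3 = 1) (hb : b ^ 3 = 1)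
    (hc : c ^ 3 = 1) (hd : d ^ 3 = 1) (hab : Commute a b) (hac : Commute a c) (had : Commute a d) (hbc : Commute b c)
    (hbd : Commute b d) (hcd : Commute c d)
    (hi : ∀ i j k l : Fin 3, a ^ i.1 * b ^ j.1 * c ^ k.1 * d ^ l.1 = 1 → i = 0 ∧ j = 0 ∧ k = 0 ∧ l = 0)
    (haT : a ∈ Nm T) (hbT : b ∈ Nm T) (hcT : c ∈ Nm T) (hdT : d ∈ Nm T) : T = ⊥ := by
  obtain ⟨ev, -, -, -, -, e⟩ := hom4 ha hb hc hd hab hac had hbc hbd hcd
  refine hy.rkV hT (ev := ev) ((injective_iff_map_eq_one _).2 fun v hv => ?_) fun v => ?_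
  · have k : ∀ v : V81, v.v / 27 < 3 ∧ (v.v % 3 = 0 → v.v / 3 % 3 = 0 → v.v / 9 % 3 = 0 → v.v / 27 = 0 → v = 1) := by
      decide +kernel
    obtain ⟨e1, e2, e3, e4⟩ := hi ⟨_, Nat.mod_lt _ three_pos⟩ ⟨_, Nat.mod_lt _ three_pos⟩ ⟨_, Nat.mod_lt _ three_pos⟩
      ⟨_, (k v).1⟩ ((e v).symm.trans hv)
    exact (k v).2 (congrArg Fin.val e1) (congrArg Fin.val e2) (congrArg Fin.val e3) (congrArg Fin.val e4)
  · rw [e]
    exact mul_mem (mul_mem (mul_mem (pow_mem haT _) (pow_mem hbT _)) (pow_mem hcT _)) (pow_mem hdT _)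

/-- `O₂(C(u))` -/
theorem Hy.exQ (hy : Hy G) {u : G} (h2 : u * u = 1) (h1 : u ≠ 1) : ∃ Q : Subgroup G, IsPGroup 2 Q ∧ u ∈ Q ∧ Q ≤ Cx u ∧
    Cx u ≤ Nm Q ∧ ∀ g ∈ Cx u, (∀ q ∈ Q, Commute g q) → g ∈ Q := by
  obtain ⟨Q, hQ⟩ := L72.exQ hy.c2 (T := zpowers u) (isPGroup_zpowers_of_pow (k := 1) (by rw [pow_one, pow_two, h2]))
    (by simpa using h1)
  have e : Nm (zpowers u) = Cx u := Subgroup.ext fun g => (L72.Nm_zpowers h2 g).trans mem_Cx.symm
  exact ⟨Q, hQ.two, hQ.le (mem_zpowers u), e ▸ hQ.leN, e ▸ hQ.nrm, e ▸ hQ.cen⟩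

/-- transfer for an element of order 3 -/
theorem Hy.transfer (hy : Hy G) {P P0 : Subgroup G} (hP : IsSylowIn 3 P ⊤) (hle : P0 ≤ P)
    (hcm : ∀ p ∈ P, ∀ q ∈ P, p * q * p⁻¹ * q⁻¹ ∈ P0) {b : G} (hbP : b ∈ P) (hb : b ^ 3 = 1) (hb0 : b ∉ P0)
    (hg : ∀ p ∈ P, ∃ i : ℕ, p * b ^ i ∈ P0) (hc : ∀ g : G, g * b * g⁻¹ ∈ P → g * b * g⁻¹ * b⁻¹ ∈ P0) : False := by
  have : Fact (Nat.Prime 3) := ⟨Nat.prime_three⟩
  have hN : (P0.subgroupOf P).Normal := ⟨fun n hn g => by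
    have h1 := P0.mul_mem (hcm g g.2 n n.2) (Subgroup.mem_subgroupOf.1 hn)
    rw [inv_mul_cancel_right] at h1
    exact h1⟩
  let : CommGroup (P ⧸ P0.subgroupOf P) :=
    { (inferInstance : Group (P ⧸ P0.subgroupOf P)) with
      mul_comm := fun x y => by
        obtain ⟨x, rfl⟩ := QuotientGroup.mk_surjective x
        obtain ⟨y, rfl⟩ := QuotientGroup.mk_surjective y
        rw [← QuotientGroup.mk_mul, ← QuotientGroup.mk_mul, QuotientGroup.eq]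
        have h1 := hcm _ (inv_mem y.2) _ (inv_mem x.2)
        rw [Subgroup.mem_subgroupOf]
        convert h1 using 1
        simp [mul_assoc] }
  let ϕ : P →* P ⧸ P0.subgroupOf P := QuotientGroup.mk' _
  have h3 : ϕ ⟨b, hbP⟩ ^ 3 = 1 := by
    rw [← map_pow, show (⟨b, hbP⟩ : P) ^ 3 = 1 from Subtype.ext hb, map_one]
  have h1 : ∀ (t : G) (h : t⁻¹ * b * t ∈ P), ϕ ⟨_, h⟩ = ϕ ⟨b, hbP⟩ := by
    intro t h
    have h2 := hc t⁻¹ (by rwa [inv_inv])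
    rw [inv_inv] at h2
    rw [← mul_inv_eq_one, ← map_inv, ← map_mul]
    exact (QuotientGroup.eq_one_iff _).2 h2
  have key : ∀ (k : ℕ) (t : G) (h : t⁻¹ * b ^ k * t ∈ P), ϕ ⟨_, h⟩ = ϕ ⟨b, hbP⟩ ^ k := by
    intro k t h
    have e1 : b ^ k = b ^ (k % 3) := pow_eq_pow_mod k hb
    rw [pow_eq_pow_mod k h3]
    have hk : k % 3 = 0 ∨ k % 3 = 1 ∨ k % 3 = 2 := by omega
    rcases hk with hk | hk | hk
    · rw [hk, pow_zero, show (⟨_, h⟩ : P) = 1 from Subtype.ext (by simp [e1, hk]), map_one]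
    · have h' : t⁻¹ * b * t ∈ P := by rwa [e1, hk, pow_one] at h
      rw [hk, pow_one, ← h1 t h']
      congr 1
      exact Subtype.ext (by simp [e1, hk])
    · have e2 : t⁻¹ * b * t = (t⁻¹ * b ^ k * t) ^ 2 := by
        rw [e1, hk, show (t⁻¹ * b ^ 2 * t) ^ 2 = t⁻¹ * (b ^ 3 * b) * t by
          simp only [pow_succ, pow_zero, one_mul]; group, hb, one_mul]
      have h' : t⁻¹ * b * t ∈ P := e2 ▸ pow_mem h 2
      rw [hk, ← h1 t h', ← map_pow]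
      congr 1
      refine Subtype.ext ?_
      show t⁻¹ * b ^ k * t = (t⁻¹ * b * t) ^ 2
      rw [e1, hk]
      simp only [pow_succ, pow_zero, one_mul]
      group
  have : Fintype (Quotient (MulAction.orbitRel (Subgroup.zpowers b) (G ⧸ P))) := Fintype.ofFinite _
  have e : MonoidHom.transfer ϕ b = ϕ ⟨b, hbP⟩ ^ P.index := by
    rw [Subgroup.index_eq_sum_minimalPeriod P b, ← Finset.prod_pow_eq_pow_sum,
      MonoidHom.transfer_eq_prod_quotient_orbitRel_zpowers_quot]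
    exact Finset.prod_congr rfl fun q _ => key _ _ _
  have b1 : ϕ ⟨b, hbP⟩ ≠ 1 := fun e2 => hb0 ((QuotientGroup.eq_one_iff (N := P0.subgroupOf P) ⟨b, hbP⟩).1 e2)
  have o3 := orderOf_eq_prime h3 b1
  have e1 : MonoidHom.transfer ϕ b ≠ 1 := fun e1 =>
    hP.not_dvd (by rw [relIndex_top_right, ← o3]; exact orderOf_dvd_of_pow_eq_one (e.symm.trans e1))
  have top : zpowers (ϕ ⟨b, hbP⟩) = ⊤ := eq_top_iff.2 fun x _ => by
    obtain ⟨x, rfl⟩ : ∃ y, ϕ y = x := QuotientGroup.mk'_surjective _ x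
    obtain ⟨i, hi⟩ := hg x x.2
    have : ϕ x * ϕ ⟨b, hbP⟩ ^ i = 1 := by
      rw [← map_pow, ← map_mul]; exact (QuotientGroup.eq_one_iff _).2 hi
    rw [eq_inv_of_mul_eq_one_left this]
    exact inv_mem (pow_mem (mem_zpowers _) i)
  have c3 : Nat.card (P ⧸ P0.subgroupOf P) = 3 := by rw [← Subgroup.card_top, ← top, Nat.card_zpowers, o3]
  refine hy.n3 (MonoidHom.transfer ϕ).ker inferInstance ?_
  rw [index_ker]
  refine ((Nat.dvd_prime Nat.prime_three).1 (c3 ▸ card_subgroup_dvd_card _)).resolve_left fun e2 => e1 ?_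
  exact mem_bot.1 ((card_eq_one.1 e2).le ⟨b, rfl⟩)

end CfsgLib.S86
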