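import Cfsg.Agent.Lib.S86.Mo
import Cfsg.Agent.Lib.Rec3C.Defs2
import Cfsg.Agent.Lib.L72.Defs

/-! Definitions for the recognition of `Sp₈(2)` and `F₄(2)` from a standard 3-component `Sp₆(2)`
(project S86, plans/S86.md). -/

set_option autoImplicit false
set_option maxRecDepth 100000
set_option Elab.async false

namespace CfsgLib.S86

open Subgroup CfsgLib.W2 CfsgLib.Tech CfsgLib.Rec3C CfsgLib.Rec3C.V4
open CfsgLib.Rec3B (V81)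
open CfsgLib.L72 (Nm IsQ Oc)

noncomputable section

/-- the signed permutations of `x1, …, x4`; order 384 -/
abbrev M4 : Subgroup GO := dsub 0x381c0e07 (by decide +kernel)

/-- `x1 x2` -/
def cc : V81 := TG.o 4
/-- `(x3 x4)⁻¹` -/
def a1 : V81 := TG.o 72
/-- `x3⁻¹ x4` -/
def a2 : V81 := TG.o 45
/-- `x4 yy`, fixed by `th` -/
def ww : V81 := TG.o 34
/-- the reflection `r3 r4 t34` in `a1` -/
def ra : GO := TG.o 302
/-- the reflection interchanging `a2` and `cc` -/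
def sb : GO := TG.o 768
/-- the reflection interchanging `a1` and `cc` -/
def sc : GO := TG.o 672
/-- `t13 t24` -/
def t1324 : GO := TG.o 16

theorem vals4 : cc = x1 * x2 ∧ a1 = (x3 * x4)⁻¹ ∧ a2 = x3⁻¹ * x4 ∧ ww = x4 * yy ∧ ra = r3 * r4 * t34 ∧
    t1324 = t13 * t24 ∧ sc = sb * r4 * sb ∧ zz = cc * x3 ∧ yy = x1 * x2⁻¹ := by decide +kernel

/-- the frame of `x4` -/
def L6 : List V81 := [x1, x1⁻¹, x2, x2⁻¹, x3, x3⁻¹]

theorem M4_le : M4 ≤ WF4 := show ∀ g ∈ M4, g ∈ WF4 by decide +kernel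

theorem mem_M4 : r1 ∈ M4 ∧ r2 ∈ M4 ∧ r3 ∈ M4 ∧ r4 ∈ M4 ∧ t12 ∈ M4 ∧ t13 ∈ M4 ∧ t23 ∈ M4 ∧ t34 ∈ M4 ∧ t24 ∈ M4 ∧
    t14 ∈ M4 ∧ al ∈ M4 ∧ m1 ∈ M4 ∧ t1324 ∈ M4 ∧ ra ∈ M4 := by decide +kernel

end

variable {G : Type*} [Group G]

/-- generators of the 13 planes of `⟨x, y, z⟩` -/
def pl13 (x y z : G) : List (G × G) := [(y, z), (x, z), (x, y), (x * y, z), (x * y⁻¹, z), (x * z, y), (x * z⁻¹, y),
  (y * z, x), (y * z⁻¹, x), (x * y, x * z), (x * y, x * z⁻¹), (x * y⁻¹, x * z), (x * y⁻¹, x * z⁻¹)]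

/-- the global hypotheses -/
structure Hy (G : Type*) [Group G] : Prop where
  c2 : Cfsg.IsCharacteristicTwoType G
  rk : ∀ T E : Subgroup G, IsPGroup 2 T → E ≤ Nm T → (∀ x ∈ E, x ^ 3 = 1) → (∀ x ∈ E, ∀ y ∈ E, Commute x y) →
    81 ≤ Nat.card E → T = ⊥
  n3 : ∀ N : Subgroup G, N.Normal → N.index = 3 → False

/-- a homomorphism followed by a conjugation -/
def cjh {M : Type*} [Group M] (g : G) (φ : M →* G) : M →* G := (MulAut.conj g).toMonoidHom.comp φ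

theorem cjh_apply {M : Type*} [Group M] (g : G) (φ : M →* G) (m : M) : cjh g φ m = g * φ m * g⁻¹ := rfl

/-- `x` has order 3, `φ(Sp₆(2))` is normal in `N⟨x⟩`; its centraliser has cyclic 3-subgroups -/
structure Ch0 (x : G) (φ : SM →* G) : Prop where
  ord : orderOf x = 3
  inj : Function.Injective φ
  comm : ∀ m, Commute x (φ m)
  nrm : ∀ g, (g * x * g⁻¹ = x ∨ g * x * g⁻¹ = x⁻¹) → ∃ M, ∀ m, g * φ m * g⁻¹ = φ (M * m * M⁻¹)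
  cyc : ∀ P : Subgroup G, IsPGroup 3 P → (∀ k ∈ P, ∀ m, Commute k (φ m)) → IsCyclic P

/-- the chart with the elementary abelian group `B = ⟨x⟩ × φ B0` -/
structure Bd0 (b : G) (φ : SM →* G) (ev : V81 →* G) : Prop extends Ch0 b φ where
  einj : Function.Injective ev
  v1 : ev x1 = φ β1
  v2 : ev x2 = φ β2
  v3 : ev x3 = φ β3
  v4 : ev x4 = b

/-- moreover `C(b) ∩ C(L)` has odd order and `⟨b⟩` contains its 3-elements -/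
structure Bd (b : G) (φ : SM →* G) (ev : V81 →* G) : Prop extends Bd0 b φ ev where
  three : ∀ k, Commute k b → (∀ m, Commute k (φ m)) → ∀ n : ℕ, k ^ 3 ^ n = 1 → k ∈ zpowers b
  od : ∀ k, Commute k b → (∀ m, Commute k (φ m)) → k * k = 1 → k = 1

theorem comm_cj {g k a : G} (h : Commute k (g * a * g⁻¹)) : Commute (g⁻¹ * k * g) a := by
  have := h.map (MulAut.conj g⁻¹)
  simpa [mul_assoc] using this

theorem Ch0.conj {x : G} {φ : SM →* G} (h : Ch0 x φ) (g : G) : Ch0 (g * x * g⁻¹) (cjh g φ) where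
  ord := by rw [← h.ord]; exact (MulAut.conj g).orderOf_eq x
  inj := (MulAut.conj g).injective.comp h.inj
  comm m := (h.comm m).map (MulAut.conj g)
  nrm a ha := by
    have h1 : (g⁻¹ * a * g) * x * (g⁻¹ * a * g)⁻¹ = x ∨ (g⁻¹ * a * g) * x * (g⁻¹ * a * g)⁻¹ = x⁻¹ := by
      rcases ha with ha | ha
      · left
        calc _ = g⁻¹ * (a * (g * x * g⁻¹) * a⁻¹) * g := by group
          _ = x := by rw [ha]; group
      · right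
        calc _ = g⁻¹ * (a * (g * x * g⁻¹) * a⁻¹) * g := by group
          _ = x⁻¹ := by rw [ha]; group
    obtain ⟨M, hM⟩ := h.nrm _ h1
    refine ⟨M, fun m => ?_⟩
    rw [cjh_apply, cjh_apply, ← hM]; group
  cyc P hP hc := by
    have h1 : IsCyclic (P.map (MulAut.conj g⁻¹).toMonoidHom) := by
      refine h.cyc _ (hP.map _) ?_
      rintro _ ⟨k, hk, rfl⟩ m
      simpa using comm_cj (hc k hk m)
    exact @isCyclic_of_injective _ _ _ _ h1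
      ((MulAut.conj g⁻¹).subgroupMap P).toMonoidHom ((MulAut.conj g⁻¹).subgroupMap P).injective

theorem Bd0.conj {b : G} {φ : SM →* G} {ev : V81 →* G} (h : Bd0 b φ ev) (g : G) :
    Bd0 (g * b * g⁻¹) (cjh g φ) (cjh g ev) where
  toCh0 := h.toCh0.conj g
  einj := (MulAut.conj g).injective.comp h.einj
  v1 := by rw [cjh_apply, cjh_apply, h.v1]
  v2 := by rw [cjh_apply, cjh_apply, h.v2]
  v3 := by rw [cjh_apply, cjh_apply, h.v3]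
  v4 := by rw [cjh_apply, h.v4]

theorem Bd.conj {b : G} {φ : SM →* G} {ev : V81 →* G} (h : Bd b φ ev) (g : G) :
    Bd (g * b * g⁻¹) (cjh g φ) (cjh g ev) where
  toBd0 := h.toBd0.conj g
  three k hk hc n hn := by
    have h1 := h.three (g⁻¹ * k * g) (comm_cj hk) (fun m => comm_cj (hc m)) n (by
      have := congrArg (MulAut.conj g⁻¹) hn
      simpa [map_pow] using this)
    obtain ⟨i, hi⟩ := mem_zpowers_iff.mp h1
    refine mem_zpowers_iff.mpr ⟨i, ?_⟩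
    rw [conj_zpow, hi]; group
  od k hk hc hkk := by
    have h1 := h.od (g⁻¹ * k * g) (comm_cj hk) (fun m => comm_cj (hc m)) (by
      calc _ = g⁻¹ * (k * k) * g := by group
        _ = 1 := by rw [hkk]; group)
    calc k = g * (g⁻¹ * k * g) * g⁻¹ := by group
      _ = 1 := by rw [h1]; group

/-- `C(B)` has no non-trivial `3'`-element -/
def Th (ev : V81 →* G) : Prop := ∀ k, (∀ v, Commute k (ev v)) → (orderOf k).Coprime 3 → k = 1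

/-- the linear map `x1, …, x4 ↦ a, b, c, d` is induced in `G` -/
def Re (ev : V81 →* G) (a b c d : V81) : Prop := ∃ g, Act4 ev g a b c d

/-- `w` is induced in `G` -/
def Rw (ev : V81 →* G) (w : GO) : Prop := ∃ g : G, ∀ v, g * ev v * g⁻¹ = ev (act w v)

/-- the fusion pattern of `Γ` -/
structure Pat (Γ : Subgroup GO) (b : G) (ev : V81 →* G) : Prop where
  rw : ∀ w ∈ Γ, Rw ev w
  oc : ∀ v, Oc b (ev v) → ∃ w ∈ Γ, act w x4 = v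

/-- the affine pattern -/
def P27 (b : G) (ev : V81 →* G) : Prop := ∀ v, Oc b (ev v) ↔ 27 ≤ v.v

/-- the patterns of minus type -/
def PMm (ev : V81 →* G) : Prop := Re ev (x4 * cc) (x4 * cc⁻¹) x3 yy

/-- the Sylow data in the affine pattern -/
structure GamS (b : G) (φ : SM →* G) (ev : V81 →* G) (P : Subgroup G) (τ1 τ2 τ3 : G) (k : ℕ) : Prop
    extends Bd b φ ev where
  pat : P27 b ev
  p3 : IsPGroup 3 P
  evP : ∀ v, ev v ∈ P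
  cB : ∀ p ∈ P, ∀ m ∈ B0, Commute p (φ m)
  tr : ∀ p ∈ P, ∃ m ∈ B0, p * b * p⁻¹ = b * φ m
  ker : ∀ p ∈ P, Commute p b → p ∈ ev.range
  m1 : τ1 ∈ P
  m2 : τ2 ∈ P
  m3 : τ3 ∈ P
  e1 : τ1 * b * τ1⁻¹ = b * φ β1
  a1 : φ α0 * τ1 * (φ α0)⁻¹ = τ2
  a2 : φ α0 * τ2 * (φ α0)⁻¹ = τ3
  c12 : Commute τ1 τ2
  c3 : Commute (φ t3) τ1 ∧ Commute (φ t3) τ2
  cube : τ1 ^ 3 = φ β1 ^ k
  αP : φ α0 ∈ Nm P
  max : ∀ R : Subgroup G, IsPGroup 3 R → P ⊔ zpowers (φ α0) ≤ R → R ≤ Nm ev.range → R ≤ P ⊔ zpowers (φ α0)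
  ninv : IsConj b b⁻¹ → τ1 ^ 3 = 1

/-- `N(B) = 3⁴ : Γ` and `C(x4) = ⟨x4⟩ × Sp₆(2)` -/
structure Fr (Γ : Subgroup GO) (ι : N4 → G) (φ : SM →* G) : Prop extends GEmb (NG Γ) ι where
  ch : Ch0 (ι (nv x4)) φ
  hΓ : Γ = M4 ∨ Γ = WF4 ∨ Γ = ⊤
  kt : ∀ k, Commute k (ι (nv x4)) → (∀ m, Commute k (φ m)) → k ∈ zpowers (ι (nv x4))
  v1 : ι (nv x1) = φ β1
  v2 : ι (nv x2) = φ β2
  v3 : ι (nv x3) = φ β3
  w1 : ι (nl r1) = φ t1
  w12 : ι (nl t12) = φ s12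
  wal : ι (nl al) = φ α0
  w4 : ∀ m, Commute (ι (nl r4)) (φ m)
  norm : NJG ι = gimg ι (NG Γ)
  oc : ∀ v, Oc (ι (nv x4)) (ι (nv v)) → ∃ w ∈ Γ, act w x4 = v

/-- the group `S₆` in `C(x1, x2)` -/
noncomputable def κ34 (ι : N4 → G) (φ : SM →* G) : PG 6 →* G := cjh (ι (nl t1324)) (φ.comp κ)

/-- the chart at `x3` -/
noncomputable def φ3 (ι : N4 → G) (φ : SM →* G) : SM →* G := cjh (ι (nl t34)) φ

/-- `⟨u⟩ × F1 × F2 × F3` -/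
def AA (u f x y z S S' : G) : Subgroup G :=
  closure {u, f, x * f * x⁻¹, S * f * S⁻¹, y * (S * f * S⁻¹) * y⁻¹, S' * (S * f * S⁻¹) * S'⁻¹,
    z * (S' * (S * f * S⁻¹) * S'⁻¹) * z⁻¹}

/-- the data which make `AA / ⟨u⟩` the natural module for `H / Q` -/
structure LinD (H Q : Subgroup G) (u f x y z r S S' a : G) : Prop where
  u2 : u * u = 1
  u1 : u ≠ 1
  uH : ∀ h ∈ H, Commute h u
  xH : x ∈ H
  yH : y ∈ H
  zH : z ∈ H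
  rH : r ∈ H
  SH : S ∈ H
  SH' : S' ∈ H
  aH : a ∈ H
  nA : H ≤ Nm (AA u f x y z S S')
  cA : ∀ p ∈ AA u f x y z S S', ∀ q ∈ AA u f x y z S S', Commute p q
  f2 : f * f = 1
  f1 : f ≠ 1
  tr : f * (x * f * x⁻¹) * (x⁻¹ * f * x) = 1
  fy : Commute f y
  fz : Commute f z
  fr : Commute f r
  x3 : x ^ 3 = 1
  xy : Commute x y
  xz : Commute x z
  yz : Commute y z
  r2 : r * r = 1
  rx : r * x * r⁻¹ = x⁻¹
  ry : Commute r y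
  rz : Commute r z
  S2 : S * S = 1
  Sx : S * x * S⁻¹ = y
  Sz : Commute S z
  S2' : S' * S' = 1
  Sy' : S' * y * S'⁻¹ = z
  Sx' : Commute S' x
  a2 : a * a = 1
  az : Commute a z
  ar : Commute a r
  aS : Commute a S
  a4 : (a * x) ^ 4 = 1
  ao : orderOf ((a * x) ^ 2 * (y * (a * x) ^ 2 * y⁻¹)) = 3
  Q2 : IsPGroup 2 Q
  QH : Q ≤ H
  QA : ∀ q ∈ Q, ∀ p ∈ AA u f x y z S S', Commute q p
  ker : ∀ h ∈ H, (∀ p ∈ AA u f x y z S S', h * p * h⁻¹ * p⁻¹ ∈ zpowers u) → h ∈ Q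
  max : ∀ R : Subgroup G, IsPGroup 2 R → R ≤ H → x ∈ Nm R → y ∈ Nm R → z ∈ Nm R → R ≤ Q

/-- `H / Q = Sp₆(2)` acts naturally on `⟨u⟩ ψ(E64) / ⟨u⟩` -/
structure Rho (H Q : Subgroup G) (u : G) (ψ : E64 →* G) (ρ : G → SM) : Prop where
  mul : ∀ g ∈ H, ∀ h ∈ H, ρ (g * h) = ρ g * ρ h
  surj : ∀ m, ∃ h ∈ H, ρ h = m
  ker : ∀ h ∈ H, ρ h = 1 ↔ h ∈ Q
  QH : Q ≤ H
  Q2 : IsPGroup 2 Q
  ind : ∀ v, ψ v ∈ zpowers u → v = 1
  act : ∀ h ∈ H, ∀ v, h * ψ v * h⁻¹ = ψ (sa (ρ h) v) ∨ h * ψ v * h⁻¹ = u * ψ (sa (ρ h) v)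

namespace Rho

variable {H Q : Subgroup G} {u : G} {ψ : E64 →* G} {ρ : G → SM} (h : Rho H Q u ψ ρ)
include h

/-- the homomorphism on `H` -/
noncomputable def hom : H →* SM := MonoidHom.mk' (fun g => ρ g) fun a b => h.mul _ a.2 _ b.2

theorem hom_apply (g : H) : h.hom g = ρ g := rfl

theorem one : ρ 1 = 1 := h.hom.map_one

theorem inv {g : G} (hg : g ∈ H) : ρ g⁻¹ = (ρ g)⁻¹ := h.hom.map_inv ⟨g, hg⟩

theorem pow {g : G} (hg : g ∈ H) (n : ℕ) : ρ (g ^ n) = ρ g ^ n := h.hom.map_pow ⟨g, hg⟩ n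

theorem conj {g k : G} (hg : g ∈ H) (hk : k ∈ H) : ρ (g * k * g⁻¹) = ρ g * ρ k * (ρ g)⁻¹ := by
  rw [h.mul _ (mul_mem hg hk) _ (inv_mem hg), h.mul _ hg _ hk, h.inv hg]

theorem comm {g k : G} (hg : g ∈ H) (hk : k ∈ H) (e : Commute g k) : Commute (ρ g) (ρ k) := by
  rw [Commute, SemiconjBy, ← h.mul _ hg _ hk, ← h.mul _ hk _ hg, e.eq]

end Rho

/-- the structure of `C(r4) = 2⁷ : Sp₆(2)` in the case `Sp₈(2)` -/
structure CI (ι : N4 → G) (φ : SM →* G) (T : Subgroup G) (ψ : E64 →* G) (ρ : G → SM) : Prop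
    extends Fr M4 ι φ where
  rho : Rho (Cx (ι (nl r4))) T (ι (nl r4)) ψ ρ
  ρφ : ∀ m, ρ (φ m) = m
  memT : ∀ g, g ∈ T ↔ ∃ v, g = ψ v ∨ g = ι (nl r4) * ψ v
  cT : ∀ g ∈ Cx (ι (nl r4)), (∀ q ∈ T, Commute g q) → g ∈ T
  p1 : ψ e1 = φ3 ι φ (gu e3 e1)
  q1 : ψ f1 = φ3 ι φ (gu e3 f1)
  p2 : ψ e2 = φ3 ι φ (gu e3 e2)
  q2 : ψ f2 = φ3 ι φ (gu e3 f2)
  p3 : ψ e3 = κ34 ι φ (PG.pl [1, 0, 5, 3, 4, 2])
  q3 : ψ f3 = κ34 ι φ (PG.pl [5, 2, 1, 3, 4, 0])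

/-- the class of transvections -/
def DL (ι : N4 → G) : Set G :=
  {d | d = ι (nl r4) ∨ (∃ h ∈ Cx (ι (nl r4)), d = h * ι (nl r3) * h⁻¹) ∨
    ∃ h ∈ Cx (ι (nl r4)), d = h * (ι (nv x4) * ι (nl r4) * (ι (nv x4))⁻¹) * h⁻¹}

/-- the group generated by the transvections -/
def G0 (ι : N4 → G) : Subgroup G := closure (DL ι)

/-- the structure of `C(t12) = 2¹⁵ . Sp₆(2)` in the case `F₄(2)` -/
structure CII (Γ : Subgroup GO) (ι : N4 → G) (φ : SM →* G) (Q : Subgroup G) (ψ : E64 →* G) (ρ : G → SM) : Prop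
    extends Fr Γ ι φ where
  wf : WF4 ≤ Γ
  rho : Rho (Cx (ι (nl t12))) Q (ι (nl t12)) ψ ρ
  ρ1 : ρ (ι (nv a1)) = β1
  ρ2 : ρ (ι (nv a2)) = β2
  ρ3 : ρ (ι (nv cc)) = β3
  ρ4 : ρ (ι (nl r4)) = s12
  cz : ∀ q, q ∈ Q ⊓ Cx (ι (nv zz)) ↔ q ∈ Q0.map φ

/-- `O₃(C(z, t12))` -/
noncomputable def R1 (ι : N4 → G) : Subgroup G := closure {ι (nv zz), ι (nv x4), ι (nl be)}

/-- the structure of `C(z, t12)`; `T = Q₈ × Q₈` -/
structure XD (Γ : Subgroup GO) (ι : N4 → G) (φ : SM →* G) (T : Subgroup G) : Prop extends Fr Γ ι φ where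
  wf : WF4 ≤ Γ
  syl : IsSylowIn 2 T (Cx (ι (nv zz)) ⊓ Cx (ι (nl t12)))
  card : Nat.card T = 64
  DT : Q0.map φ ≤ T
  nD : T ≤ Nm (Q0.map φ)
  tT : ι (nl r4) ∈ T
  cT : T ≤ Cx (ι (nl r4))
  invs : ∀ g ∈ T, g * g = 1 → g = 1 ∨ g = ι (nl t12) ∨ g = ι (nl r4) ∨ g = ι (nl t12) * ι (nl r4)
  sq : ∃ g ∈ T, g * g * ι (nl r4) ∈ Q0.map φ
  x3T : ι (nv x3) ∈ Nm T
  cU : ∀ g ∈ Cx (ι (nv zz)) ⊓ Cx (ι (nl t12)), g ∈ Cx (ι (nl r4)) →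
    ∃ s ∈ T, ∃ i j : ℕ, g = s * ι (nv zz) ^ i * ι (nv x3) ^ j
  dec : ∀ g ∈ Cx (ι (nv zz)) ⊓ Cx (ι (nl t12)), ∃ r ∈ R1 ι, ∃ s ∈ T, ∃ j : ℕ, g = r * s * ι (nv x3) ^ j
  odd : ∀ N : Subgroup G, Odd (Nat.card N) → N ≤ Cx (ι (nv zz)) ⊓ Cx (ι (nl t12)) →
    Cx (ι (nv zz)) ⊓ Cx (ι (nl t12)) ≤ Nm N → N ≤ R1 ι
  irr : ∀ N : Subgroup G, N ≤ R1 ι → T ≤ Nm N → N ≤ zpowers (ι (nv zz)) ∨ R1 ι ≤ N

end CfsgLib.S86
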