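import Cfsg.Agent.Lib.S86.FrA
import Cfsg.Agent.Lib.S86.Witt

/-! Case `Sp₈(2)`: the class of transvections (project S86, see plans/S86.md). -/

set_option autoImplicit false
set_option maxRecDepth 100000
set_option Elab.async false
set_option linter.unusedSectionVars false

namespace CfsgLib.S86

open Subgroup CfsgLib.W2 CfsgLib.Tech CfsgLib.PComp CfsgLib.Rec3C CfsgLib.Rec3C.V4
open CfsgLib.Rec3B (V81)
open CfsgLib.L72 (Nm IsQ Oc)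

variable {G : Type*} [Group G] [Finite G]

variable {ι : N4 → G} {φ : SM →* G} {T : Subgroup G} {ψ : E64 →* G} {ρ : G → SM}

private theorem φH (h : CI ι φ T ψ ρ) (m : SM) : φ m ∈ Cx (ι (nl r4)) := mem_Cx.2 (h.w4 m).symm.eq

private theorem ψT (h : CI ι φ T ψ ρ) (v : E64) : ψ v ∈ T := (h.memT _).2 ⟨v, Or.inl rfl⟩

private theorem ψH (h : CI ι φ T ψ ρ) (v : E64) : ψ v ∈ Cx (ι (nl r4)) := h.rho.QH (ψT h v)

private theorem t0H : ι (nl r4) ∈ Cx (ι (nl r4)) := mem_Cx.2 rfl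

private theorem t0sq (h : CI ι φ T ψ ρ) : ι (nl r4) * ι (nl r4) = 1 := by
  rw [← h.κ34_vals.2.2.2.2.1, ← map_mul, show (PG.pl [0, 1, 2, 4, 3, 5] : PG 6) * PG.pl [0, 1, 2, 4, 3, 5] = 1 by
    decide +kernel, map_one]

private theorem t0ne (h : CI ι φ T ψ ρ) : ι (nl r4) ≠ 1 := fun e => by
  rw [← h.κ34_vals.2.2.2.2.1, ← map_one (κ34 ι φ)] at e
  exact absurd (h.κ34_vals.1 e) (by decide +kernel)

theorem ci_dec (h : CI ι φ T ψ ρ) {g : G} (hg : g ∈ Cx (ι (nl r4))) : ∃ q ∈ T, g = q * φ (ρ g) := by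
  refine ⟨g * (φ (ρ g))⁻¹, (h.rho.ker _ (mul_mem hg (inv_mem (φH h _)))).1 ?_, by group⟩
  rw [h.rho.mul _ hg _ (inv_mem (φH h _)), h.rho.inv (φH h _), h.ρφ, mul_inv_cancel]

theorem ci_comm (h : CI ι φ T ψ ρ) : ∀ p ∈ T, ∀ q ∈ T, Commute p q := by
  have k : ∀ u v, Commute (ψ u) (ψ v) := fun u v => by
    rw [Commute, SemiconjBy, ← map_mul, ← map_mul, E_comm]
  have l : ∀ u, Commute (ψ u) (ι (nl r4)) := fun u => mem_Cx.1 (ψH h u)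
  intro p hp q hq
  obtain ⟨u, rfl | rfl⟩ := (h.memT p).1 hp <;> obtain ⟨v, rfl | rfl⟩ := (h.memT q).1 hq
  · exact k u v
  · exact (l u).mul_right (k u v)
  · exact (l v).symm.mul_left (k u v)
  · exact ((Commute.refl _).mul_right (l v).symm).mul_left ((l u).mul_right (k u v))

/-- the group `S₆` in `C(x3, x4)` centralises `F3` -/
theorem ci_κ (h : CI ι φ T ψ ρ) (p : PG 6) : Commute (φ (κ p)) (ψ e3) ∧ Commute (φ (κ p)) (ψ f3) := by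
  obtain ⟨-, hx3, -⟩ := h.κ34_vals
  have c1 : Commute (φ (κ p)) (ι (nv x3)) := by rw [h.v3]; exact (κ_comm p).1.map φ
  have c2 : Commute (ι (nv x3)) (ι (nl r4)) := by rw [h.v3]; exact (h.w4 _).symm
  have e1 : ι (nv x3) * ψ e3 * (ι (nv x3))⁻¹ = ψ f3 := by
    rw [← hx3, h.p3, h.q3, ← map_inv, ← map_mul, ← map_mul]; exact congrArg _ (by decide +kernel)
  have e2 : ι (nv x3) * ψ f3 * (ι (nv x3))⁻¹ = ψ e3 * ψ f3 := by
    rw [← hx3, h.p3, h.q3, ← map_inv, ← map_mul, ← map_mul, ← map_mul]; exact congrArg _ (by decide +kernel)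
  set a := φ (κ p) with ha
  set x := ι (nv x3)
  have ax : ∀ y, a * (x * y * x⁻¹) * a⁻¹ = x * (a * y * a⁻¹) * x⁻¹ := fun y => by
    calc _ = (a * x) * y * (a * x)⁻¹ := by group
      _ = _ := by rw [c1.eq]; group
  have k : a * ψ e3 * a⁻¹ = ψ e3 := by
    have := h.rho.act a (φH h _) e3
    rw [ha, h.ρφ, (κ_fix p).1, ← ha] at this
    refine this.resolve_right fun k1 => t0ne h ?_
    have xt : ∀ y, x * (ι (nl r4) * y) * x⁻¹ = ι (nl r4) * (x * y * x⁻¹) := fun y => by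
      rw [← mul_assoc, c2.eq]; group
    have k2 : a * ψ f3 * a⁻¹ = ι (nl r4) * ψ f3 := by
      conv_lhs => rw [← e1]
      rw [ax, k1, xt, e1]
    have k3 : a * (ψ e3 * ψ f3) * a⁻¹ = ι (nl r4) * (ψ e3 * ψ f3) := by
      conv_lhs => rw [← e2]
      rw [ax, k2, xt, e2]
    have k4 : a * (ψ e3 * ψ f3) * a⁻¹ = ψ e3 * ψ f3 := by
      calc _ = (a * ψ e3 * a⁻¹) * (a * ψ f3 * a⁻¹) := by group
        _ = ι (nl r4) * (ψ e3 * ι (nl r4)) * ψ f3 := by rw [k1, k2]; group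
        _ = _ := by rw [mem_Cx.1 (ψH h e3), ← mul_assoc, t0sq h, one_mul]
    rw [k4] at k3
    exact (mul_eq_right.1 k3.symm)
  refine ⟨mul_inv_eq_iff_eq_mul.1 k, mul_inv_eq_iff_eq_mul.1 ?_⟩
  conv_lhs => rw [← e1]
  rw [ax, k, e1]

theorem ci_r3 (h : CI ι φ T ψ ρ) : ∀ v ∈ [e1, f1, e2, f2, e3], Commute (ι (nl r3)) (ψ v) := by
  have k : ∀ m, Commute (ι (nl r3)) (φ3 ι φ m) := fun m => by
    have := (h.toFr.twb (w := t34) mem_M4.2.2.2.2.2.2.2.1).w4 m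
    rwa [twb_nl, show t34 * r4 * t34⁻¹ = r3 by decide +kernel] at this
  simp only [List.mem_cons, List.not_mem_nil, or_false, forall_eq_or_imp, forall_eq]
  refine ⟨h.p1 ▸ k _, h.q1 ▸ k _, h.p2 ▸ k _, h.q2 ▸ k _, ?_⟩
  rw [h.p3, ← h.κ34_vals.2.2.2.1]
  exact Commute.map (show (PG.pl [1, 0, 2, 3, 4, 5] : PG 6) * PG.pl [1, 0, 5, 3, 4, 2] =
    PG.pl [1, 0, 5, 3, 4, 2] * PG.pl [1, 0, 2, 3, 4, 5] by decide +kernel) _

private theorem r3v (h : CI ι φ T ψ ρ) : ι (nl r3) = φ (tv e3) := by rw [h.toFr.vals.2.1, vals.2.2.1]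

private theorem DL_H {d k : G} (hk : k ∈ Cx (ι (nl r4))) (hd : d ∈ DL ι) : k * d * k⁻¹ ∈ DL ι := by
  rcases hd with rfl | ⟨a, ha, rfl⟩ | ⟨a, ha, rfl⟩
  · exact Or.inl (mem_Cx'.1 hk)
  · exact Or.inr (Or.inl ⟨k * a, mul_mem hk ha, by group⟩)
  · exact Or.inr (Or.inr ⟨k * a, mul_mem hk ha, by group⟩)

theorem tv_DL (h : CI ι φ T ψ ρ) {v : E64} (hv : v ≠ 1) : φ (tv v) ∈ DL ι := by
  obtain ⟨g, rfl⟩ := witt1 (u := e3) (by decide +kernel) hv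
  exact Or.inr (Or.inl ⟨φ g, φH h g, by rw [← conj_tv, map_mul, map_mul, map_inv, r3v h]⟩)

private theorem tr15 (p : PG 6) : ∃ s ∈ ([PG.pl [1, 0, 2, 3, 4, 5], PG.pl [2, 1, 0, 3, 4, 5], PG.pl [3, 1, 2, 0, 4, 5],
    PG.pl [4, 1, 2, 3, 0, 5], PG.pl [5, 1, 2, 3, 4, 0], PG.pl [0, 2, 1, 3, 4, 5], PG.pl [0, 3, 2, 1, 4, 5],
    PG.pl [0, 4, 2, 3, 1, 5], PG.pl [0, 5, 2, 3, 4, 1], PG.pl [0, 1, 3, 2, 4, 5], PG.pl [0, 1, 4, 3, 2, 5],
    PG.pl [0, 1, 5, 3, 4, 2], PG.pl [0, 1, 2, 4, 3, 5], PG.pl [0, 1, 2, 5, 4, 3], PG.pl [0, 1, 2, 3, 5, 4]] : List (PG 6)),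
    p * PG.pl [0, 1, 2, 4, 3, 5] * p⁻¹ = s :=
  PG.forall_of_dec (P := fun p : PG 6 => ∃ s ∈ ([PG.pl [1, 0, 2, 3, 4, 5], PG.pl [2, 1, 0, 3, 4, 5], PG.pl [3, 1, 2, 0, 4, 5],
    PG.pl [4, 1, 2, 3, 0, 5], PG.pl [5, 1, 2, 3, 4, 0], PG.pl [0, 2, 1, 3, 4, 5], PG.pl [0, 3, 2, 1, 4, 5],
    PG.pl [0, 4, 2, 3, 1, 5], PG.pl [0, 5, 2, 3, 4, 1], PG.pl [0, 1, 3, 2, 4, 5], PG.pl [0, 1, 4, 3, 2, 5],
    PG.pl [0, 1, 5, 3, 4, 2], PG.pl [0, 1, 2, 4, 3, 5], PG.pl [0, 1, 2, 5, 4, 3], PG.pl [0, 1, 2, 3, 5, 4]] : List (PG 6)),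
    p * PG.pl [0, 1, 2, 4, 3, 5] * p⁻¹ = s) (by decide +kernel) p

private theorem tr15' : ∀ s ∈ ([PG.pl [1, 0, 2, 3, 4, 5], PG.pl [2, 1, 0, 3, 4, 5], PG.pl [3, 1, 2, 0, 4, 5],
    PG.pl [4, 1, 2, 3, 0, 5], PG.pl [5, 1, 2, 3, 4, 0], PG.pl [0, 2, 1, 3, 4, 5], PG.pl [0, 3, 2, 1, 4, 5],
    PG.pl [0, 4, 2, 3, 1, 5], PG.pl [0, 5, 2, 3, 4, 1], PG.pl [0, 1, 3, 2, 4, 5], PG.pl [0, 1, 4, 3, 2, 5],
    PG.pl [0, 1, 5, 3, 4, 2], PG.pl [0, 1, 2, 4, 3, 5], PG.pl [0, 1, 2, 5, 4, 3], PG.pl [0, 1, 2, 3, 5, 4]] : List (PG 6)),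
    s = PG.pl [0, 1, 2, 4, 3, 5] ∨ ∃ c ∈ ([PG.pl [0, 1, 2, 3, 4, 5], PG.pl [0, 2, 1, 3, 4, 5], PG.pl [0, 5, 2, 3, 4, 1],
      PG.pl [2, 1, 0, 3, 4, 5], PG.pl [5, 1, 2, 3, 4, 0], PG.pl [2, 5, 0, 3, 4, 1], PG.pl [0, 1, 5, 3, 4, 2],
      PG.pl [0, 1, 2, 4, 3, 5], PG.pl [5, 1, 2, 4, 3, 0], PG.pl [0, 5, 2, 4, 3, 1], PG.pl [0, 1, 5, 4, 3, 2]] : List (PG 6)),
      c * PG.pl [0, 1, 2, 4, 3, 5] = PG.pl [0, 1, 2, 4, 3, 5] * c ∧
      (s = c * PG.pl [1, 0, 2, 3, 4, 5] * c⁻¹ ∨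
        s = c * (PG.pl [0, 1, 2, 4, 5, 3] * PG.pl [0, 1, 2, 4, 3, 5] * (PG.pl [0, 1, 2, 4, 5, 3])⁻¹) * c⁻¹) := by
  decide +kernel

/-- the transpositions of `κ34` -/
theorem κ34_DL (h : CI ι φ T ψ ρ) (p : PG 6) : κ34 ι φ (p * PG.pl [0, 1, 2, 4, 3, 5] * p⁻¹) ∈ DL ι := by
  obtain ⟨-, -, hx4, hr3, hr4, -⟩ := h.κ34_vals
  obtain ⟨s, hs, e⟩ := tr15 p
  rw [e]
  rcases tr15' s hs with rfl | ⟨c, -, hc, k⟩
  · exact Or.inl hr4
  have hc' : κ34 ι φ c ∈ Cx (ι (nl r4)) := by rw [mem_Cx, ← hr4, ← map_mul, ← map_mul, hc]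
  rcases k with rfl | rfl
  · exact Or.inr (Or.inl ⟨_, hc', by simp only [map_mul, map_inv, hr3]⟩)
  · exact Or.inr (Or.inr ⟨_, hc', by simp only [map_mul, map_inv, hx4, hr4]⟩)

/-- conjugates of transpositions of `κ34` -/
private theorem Pκ (h : CI ι φ T ψ ρ) (a p : PG 6) :
    ι (nl t34) * (κ34 ι φ a * κ34 ι φ (p * PG.pl [0, 1, 2, 4, 3, 5] * p⁻¹) * (κ34 ι φ a)⁻¹) * (ι (nl t34))⁻¹ ∈ DL ι := by
  have := κ34_DL h (PG.pl [3, 4, 5, 0, 1, 2] * a * p)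
  rw [← h.κ34_vals.2.2.2.2.2]
  simp only [map_mul, map_inv, mul_inv_rev, mul_assoc] at this ⊢
  exact this

private theorem g_r3 (h : CI ι φ T ψ ρ) : ι (nl t34) * ι (nl r3) * (ι (nl t34))⁻¹ = ι (nl r4) := by
  rw [h.toFr.conj_nl mem_M4.2.2.2.2.2.2.2.1 mem_M4.2.2.1, show t34 * r3 * t34⁻¹ = r4 by decide +kernel]

private theorem g_r4 (h : CI ι φ T ψ ρ) : ι (nl t34) * ι (nl r4) * (ι (nl t34))⁻¹ = ι (nl r3) := by
  rw [h.toFr.conj_nl mem_M4.2.2.2.2.2.2.2.1 mem_M4.2.2.2.1, show t34 * r4 * t34⁻¹ = r3 by decide +kernel]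

/-- invariance under `C(r3)` -/
private theorem PJ (h : CI ι φ T ψ ρ) {j d : G} (hj : Commute (ι (nl r3)) j)
    (hd : ι (nl t34) * d * (ι (nl t34))⁻¹ ∈ DL ι) : ι (nl t34) * (j * d * j⁻¹) * (ι (nl t34))⁻¹ ∈ DL ι := by
  have k : ι (nl t34) * j * (ι (nl t34))⁻¹ ∈ Cx (ι (nl r4)) := by
    rw [← g_r3 h, mem_Cx]
    exact (hj.symm.map (MulAut.conj (ι (nl t34)))).eq
  have := DL_H k hd
  simpa only [mul_assoc, mul_inv_rev, inv_inv, inv_mul_cancel_left] using this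

private theorem Tdec (h : CI ι φ T ψ ρ) {q : G} (hq : q ∈ T) :
    ∃ j a, Commute (ι (nl r3)) j ∧ q = j * κ34 ι φ a := by
  have k := ci_r3 h
  simp only [List.mem_cons, List.not_mem_nil, or_false, forall_eq_or_imp, forall_eq] at k
  obtain ⟨k1, k2, k3, k4, k5⟩ := k
  have s : ∀ {v : E64} (n : ℕ), Commute (ι (nl r3)) (ψ v) → Commute (ι (nl r3)) (ψ (sel n v)) := fun n hv => by
    unfold sel; split_ifs
    · rw [map_one]; exact Commute.one_right _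
    · exact hv
  have l : ∀ v, ∃ j a, Commute (ι (nl r3)) j ∧ ψ v = j * κ34 ι φ a := fun v => by
    have c : Commute (ι (nl r3)) (ψ (sel (bt v 0) e1 * sel (bt v 1) f1 * (sel (bt v 2) e2 * sel (bt v 3) f2) *
        sel (bt v 4) e3)) := by
      simp only [map_mul]
      exact (((s _ k1).mul_right (s _ k2)).mul_right ((s _ k3).mul_right (s _ k4))).mul_right (s _ k5)
    have e : ψ v = ψ (sel (bt v 0) e1 * sel (bt v 1) f1 * (sel (bt v 2) e2 * sel (bt v 3) f2) *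
        sel (bt v 4) e3) * ψ (sel (bt v 5) f3) := by
      rw [← map_mul, mul_assoc, ← coord v]
    by_cases h5 : bt v 5 = 0
    · exact ⟨_, 1, c, by rw [e, show sel (bt v 5) f3 = 1 from if_pos h5, map_one ψ, map_one]⟩
    · exact ⟨_, _, c, by rw [e, show sel (bt v 5) f3 = f3 from if_neg h5, h.q3]⟩
  obtain ⟨v, rfl | rfl⟩ := (h.memT q).1 hq
  · exact l v
  · obtain ⟨j, a, hj, e⟩ := l v
    refine ⟨ι (nl r4) * j, a, Commute.mul_right ?_ hj, by rw [e, mul_assoc]⟩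
    rw [r3v h]; exact (h.w4 _).symm

private theorem T_conj (h : CI ι φ T ψ ρ) {q k : G} (hq : q ∈ T) (hk : k ∈ Cx (ι (nl r4))) : k * q * k⁻¹ ∈ T := by
  have hq' := h.rho.QH hq
  rw [← h.rho.ker _ (mul_mem (mul_mem hk hq') (inv_mem hk)), h.rho.conj hk hq', (h.rho.ker _ hq').2 hq, mul_one,
    mul_inv_cancel]

theorem t34_DL (h : CI ι φ T ψ ρ) {d : G} (hd : d ∈ DL ι) : ι (nl t34) * d * (ι (nl t34))⁻¹ ∈ DL ι := by
  obtain ⟨-, hx3, hx4, hr3, hr4, hg⟩ := h.κ34_vals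
  -- the `T`-classes of transpositions of `κ34`
  have A : ∀ q ∈ T, ∀ p : PG 6, ι (nl t34) * (q * κ34 ι φ (p * PG.pl [0, 1, 2, 4, 3, 5] * p⁻¹) * q⁻¹) * (ι (nl t34))⁻¹ ∈
      DL ι := fun q hq p => by
    obtain ⟨j, a, hj, rfl⟩ := Tdec h hq
    have := PJ h hj (Pκ h a p)
    simpa only [mul_assoc, mul_inv_rev] using this
  have B : ∀ v ∈ [e3, e1, f3], ∀ q ∈ T, ι (nl t34) * (q * φ (tv v) * q⁻¹) * (ι (nl t34))⁻¹ ∈ DL ι := by
    simp only [List.mem_cons, List.not_mem_nil, or_false, forall_eq_or_imp, forall_eq]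
    refine ⟨fun q hq => ?_, fun q hq => ?_, fun q hq => ?_⟩
    · have := A q hq (PG.pl [3, 4, 5, 0, 1, 2])
      rwa [show (PG.pl [3, 4, 5, 0, 1, 2] : PG 6) * PG.pl [0, 1, 2, 4, 3, 5] * (PG.pl [3, 4, 5, 0, 1, 2])⁻¹ =
        PG.pl [1, 0, 2, 3, 4, 5] by decide +kernel, hr3, r3v h] at this
    · obtain ⟨j, a, hj, rfl⟩ := Tdec h hq
      have e : φ (tv e1) = ι (nl r1) := by rw [h.w1, vals.1]
      have c : ∀ p, κ34 ι φ p * ι (nl r1) * (κ34 ι φ p)⁻¹ = ι (nl r1) := fun p =>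
        mul_inv_eq_iff_eq_mul.2 (h.toFr.κ34_comm p).2.2.1.eq
      have := PJ h hj (d := κ34 ι φ a * ι (nl r1) * (κ34 ι φ a)⁻¹) (by
        rw [c, ← hg, c, ← e]; exact tv_DL h (by decide +kernel))
      rw [e]
      simpa only [mul_assoc, mul_inv_rev] using this
    · have := A q hq (PG.pl [1, 2, 0, 3, 4, 5] * PG.pl [3, 4, 5, 0, 1, 2])
      rwa [show (PG.pl [1, 2, 0, 3, 4, 5] * PG.pl [3, 4, 5, 0, 1, 2] : PG 6) * PG.pl [0, 1, 2, 4, 3, 5] *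
        (PG.pl [1, 2, 0, 3, 4, 5] * PG.pl [3, 4, 5, 0, 1, 2])⁻¹ =
        PG.pl [1, 2, 0, 3, 4, 5] * PG.pl [1, 0, 2, 3, 4, 5] * (PG.pl [1, 2, 0, 3, 4, 5])⁻¹ by decide +kernel,
        map_mul (κ34 ι φ), map_mul (κ34 ι φ), map_inv, hr3, hx3, r3v h, h.v3, ← map_inv, ← map_mul, ← map_mul,
        conj_tv, show sa β3 e3 = f3 by decide +kernel] at this
  rcases hd with rfl | ⟨k, hk, rfl⟩ | ⟨k, hk, rfl⟩
  · rw [g_r4 h, r3v h]; exact tv_DL h (by decide +kernel)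
  · obtain ⟨q, hq, e⟩ := ci_dec h hk
    have hv : sa (ρ k) e3 ≠ 1 := fun e => absurd (sa_inj _ (e.trans (sa_one _).symm)) (by decide +kernel)
    have e' : k * ι (nl r3) * k⁻¹ = q * φ (tv (sa (ρ k) e3)) * q⁻¹ := by
      rw [← conj_tv, map_mul, map_mul, map_inv, ← r3v h]
      conv_lhs => rw [e]
      group
    rw [e']
    generalize sa (ρ k) e3 = v at hv
    have : ∃ m, ∃ w ∈ [e3, e1, f3], sa m e3 = e3 ∧ sa m w = v := by
      by_cases h1 : v = e3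
      · exact ⟨1, e3, by simp, one_sa _, by rw [one_sa, h1]⟩
      cases h2 : bf e3 v
      · obtain ⟨m, hm⟩ := witt_perp (u := e3) (v := e1) (u' := e3) (v' := v) (by decide +kernel) (by decide +kernel)
          (by decide +kernel) (by decide +kernel) (by decide +kernel) hv (Ne.symm h1) h2
        exact ⟨m, e1, by simp, hm⟩
      · obtain ⟨m, hm⟩ := witt_hyp (u := e3) (v := f3) (u' := e3) (v' := v) (by decide +kernel) h2
        exact ⟨m, f3, by simp, hm⟩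
    obtain ⟨m, w, hw, hm, rfl⟩ := this
    have := PJ h (j := φ m) (by rw [r3v h]; exact ((comm_tv.2 hm).map φ).symm)
      (B w hw _ (T_conj h hq (inv_mem (φH h m))))
    rw [← conj_tv, map_mul, map_mul, map_inv]
    simpa only [mul_assoc, mul_inv_rev, inv_inv, mul_inv_cancel_left, mul_inv_cancel, mul_one] using this
  · obtain ⟨q, hq, e⟩ := ci_dec h hk
    have c : Commute (φ (ρ k)) (ι (nv x4) * ι (nl r4) * (ι (nv x4))⁻¹) :=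
      (((h.ch.comm _).symm.mul_right (h.w4 _).symm).mul_right (h.ch.comm _).symm.inv_right)
    have e' : k * (ι (nv x4) * ι (nl r4) * (ι (nv x4))⁻¹) * k⁻¹ = q * (ι (nv x4) * ι (nl r4) * (ι (nv x4))⁻¹) * q⁻¹ := by
      conv_lhs => rw [e]
      rw [mul_assoc q, c.eq]
      group
    have := A q hq (PG.pl [0, 1, 2, 4, 5, 3])
    rwa [map_mul (κ34 ι φ), map_mul (κ34 ι φ), map_inv, hx4, hr4, ← e'] at this

private theorem κ34_G0 (h : CI ι φ T ψ ρ) (p : PG 6) : κ34 ι φ p ∈ G0 ι := by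
  refine Rec3.S8.top_of_adj 5 _ (S := (G0 ι).comap (κ34 ι φ)) (fun i => ?_) p
  have k : ∀ i : Fin 5, ∃ c ∈ ([PG.pl [3, 4, 5, 0, 1, 2], PG.pl [3, 4, 5, 1, 2, 0], PG.pl [0, 1, 4, 2, 3, 5], 1,
      PG.pl [0, 1, 2, 4, 5, 3]] : List (PG 6)),
      PG.E 6 (Equiv.swap i.castSucc i.succ) = c * PG.pl [0, 1, 2, 4, 3, 5] * c⁻¹ := by decide +kernel
  obtain ⟨c, -, e⟩ := k i
  rw [mem_comap, e]
  exact subset_closure (κ34_DL h c)

theorem H_le_G0 (h : CI ι φ T ψ ρ) : Cx (ι (nl r4)) ≤ G0 ι ∧ ι (nl t34) ∈ G0 ι := by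
  refine ⟨fun k hk => ?_, h.κ34_vals.2.2.2.2.2 ▸ κ34_G0 h _⟩
  have hφ : ∀ m, φ m ∈ G0 ι := fun m => by
    have : (G0 ι).comap φ = ⊤ := gen_tv fun v => by
      by_cases hv : v = 1
      · rw [hv, tv_one]; exact one_mem _
      · exact subset_closure (tv_DL h hv)
    exact (this.ge (mem_top m) : m ∈ (G0 ι).comap φ)
  have ht : ι (nl r4) ∈ G0 ι := subset_closure (Or.inl rfl)
  have hψ : ∀ v, ψ v ∈ G0 ι := fun v => by
    by_cases hv : v = 1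
    · rw [hv, map_one]; exact one_mem _
    obtain ⟨m, rfl⟩ := witt1 (u := e3) (by decide +kernel) hv
    have k : φ m * ψ e3 * (φ m)⁻¹ ∈ G0 ι := mul_mem (mul_mem (hφ m) (h.p3 ▸ κ34_G0 h _)) (inv_mem (hφ m))
    rcases h.rho.act _ (φH h m) e3 with e | e <;> rw [e, h.ρφ] at k
    · exact k
    · exact (mul_mem_cancel_left ht).1 k
  obtain ⟨q, hq, e⟩ := ci_dec h hk
  rw [e]
  refine mul_mem ?_ (hφ _)
  obtain ⟨v, rfl | rfl⟩ := (h.memT q).1 hq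
  exacts [hψ v, mul_mem ht (hψ v)]

theorem DL_iff (h : CI ι φ T ψ ρ) {d : G} : d ∈ DL ι ↔ ∃ k ∈ G0 ι, k * ι (nl r4) * k⁻¹ = d := by
  obtain ⟨-, hx3, hx4, hr3, hr4, hg⟩ := h.κ34_vals
  obtain ⟨hH, hgG⟩ := H_le_G0 h
  constructor
  · rintro (rfl | ⟨k, hk, rfl⟩ | ⟨k, hk, rfl⟩)
    · exact ⟨1, one_mem _, by group⟩
    · exact ⟨k * ι (nl t34), mul_mem (hH hk) hgG, by rw [← g_r4 h]; group⟩
    · exact ⟨k * ι (nv x4), mul_mem (hH hk) (hx4 ▸ κ34_G0 h _), by group⟩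
  rintro ⟨k, hk, rfl⟩
  let K : Subgroup G :=
    { carrier := {k | ∀ d, d ∈ DL ι ↔ k * d * k⁻¹ ∈ DL ι}
      one_mem' := fun d => by simp
      mul_mem' := fun {a b} ha hb d => by
        rw [hb, ha]; simp only [mul_assoc, mul_inv_rev]
      inv_mem' := fun {a} ha d => by
        rw [ha (a⁻¹ * d * a⁻¹⁻¹)]; simp only [mul_assoc, inv_inv, mul_inv_cancel_left, mul_inv_cancel, mul_one] }
  have HK : Cx (ι (nl r4)) ≤ K := fun a ha d => ⟨DL_H ha, fun e => by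
    simpa only [mul_assoc, inv_inv, inv_mul_cancel_left, inv_mul_cancel, mul_one] using DL_H (inv_mem ha) e⟩
  have g2 : (ι (nl t34))⁻¹ = ι (nl t34) := by
    rw [← hg, ← map_inv]; exact congrArg _ (by decide +kernel)
  have gK : ι (nl t34) ∈ K := fun d => ⟨t34_DL h, fun e => by
    have := t34_DL h e
    have g3 : ι (nl t34) * ι (nl t34) = 1 := by
      nth_rewrite 1 [← g2]; exact inv_mul_cancel _
    rwa [g2, ← mul_assoc, ← mul_assoc, g3, one_mul, mul_assoc, g3, mul_one] at this⟩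
  have r3H : ι (nl r3) ∈ Cx (ι (nl r4)) := r3v h ▸ φH h _
  have GK : G0 ι ≤ K := (closure_le _).2 (by
    rintro _ (rfl | ⟨a, ha, rfl⟩ | ⟨a, ha, rfl⟩)
    · exact HK t0H
    · exact HK (mul_mem (mul_mem ha r3H) (inv_mem ha))
    · refine mul_mem (mul_mem (HK ha) ?_) (inv_mem (HK ha))
      have e : ι (nv x4) * ι (nl r4) * (ι (nv x4))⁻¹ =
          ι (nl t34) * (ι (nv x3) * ι (nl r3) * (ι (nv x3))⁻¹) * (ι (nl t34))⁻¹ := by
        rw [← hx3, ← hx4, ← hr3, ← hr4, ← hg]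
        simp only [← map_inv, ← map_mul]
        exact congrArg _ (by decide +kernel)
      have x3H : ι (nv x3) ∈ Cx (ι (nl r4)) := h.v3 ▸ φH h _
      rw [e]
      exact mul_mem (mul_mem gK (HK (mul_mem (mul_mem x3H r3H) (inv_mem x3H)))) (inv_mem gK))
  exact (GK hk _).1 (Or.inl rfl)

end CfsgLib.S86
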