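import Cfsg.Agent.Lib.S86.Del1
import Cfsg.Agent.Lib.S86.Iso

/-! Case `Sp₈(2)`: orders (project S86, see plans/S86.md). -/

set_option autoImplicit false
set_option maxRecDepth 100000
set_option Elab.async false
set_option linter.unusedSectionVars false

namespace CfsgLib.S86

open Subgroup CfsgLib.W2 CfsgLib.Tech CfsgLib.PComp CfsgLib.Rec3C CfsgLib.Rec3C.V4
open CfsgLib.Rec3B (V81)
open CfsgLib.L72 (Nm IsQ Oc)

variable {G : Type*} [Group G] [Finite G]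

variable {ι : N4 → G} {φ : SM →* G} {T : Subgroup G} {ψ : E64 →* G} {ρ : G → SM}

namespace Del2

variable (h : CI ι φ T ψ ρ)
include h

theorem ord : orderOf (ι (nl r4)) = 2 := h.toFr.ord_nl mem_M4.2.2.2.1 (by decide +kernel) (by decide +kernel)

theorem tT : ι (nl r4) ∈ T := (h.memT _).2 ⟨1, .inr (by rw [map_one, mul_one])⟩

theorem ψT (v : E64) : ψ v ∈ T := (h.memT _).2 ⟨v, .inl rfl⟩

theorem φH (m : SM) : φ m ∈ Cx (ι (nl r4)) := mem_Cx.2 (h.w4 m).symm.eq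

theorem ρT {q : G} (hq : q ∈ T) : ρ q = 1 := (h.rho.ker q (h.rho.QH hq)).2 hq

theorem card_T : Nat.card T = 128 := by
  let f : Bool × E64 → T := fun x => ⟨cond x.1 (ι (nl r4) * ψ x.2) (ψ x.2), by
    rcases x with ⟨_ | _, v⟩
    exacts [ψT h v, mul_mem (tT h) (ψT h v)]⟩
  have k : ∀ u v : E64, ψ u * (ψ v)⁻¹ ∈ zpowers (ι (nl r4)) → u = v := fun u v e =>
    mul_inv_eq_one.1 (h.rho.ind _ (by rwa [map_mul, map_inv]))
  have k' : ∀ u v : E64, ψ u ≠ ι (nl r4) * ψ v := fun u v e => by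
    obtain rfl := k u v (by rw [e, mul_inv_cancel_right]; exact mem_zpowers _)
    exact ne_one_of_orderOf_two (ord h) (by simpa using e)
  rw [← Nat.card_eq_of_bijective f ⟨?_, ?_⟩, Nat.card_prod, TG.card_eq]
  · simp
  · rintro ⟨_ | _, u⟩ ⟨_ | _, v⟩ e <;> have e' := congrArg Subtype.val e
    · rw [k u v (by rw [show ψ u = ψ v from e', mul_inv_cancel]; exact one_mem _)]
    · exact absurd e' (k' u v)
    · exact absurd e'.symm (k' v u)
    · rw [k u v (by rw [show ψ u = ψ v from mul_left_cancel e', mul_inv_cancel]; exact one_mem _)]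
  · rintro ⟨q, hq⟩
    obtain ⟨v, rfl | rfl⟩ := (h.memT q).1 hq
    exacts [⟨(false, v), rfl⟩, ⟨(true, v), rfl⟩]

theorem cls {q : G} (hq : q ∈ T) : q * φ t3 * q⁻¹ = φ t3 ∨ q * φ t3 * q⁻¹ = ψ f3 * φ t3 * (ψ f3)⁻¹ := by
  have c := ci_r3 h
  rw [h.toFr.vals.2.1] at c
  have k : ∀ v, Commute (φ t3) (ψ v) ∨ Commute (φ t3) (ψ (f3 * v)) := fun v => by
    refine TG.ind_of_genB genE (P := fun v => Commute (φ t3) (ψ v) ∨ Commute (φ t3) (ψ (f3 * v)))
      (.inl (by rw [map_one]; exact Commute.one_right _)) (fun a ha g hg => ?_) v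
    by_cases e : g = f3
    · subst e
      rw [E_comm a, ← mul_assoc, E_sq, one_mul]
      exact ha.symm
    · have cg := c g (by simpa [e] using hg)
      rw [← mul_assoc, map_mul, map_mul _ _ g]
      exact ha.imp (·.mul_right cg) (·.mul_right cg)
  have k' : ∀ v, ψ v * φ t3 * (ψ v)⁻¹ = φ t3 ∨ ψ v * φ t3 * (ψ v)⁻¹ = ψ f3 * φ t3 * (ψ f3)⁻¹ := fun v => by
    refine (k v).imp (fun e => by rw [← e.eq, mul_inv_cancel_right]) fun e => ?_
    have : ψ v = ψ f3 * ψ (f3 * v) := by rw [← map_mul, ← mul_assoc, E_sq, one_mul]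
    rw [this, mul_assoc (ψ f3), ← e.eq]
    group
  obtain ⟨v, rfl | rfl⟩ := (h.memT q).1 hq
  · exact k' v
  · have m := h.rho.QH (ψT h v)
    have := (mem_Cx.1 (mul_mem (mul_mem m (φH h t3)) (inv_mem m))).symm
    rw [show ι (nl r4) * ψ v * φ t3 * (ι (nl r4) * ψ v)⁻¹ = ι (nl r4) * (ψ v * φ t3 * (ψ v)⁻¹) * (ι (nl r4))⁻¹ by
      group, this, mul_inv_cancel_right]
    exact k' v

theorem cls_ne : ψ f3 * φ t3 * (ψ f3)⁻¹ ≠ φ t3 := by
  obtain ⟨i, -, -, e, -⟩ := h.toFr.κ34_vals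
  rw [← h.toFr.vals.2.1, ← e, h.q3, ← map_inv, ← map_mul, ← map_mul]
  exact fun c => absurd (i c) (by decide +kernel)

theorem ρ1 {k : G} (hk : k ∈ Cx (ι (nl r4))) : ρ (k * φ t3 * k⁻¹) = tv (sa (ρ k) e3) := by
  rw [h.rho.conj hk (φH h _), h.ρφ, S86.vals.2.2.1, conj_tv]

theorem card1 : {d | ∃ k ∈ Cx (ι (nl r4)), d = k * φ t3 * k⁻¹}.ncard = 126 := by
  have e1 : e3 ≠ 1 := by decide +kernel
  choose m hm using fun v : {v : E64 // v ≠ 1} => witt1 e1 v.2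
  let c : Bool → G := fun b => cond b (ψ f3) 1
  have cT : ∀ b, c b ∈ T := fun b => by
    cases b
    exacts [one_mem _, ψT h _]
  let f : {v : E64 // v ≠ 1} × Bool → G := fun x => φ (m x.1) * c x.2 * φ t3 * (φ (m x.1) * c x.2)⁻¹
  have mH : ∀ x : {v : E64 // v ≠ 1} × Bool, φ (m x.1) * c x.2 ∈ Cx (ι (nl r4)) := fun x =>
    mul_mem (φH h _) (h.rho.QH (cT _))
  have fρ : ∀ x, ρ (f x) = tv x.1.1 := fun x => by
    rw [ρ1 h (mH x), h.rho.mul _ (φH h _) _ (h.rho.QH (cT _)), ρT h (cT _), h.ρφ, mul_one, hm]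
  have fi : Function.Injective f := by
    rintro ⟨u, a⟩ ⟨v, b⟩ e
    obtain rfl : u = v := Subtype.ext (tv_inj _ _ ((fρ (u, a)).symm.trans (e ▸ fρ (v, b))))
    have e' : c a * φ t3 * (c a)⁻¹ = c b * φ t3 * (c b)⁻¹ := (MulAut.conj (φ (m u))).injective (by
      simpa [f, mul_assoc] using e)
    cases a <;> cases b
    · rfl
    · exact absurd (by simpa [c] using e'.symm) (cls_ne h)
    · exact absurd (by simpa [c] using e') (cls_ne h)
    · rfl
  have fr : {d | ∃ k ∈ Cx (ι (nl r4)), d = k * φ t3 * k⁻¹} = Set.range f := by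
    ext d
    refine ⟨?_, ?_⟩
    · rintro ⟨k, hk, rfl⟩
      let v : {v : E64 // v ≠ 1} := ⟨sa (ρ k) e3, fun e => e1 (sa_inj _ (e.trans (sa_one _).symm))⟩
      have hj := mul_mem (inv_mem (φH h (m v))) hk
      obtain ⟨q, hq, e⟩ := ci_dec h hj
      have fx : Commute (ρ ((φ (m v))⁻¹ * k)) t3 := by
        rw [S86.vals.2.2.1, comm_tv, h.rho.mul _ (inv_mem (φH h _)) _ hk, h.rho.inv (φH h _), h.ρφ, mul_sa]
        exact (congrArg _ (hm v).symm).trans (inv_sa_sa _ _)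
      generalize ρ ((φ (m v))⁻¹ * k) = n at e fx
      have e2 : k * φ t3 * k⁻¹ = φ (m v) * (q * φ t3 * q⁻¹) * (φ (m v))⁻¹ := by
        rw [eq_mul_of_inv_mul_eq e, mul_assoc (φ (m v)), mul_assoc q, (fx.map φ).eq]
        group
      rcases cls h hq with e3 | e3
      · exact ⟨(v, false), by rw [e2, e3]; simp [f, c]⟩
      · exact ⟨(v, true), by rw [e2, e3]; simp [f, c, mul_assoc]⟩
    · rintro ⟨x, rfl⟩
      exact ⟨_, mH x, rfl⟩
  rw [fr, ← Nat.card_coe_set_eq, Nat.card_range_of_injective fi, Nat.card_prod, Nat.card_eq_fintype_card,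
    Fintype.card_subtype_compl, ← Nat.card_eq_fintype_card, TG.card_eq]
  simp

theorem ts : ι (nl r4) * (ι (nv x4) * ι (nl r4) * (ι (nv x4))⁻¹) = ι (nv x4) := by
  have e := h.toFr.conj_ev (nl_mem mem_M4.2.2.2.1) x4
  rw [show act (nl r4).w x4 = x4⁻¹ by decide +kernel, ← h.toFr.ev_apply x4⁻¹, map_inv, h.toFr.ev_apply,
    inv_eq_of_orderOf_two (ord h)] at e
  have e3 := pow_orderOf_eq_one (ι (nv x4))
  rw [h.ch.ord] at e3
  rw [← mul_assoc, ← mul_assoc, e]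
  calc _ = (ι (nv x4) ^ 3)⁻¹ * ι (nv x4) := by group
    _ = _ := by rw [e3, inv_one, one_mul]

theorem sH : ι (nv x4) * ι (nl r4) * (ι (nv x4))⁻¹ ∉ Cx (ι (nl r4)) := fun c => by
  have o : orderOf (ι (nv x4) * ι (nl r4) * (ι (nv x4))⁻¹) = 2 := by rw [orderOf_conj_eq, ord h]
  have := (show Commute _ _ from (mem_Cx.1 c).symm).mul_pow 2
  rw [ts h, pow_two (ι (nl r4)), pow_two (_ * _), mul_self_of_orderOf_two (ord h), mul_self_of_orderOf_two o,
    mul_one] at this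
  have := orderOf_dvd_of_pow_eq_one this
  rw [h.ch.ord] at this
  exact absurd this (by norm_num)

theorem card2 : {d | ∃ k ∈ Cx (ι (nl r4)), d = k * (ι (nv x4) * ι (nl r4) * (ι (nv x4))⁻¹) * k⁻¹}.ncard = 128 := by
  have t := ts h
  have c : ∀ m, Commute (ι (nv x4) * ι (nl r4) * (ι (nv x4))⁻¹) (φ m) := fun m =>
    ((h.ch.comm m).mul_left (h.w4 m)).mul_left (h.ch.comm m).inv_left
  generalize ι (nv x4) * ι (nl r4) * (ι (nv x4))⁻¹ = s at t c
  let f : T → G := fun q => q * s * (q : G)⁻¹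
  have fi : Function.Injective f := fun p q e => by
    have hq := mul_mem (inv_mem q.2) p.2
    have c1 : Commute ((q : G)⁻¹ * p) s := by
      rw [Commute, SemiconjBy, ← mul_inv_eq_iff_eq_mul]
      calc _ = (q : G)⁻¹ * f p * q := by simp only [f]; group
        _ = _ := by rw [e]; simp only [f]; group
    have c2 : Commute ((q : G)⁻¹ * p) (ι (nv x4)) := t ▸ Commute.mul_right (mem_Cx.1 (h.rho.QH hq)) c1
    obtain ⟨n, hn⟩ := h.rho.Q2 ⟨_, hq⟩
    obtain ⟨m, hm⟩ := h.toFr.cent' c2 (Nat.Coprime.coprime_dvd_left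
      (orderOf_dvd_of_pow_eq_one (congrArg Subtype.val hn)) (Nat.Coprime.pow_left _ (by norm_num)))
    have := ρT h hq
    rw [← hm, h.ρφ] at this
    rw [this, map_one] at hm
    exact Subtype.ext (inv_mul_eq_one.1 hm.symm).symm
  have fr : {d | ∃ k ∈ Cx (ι (nl r4)), d = k * s * k⁻¹} = Set.range f := by
    ext d
    refine ⟨?_, ?_⟩
    · rintro ⟨k, hk, rfl⟩
      obtain ⟨q, hq, e⟩ := ci_dec h hk
      refine ⟨⟨q, hq⟩, ?_⟩
      generalize ρ k = n at e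
      rw [e, mul_assoc q, ← (c n).eq]
      simp only [f]
      group
    · rintro ⟨q, rfl⟩
      exact ⟨_, h.rho.QH q.2, rfl⟩
  rw [fr, ← Nat.card_coe_set_eq, Nat.card_range_of_injective fi, card_T h]

end Del2

theorem card_H (h : CI ι φ T ψ ρ) : Nat.card (Cx (ι (nl r4))) = 128 * 1451520 := by
  have k : h.rho.hom.ker = T.subgroupOf _ := Subgroup.ext fun g => h.rho.ker g g.2
  have s : h.rho.hom.range = ⊤ := MonoidHom.range_eq_top.2 fun m => by
    obtain ⟨g, hg, e⟩ := h.rho.surj m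
    exact ⟨⟨g, hg⟩, e⟩
  rw [← h.rho.hom.ker.card_mul_index, index_ker, s, card_top, card_SM, k,
    Nat.card_congr (subgroupOfEquivOfLe h.rho.QH).toEquiv, Del2.card_T h]

theorem card_DL (h : CI ι φ T ψ ρ) : (DL ι).ncard = 255 := by
  have e : DL ι = insert (ι (nl r4)) ({d | ∃ k ∈ Cx (ι (nl r4)), d = k * φ t3 * k⁻¹} ∪
      {d | ∃ k ∈ Cx (ι (nl r4)), d = k * (ι (nv x4) * ι (nl r4) * (ι (nv x4))⁻¹) * k⁻¹}) := by
    rw [← h.toFr.vals.2.1]
    rfl
  have n : ∀ k ∈ Cx (ι (nl r4)), k * (ι (nv x4) * ι (nl r4) * (ι (nv x4))⁻¹) * k⁻¹ ∉ Cx (ι (nl r4)) :=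
    fun k hk c => Del2.sH h ((mul_mem_cancel_left hk).1 ((mul_mem_cancel_right (inv_mem hk)).1 c))
  rw [e, Set.ncard_insert_of_notMem, Set.ncard_union_eq, Del2.card1 h, Del2.card2 h]
  · rw [Set.disjoint_left]
    rintro _ ⟨k, hk, rfl⟩ ⟨k', hk', e⟩
    exact n k' hk' (e ▸ mul_mem (mul_mem hk (Del2.φH h _)) (inv_mem hk))
  · rintro (⟨k, hk, e⟩ | ⟨k, hk, e⟩)
    · have := Del2.ρ1 h hk
      rw [← e, Del2.ρT h (Del2.tT h), ← tv_one] at this
      exact absurd (sa_inj _ ((sa_one _).trans (tv_inj _ _ this))) (by decide +kernel)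
    · exact n k hk (e ▸ mem_Cx.2 rfl)

theorem card_G0 (h : CI ι φ T ψ ρ) : Nat.card (G0 ι) = 255 * (128 * 1451520) := by
  let _ : MulAction (G0 ι) G := MulAction.compHom G (MulAut.conj.comp (G0 ι).subtype)
  have sm : ∀ (k : G0 ι) (x : G), k • x = k * x * (k : G)⁻¹ := fun _ _ => rfl
  have o : MulAction.orbit (G0 ι) (ι (nl r4)) = DL ι := Set.ext fun d => by
    rw [DL_iff h]
    exact ⟨fun ⟨k, e⟩ => ⟨k, k.2, e⟩, fun ⟨k, hk, e⟩ => ⟨⟨k, hk⟩, e⟩⟩
  have s : MulAction.stabilizer (G0 ι) (ι (nl r4)) = (Cx (ι (nl r4))).subgroupOf _ := Subgroup.ext fun k => by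
    rw [MulAction.mem_stabilizer_iff, sm, mem_subgroupOf, mem_Cx']
  rw [← (MulAction.stabilizer (G0 ι) (ι (nl r4))).index_mul_card, MulAction.index_stabilizer, o, card_DL h, s,
    Nat.card_congr (subgroupOfEquivOfLe (H_le_G0 h).1).toEquiv, card_H h]

end CfsgLib.S86
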