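import Cfsg.Agent.Lib.S86.Del2
import Cfsg.Agent.Lib.S86.Gen
import Cfsg.Agent.S1616
import Cfsg.Agent.Lib.Unitary.Center
import Cfsg.Agent.Lib.Core.MinNormal

/-! Case `Sp₈(2)`: the theorem of Fischer (project S86, see plans/S86.md). -/

set_option autoImplicit false
set_option maxRecDepth 100000
set_option Elab.async false
set_option linter.unusedSectionVars false

namespace CfsgLib.S86

open Subgroup CfsgLib.W2 CfsgLib.Tech CfsgLib.PComp CfsgLib.Rec3C CfsgLib.Rec3C.V4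
open CfsgLib.Rec3B (V81)
open CfsgLib.L72 (Nm IsQ Oc)

variable {G : Type*} [Group G] [Finite G]

theorem fis_val {a b m n : ℕ} (hm : Odd m) (hn : Odd n) (e : 2 ^ a * m = 2 ^ b * n) : a = b :=
  le_antisymm ((Nat.pow_dvd_pow_iff_le_right one_lt_two).1
    ((hn.coprime_two_left.pow_left a).dvd_of_dvd_mul_right (Dvd.intro _ e)))
    ((Nat.pow_dvd_pow_iff_le_right one_lt_two).1
      ((hm.coprime_two_left.pow_left b).dvd_of_dvd_mul_right (Dvd.intro _ e.symm)))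

theorem fis_odd (k : ℕ) : Odd (2 ^ (k + 1) - 1) ∧ Odd (2 ^ (k + 1) + 1) :=
  have e : Even (2 ^ (k + 1)) := (Nat.even_pow' k.succ_ne_zero).2 even_two
  ⟨Nat.Even.sub_odd Nat.one_le_two_pow e odd_one, e.add_one⟩

theorem fis_sp {n : ℕ} (e : Nat.card (Matrix.symplecticGroup (Fin n) (ZMod 2)) = 255 * (128 * 1451520)) : n = 4 := by
  rw [Symp.card_sp, ZMod.card] at e
  have := fis_val (b := 16) (n := 722925) (Finset.prod_induction _ Odd (fun _ _ => Odd.mul) odd_one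
    fun i _ => (fis_odd (2 * i + 1)).1) (by decide) e
  exact Nat.pow_left_injective two_ne_zero this

theorem fis_su {F : Type} [Field F] [Fintype F] (hF : Fintype.card F = 4) (n : ℕ) :
    Nat.card (Cfsg.PSU n F 2) ≠ 255 * (128 * 1451520) := fun e => by
  by_cases hn : 2 ≤ n
  · have k := Unitary.card_PSU (q := 2) hF hn
    rw [e, show n.gcd (2 + 1) * ((2 + 1) * (255 * (128 * 1451520))) = 2 ^ 16 * (n.gcd 3 * 2168775) by ring] at k
    have := fis_val ((Odd.of_dvd_nat (by decide) (Nat.gcd_dvd_right n 3)).mul (by decide))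
      (Finset.prod_induction _ Odd (fun _ _ => Odd.mul) odd_one fun i _ => by
        split_ifs
        exacts [(fis_odd i).2, (fis_odd i).1]) k
    by_cases h7 : 7 ≤ n
    · have := Nat.mul_le_mul h7 (show 6 ≤ n - 1 by omega)
      omega
    · interval_cases n <;> omega
  · have : Subsingleton (Fin n) := Fin.subsingleton_iff_le_one.2 (by omega)
    have := Nat.card_le_card_of_surjective _ (QuotientGroup.mk_surjective (s := center (Cfsg.SU n F 2)))
    rw [e, Nat.card_of_subsingleton 1] at this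
    omega

variable {ι : N4 → G} {φ : SM →* G} {T : Subgroup G} {ψ : E64 →* G} {ρ : G → SM}

theorem fis_conj (h : CI ι φ T ψ ρ) {k d : G} (hk : k ∈ G0 ι) (hd : d ∈ DL ι) : k * d * k⁻¹ ∈ DL ι := by
  obtain ⟨l, hl, rfl⟩ := (DL_iff h).1 hd
  exact (DL_iff h).2 ⟨k * l, mul_mem hk hl, by group⟩

theorem fis_t2 (h : CI ι φ T ψ ρ) : orderOf (ι (nl r4)) = 2 :=
  h.toFr.ord_nl mem_M4.2.2.2.1 (by decide +kernel) (by decide +kernel)

theorem fis_b (h : CI ι φ T ψ ρ) : ι (nl r4) * (ι (nv x4) * ι (nl r4) * (ι (nv x4))⁻¹) = ι (nv x4) := by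
  have e := h.toFr.conj_ev (nl_mem mem_M4.2.2.2.1) x4
  have t : (ι (nl r4))⁻¹ = ι (nl r4) := inv_eq_of_mul_eq_one_right (by rw [← pow_two, ← fis_t2 h, pow_orderOf_eq_one])
  rw [t] at e
  rw [← mul_assoc, ← mul_assoc, e, ← h.inv (nv_mem _ _), ← h.mul (nv_mem _ _) (inv_mem (nv_mem _ _)),
    ← map_inv, ← map_mul, show act (nl r4).w x4 * x4⁻¹ = x4 by decide +kernel]

theorem fis_prod (h : CI ι φ T ψ ρ) {d : G} (hd : d ∈ DL ι) : (ι (nl r4) * d) ^ 2 = 1 ∨ (ι (nl r4) * d) ^ 3 = 1 := by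
  have t2 : ι (nl r4) ^ 2 = 1 := fis_t2 h ▸ pow_orderOf_eq_one _
  rcases hd with rfl | ⟨k, hk, rfl⟩ | ⟨k, hk, rfl⟩
  · exact Or.inl (by rw [(Commute.refl _).mul_pow, t2, one_mul])
  · have c : Commute (ι (nl r4)) (ι (nl r3)) := (h.toFr.comm_nl mem_M4.2.2.2.1 mem_M4.2.2.1).2 (by decide +kernel)
    have c' : Commute (ι (nl r4)) k := (mem_Cx.1 hk).symm
    have r2 := pow_orderOf_eq_one (ι (nl r3))
    rw [h.toFr.ord_nl mem_M4.2.2.1 (by decide +kernel) (by decide +kernel)] at r2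
    exact Or.inl (by rw [((c'.mul_right c).mul_right c'.inv_right).mul_pow, t2, conj_pow, r2]; group)
  · right
    rw [← mul_assoc, ← mul_assoc, ← mem_Cx.1 hk, mul_assoc k, fis_b h, conj_pow, ← h.ch.ord, pow_orderOf_eq_one]
    group

theorem fis_ev (h : CI ι φ T ψ ρ) (v : V81) : ι (nv v) ∈ G0 ι := by
  have k : ∀ v, act r4 v = v → ι (nv v) ∈ G0 ι := fun v e =>
    (H_le_G0 h).1 (mem_Cx.2 ((h.toFr.comm_ev mem_M4.2.2.2.1 v).2 e).symm)
  refine (TG.eq_top_of_genB genV (S := (G0 ι).comap h.toFr.ev) ?_).ge (mem_top v)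
  simp only [List.forall_mem_cons]
  refine ⟨k _ (by decide +kernel), k _ (by decide +kernel), k _ (by decide +kernel), ?_, by simp⟩
  show ι (nv x4) ∈ G0 ι
  rw [← fis_b h]
  exact mul_mem (subset_closure (Or.inl rfl)) (subset_closure (Or.inr (Or.inr ⟨1, one_mem _, by group⟩)))

theorem fis_nT (h : CI ι φ T ψ ρ) {g q : G} (hg : g ∈ Cx (ι (nl r4))) (hq : q ∈ T) : g * q * g⁻¹ ∈ T := by
  have hq' := h.rho.QH hq
  refine (h.rho.ker _ (mul_mem (mul_mem hg hq') (inv_mem hg))).1 ?_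
  rw [h.rho.conj hg hq', (h.rho.ker q hq').2 hq, mul_one, mul_inv_cancel]

/-- the transvection `r4` in `G0` -/
noncomputable def fisT (ι : N4 → G) : G0 ι := ⟨ι (nl r4), subset_closure (Or.inl rfl)⟩

theorem fis_top (ι : N4 → G) : closure ((G0 ι).subtype ⁻¹' DL ι) = ⊤ := closure_preimage_eq_top _

theorem fis_cls (h : CI ι φ T ψ ρ) : (G0 ι).subtype ⁻¹' DL ι = conjugatesOf (fisT ι) := Set.ext fun d =>
  ⟨fun hd => by
    obtain ⟨k, hk, e⟩ := (DL_iff h).1 hd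
    exact isConj_iff.2 ⟨⟨k, hk⟩, Subtype.ext e⟩, fun hd => by
    obtain ⟨k, rfl⟩ := isConj_iff.1 hd
    exact (DL_iff h).2 ⟨k, k.2, rfl⟩⟩

theorem fis_class (h : CI ι φ T ψ ρ) : Cfsg.IsThreeTranspositionClass ((G0 ι).subtype ⁻¹' DL ι) := by
  refine ⟨⟨fun d hd => ?_, fun d hd e he => ?_⟩, ⟨fisT ι, Or.inl rfl, fis_cls h⟩, fis_top ι⟩
  · obtain ⟨k, -, e⟩ := (DL_iff h).1 hd
    rw [← orderOf_coe, ← fis_t2 h, ← (MulAut.conj k).orderOf_eq (ι (nl r4))]
    exact congrArg orderOf e.symm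
  · obtain ⟨k, hk, e1⟩ := (DL_iff h).1 hd
    have e2 : ((d * e : G0 ι) : G) = k * (ι (nl r4) * (k⁻¹ * e * k⁻¹⁻¹)) * k⁻¹ := by
      rw [coe_mul, show (d : G) = _ from e1.symm]; group
    refine (fis_prod h (fis_conj h (inv_mem hk) he)).imp (fun m => Subtype.ext ?_) fun m => Subtype.ext ?_ <;>
      rw [coe_pow, e2, conj_pow, show (ι (nl r4) * (k⁻¹ * e * k⁻¹⁻¹)) ^ _ = 1 from m, mul_one, mul_inv_cancel, coe_one]

theorem fis_perf (h : CI ι φ T ψ ρ) : commutator (G0 ι) = ⊤ := by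
  let f : SM →* G0 ι := φ.codRestrict _ fun m => (H_le_G0 h).1 (mem_Cx.2 (h.w4 m).symm)
  have k : f t3 ∈ commutator (G0 ι) := by
    have := mem_map_of_mem f (perfect_SM.ge (mem_top t3))
    rw [commutator_def, map_commutator] at this
    exact commutator_mono le_top le_top this
  have m : f t3 ∈ (G0 ι).subtype ⁻¹' DL ι := Or.inr (Or.inl ⟨1, one_mem _, by
    rw [h.toFr.vals.2.1, one_mul, inv_one, mul_one]; rfl⟩)
  rw [eq_top_iff, ← fis_top ι, closure_le]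
  intro d hd
  rw [fis_cls h] at hd m
  obtain ⟨g, rfl⟩ := isConj_iff.1 (IsConj.trans (IsConj.symm m) hd)
  exact Normal.conj_mem inferInstance _ k g

theorem fis_sol (hy : Hy G) (h : CI ι φ T ψ ρ) (N : Subgroup (G0 ι)) (hN : N.Normal) (hs : Group.IsSolvable N) :
    N = ⊥ := by
  by_contra ne
  obtain ⟨p, A, hp, hA, A0, -, ⟨hc, he⟩, -⟩ := Core.exists_elementaryAbelian_minimal_normal_le ne
  refine A0 ?_
  by_cases p2 : p = 2
  · subst p2
    refine (map_eq_bot_iff_of_injective _ (G0 ι).subtype_injective).1 (hy.rkV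
      ((Core.isPGroup_of_forall_pow_eq_one he).map _) h.toFr.bd.einj fun v => mem_normalizer_of_forall ?_)
    rintro _ ⟨a, ha, rfl⟩
    exact ⟨_, hA.conj_mem a ha ⟨_, fis_ev h v⟩, rfl⟩
  have triv : ∀ a ∈ A, ∀ k : ℕ, a ^ 2 ^ k = 1 → a = 1 := fun a ha k e => orderOf_eq_one_iff.1
    (Nat.eq_one_of_dvd_coprimes (((Nat.coprime_primes hp Nat.prime_two).2 p2).pow_right k)
      (orderOf_dvd_of_pow_eq_one (he a ha)) (orderOf_dvd_of_pow_eq_one e))
  have tT : ∀ a ∈ A, (a : G) ∈ T → a = 1 := fun a ha m => by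
    obtain ⟨k, e⟩ := h.rho.Q2 ⟨a, m⟩
    exact triv a ha k (Subtype.ext (congrArg (fun x : T => (x : G)) e))
  have fix : ∀ a ∈ A, Commute a (fisT ι) → a = 1 := fun a ha c => by
    have m : (a : G) ∈ Cx (ι (nl r4)) := mem_Cx.2 (congrArg Subtype.val c)
    refine tT a ha (h.cT a m fun q hq => ?_)
    let q' : G0 ι := ⟨q, (H_le_G0 h).1 (h.rho.QH hq)⟩
    have := tT (a * (q' * a⁻¹ * q'⁻¹)) (mul_mem ha (hA.conj_mem _ (inv_mem ha) _)) (by
      simpa [mul_assoc] using mul_mem (fis_nT h m hq) (inv_mem hq))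
    have e : (a : G) * (q * (a : G)⁻¹ * q⁻¹) = 1 := congrArg Subtype.val this
    rw [← commutatorElement_eq_one_iff_commute, ← e, commutatorElement_def]; group
  have t2 : fisT ι * fisT ι = 1 := Subtype.ext (by
    rw [← pow_two, coe_pow, coe_one, ← fis_t2 h]; exact pow_orderOf_eq_one _)
  have inv : ∀ a ∈ A, fisT ι * a * (fisT ι)⁻¹ = a⁻¹ := fun a ha => by
    have m := hA.conj_mem a ha (fisT ι)
    have c : a * (fisT ι * a * (fisT ι)⁻¹) = fisT ι * a * (fisT ι)⁻¹ * a :=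
      congrArg Subtype.val (hc.is_comm.comm (⟨a, ha⟩ : A) ⟨_, m⟩)
    refine eq_inv_of_mul_eq_one_right (fix _ (mul_mem ha m) ?_)
    rw [Commute, SemiconjBy]
    conv_rhs => rw [c, inv_eq_of_mul_eq_one_right t2, ← mul_assoc, ← mul_assoc, ← mul_assoc, t2, one_mul]
    rw [mul_assoc a, inv_mul_cancel_right, ← mul_assoc]
  let f : G0 ι →* MulAut A := MulAut.conjNormal
  have k : ∀ g, f g ∈ zpowers (f (fisT ι)) := fun g => by
    refine ((closure_le ((zpowers (f (fisT ι))).comap f)).2 fun d hd => ?_) ((fis_top ι).ge (mem_top g))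
    rw [fis_cls h] at hd
    obtain ⟨g, rfl⟩ := isConj_iff.1 hd
    refine ⟨1, MulEquiv.ext fun a => Subtype.ext ?_⟩
    have := inv _ (hA.conj_mem a a.2 g⁻¹)
    simp only [zpow_one, f, MulAut.conjNormal_apply, inv a a.2]
    calc _ = g * (g⁻¹ * a * g⁻¹⁻¹)⁻¹ * g⁻¹ := by group
      _ = _ := by rw [← this]; group
  have l : fisT ι ∈ f.ker := by
    refine (commutator_le.2 fun a _ b _ => ?_) ((fis_perf h).ge (mem_top _))
    obtain ⟨i, hi⟩ := k a
    obtain ⟨j, hj⟩ := k b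
    rw [MonoidHom.mem_ker, map_commutatorElement, ← hi, ← hj, commutatorElement_eq_one_iff_commute]
    exact Commute.zpow_zpow_self _ _ _
  exact eq_bot_iff.2 fun a ha => fix a ha
    (mul_inv_eq_iff_eq_mul.1 (congrArg Subtype.val (DFunLike.congr_fun l (⟨a, ha⟩ : A)) :
      fisT ι * a * (fisT ι)⁻¹ = a)).symm

theorem iso_G0 (hy : Hy G) {ι : N4 → G} {φ : SM →* G} {T : Subgroup G} {ψ : E64 →* G} {ρ : G → SM}
    (h : CI ι φ T ψ ρ) : Nonempty (G0 ι ≃* Matrix.symplecticGroup (Fin 4) (ZMod 2)) := by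
  obtain ⟨κi, -, -, -, κ4, -⟩ := h.toFr.κ34_vals
  let E := closure {y : G0 ι | y ∈ (G0 ι).subtype ⁻¹' DL ι ∧ y ≠ fisT ι ∧ Commute (fisT ι) y}
  have EH : ∀ g : E, (g.1 : G) ∈ Cx (ι (nl r4)) := fun g =>
    ((closure_le ((Cx (ι (nl r4))).subgroupOf _)).2 fun y hy => mem_Cx.2 (congrArg Subtype.val hy.2.2).symm) g.2
  have tr : ∀ p s : PG 6, s = p * PG.pl [0, 1, 2, 4, 3, 5] * p⁻¹ → s ≠ PG.pl [0, 1, 2, 4, 3, 5] →
      PG.pl [0, 1, 2, 4, 3, 5] * s = s * PG.pl [0, 1, 2, 4, 3, 5] → ∃ g : E, (g.1 : G) = κ34 ι φ s := by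
    rintro p _ rfl h1 h2
    exact ⟨⟨⟨_, subset_closure (κ34_DL h p)⟩, subset_closure ⟨κ34_DL h p,
      fun e => h1 (κi ((congrArg Subtype.val e).trans κ4.symm)), Subtype.ext (by
        have := congrArg (κ34 ι φ) h2
        rw [map_mul, map_mul _ _ (PG.pl [0, 1, 2, 4, 3, 5]), κ4] at this
        exact this)⟩⟩, rfl⟩
  obtain ⟨a, ha⟩ := tr (PG.pl [3, 4, 5, 0, 1, 2]) (PG.pl [1, 0, 2, 3, 4, 5]) (by decide +kernel) (by decide +kernel)
    (by decide +kernel)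
  obtain ⟨b, hb⟩ := tr (PG.pl [0, 1, 3, 2, 5, 4]) (PG.pl [0, 1, 5, 3, 4, 2]) (by decide +kernel) (by decide +kernel)
    (by decide +kernel)
  obtain ⟨c, hc⟩ := tr (PG.pl [0, 3, 4, 1, 2, 5]) (PG.pl [0, 2, 1, 3, 4, 5]) (by decide +kernel) (by decide +kernel)
    (by decide +kernel)
  refine (Cfsg.Agent.S1616.result (fis_sol hy h) (by rw [fis_perf h, ← commutator_def, fis_perf h])
    (fis_class h) (fisT ι) (Or.inl rfl) (fun le => ?_)).elim ?_ ?_
  rotate_left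
  · rintro ⟨n, ⟨e⟩⟩
    obtain rfl := fis_sp ((Nat.card_congr e.toEquiv).symm.trans (card_G0 h))
    exact ⟨e⟩
  · rintro ⟨F, _, _, n, hF, ⟨e⟩⟩
    exact absurd ((Nat.card_congr e.toEquiv).symm.trans (card_G0 h)) (fis_su hF n)
  · let R : Subgroup E := T.comap ((G0 ι).subtype.comp E.subtype)
    have : R.Normal := ⟨fun q hq g => fis_nT h (EH g) hq⟩
    have m : a * b ∈ R := (h.memT _).2 ⟨e3, Or.inl (by
      rw [h.p3, show PG.pl [1, 0, 5, 3, 4, 2] = (PG.pl [1, 0, 2, 3, 4, 5] * PG.pl [0, 1, 5, 3, 4, 2] : PG 6) by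
        decide +kernel, map_mul (κ34 ι φ), ← ha, ← hb]; rfl)⟩
    have e := congrArg (fun g : E => (g.1 : G)) (mem_center_iff.1 (le (Core.le_pCore (N := R)
      (h.rho.Q2.comap_of_injective _ fun _ _ e => Subtype.ext (Subtype.ext e)) m)) c)
    simp only [coe_mul, ha, hb, hc, ← map_mul] at e
    exact absurd (κi e) (by decide +kernel)

end CfsgLib.S86
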