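import Cfsg.Agent.Lib.S86.Loc

/-! The frame: basic facts (project S86, see plans/S86.md). -/

set_option autoImplicit false
set_option maxRecDepth 100000
set_option Elab.async false
set_option linter.unusedSectionVars false

namespace CfsgLib.S86

open Subgroup CfsgLib.W2 CfsgLib.Tech CfsgLib.PComp CfsgLib.Rec3C CfsgLib.Rec3C.V4
open CfsgLib.Rec3B (V81)
open CfsgLib.L72 (Nm IsQ Oc)

variable {G : Type*} [Group G] [Finite G]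

variable {Γ : Subgroup GO} {ι : N4 → G} {φ : SM →* G}

omit [Finite G] in
theorem fra_gimg {K : Subgroup N4} {Δ : Subgroup GO} (hK : ∀ g ∈ Δ, ∀ a ∈ K, nl g * a * (nl g)⁻¹ ∈ K) {w : GO}
    (hw : w ∈ Δ) : gimg (twb ι w) K = gimg ι K := by
  refine le_antisymm (gim_le.2 fun a ha => mem_gim_of (hK w hw a ha)) (gim_le.2 fun a ha => ?_)
  have := mem_gim_of (ι := twb ι w) (hK _ (inv_mem hw) a ha)
  rwa [twb, map_inv, show nl w * ((nl w)⁻¹ * a * (nl w)⁻¹⁻¹) * (nl w)⁻¹ = a by group] at this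

theorem fra_dec (p : PG 6) : p * p = 1 → p * PG.pl [1, 0, 2, 3, 4, 5] = PG.pl [1, 0, 2, 3, 4, 5] * p →
    p * PG.pl [0, 1, 2, 4, 3, 5] = PG.pl [0, 1, 2, 4, 3, 5] * p →
    p * PG.pl [3, 4, 5, 0, 1, 2] = PG.pl [3, 4, 5, 0, 1, 2] * p → (p * PG.pl [1, 2, 0, 3, 4, 5]) ^ 4 = 1 →
    (p * PG.pl [1, 2, 0, 3, 4, 5]) ^ 2 ≠ 1 → p = PG.pl [0, 1, 5, 3, 4, 2] := by
  revert p
  exact PG.forall_of_dec (by decide +kernel)

theorem fra_t : act t1324 x1 = x3 ∧ act t1324 x2 = x4 ∧ act t1324 x3 = x1 ∧ act t1324 x4 = x2 ∧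
    t1324 * r1 * t1324⁻¹ = r3 ∧ t1324 * r2 * t1324⁻¹ = r4 ∧ t1324 * t12 * t1324⁻¹ = t34 ∧
    t1324 * r3 * t1324⁻¹ = r1 ∧ t1324 * r4 * t1324⁻¹ = r2 ∧ t1324 * t34 * t1324⁻¹ = t12 := by decide +kernel

namespace Fr

variable (h : Fr Γ ι φ)
include h

theorem m4 : M4 ≤ Γ := by
  rcases h.hΓ with e | e | e <;> rw [e]
  exacts [M4_le, le_top]

/-- the vectors -/
noncomputable def ev : V81 →* G :=
  MonoidHom.mk' (fun v => ι (nv v)) fun u v => by rw [map_mul, h.mul (nv_mem Γ u) (nv_mem Γ v)]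

theorem ev_apply (v : V81) : h.ev v = ι (nv v) := rfl

theorem fra_k3 {k : G} (hk : Commute k (ι (nv x4))) (hc : ∀ m, Commute k (φ m)) : k ^ 3 = 1 := by
  obtain ⟨i, rfl⟩ := loc_nat (h.kt k hk hc)
  rw [← pow_mul, mul_comm, pow_mul, h.ch.loc_b3, one_pow]

theorem bd : Bd (ι (nv x4)) φ h.ev := by
  refine ⟨⟨h.ch, fun u v e => nv_inj (h.inj (nv_mem Γ u) (nv_mem Γ v) e), h.v1, h.v2, h.v3, rfl⟩,
    fun k hk hc _ _ => h.kt k hk hc, fun k hk hc k2 => ?_⟩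
  have e := h.fra_k3 hk hc
  rwa [pow_succ, pow_two, k2, one_mul] at e

theorem ev_range : h.ev.range = JG ι := by
  refine le_antisymm ?_ (gim_le.2 fun a ha => ⟨a.v, congrArg ι (eq_nv ha)⟩)
  rintro _ ⟨v, rfl⟩
  exact mem_gim_of (nv_JV v)

theorem conj_ev {a : N4} (ha : a ∈ NG Γ) (v : V81) : ι a * ι (nv v) * (ι a)⁻¹ = ι (nv (act a.w v)) :=
  h.conj_eq ha (nv_mem Γ v) (conj_nv a v)

theorem comm_ev {w : GO} (hw : w ∈ Γ) (v : V81) : Commute (ι (nl w)) (ι (nv v)) ↔ act w v = v := by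
  exact (h.comm_iff (nl_mem hw) (nv_mem Γ v)).trans comm_nv

theorem nl_mul {u w : GO} (hu : u ∈ Γ) (hw : w ∈ Γ) : ι (nl (u * w)) = ι (nl u) * ι (nl w) := by
  rw [map_mul, h.mul (nl_mem hu) (nl_mem hw)]

theorem conj_nl {u w : GO} (hu : u ∈ Γ) (hw : w ∈ Γ) : ι (nl u) * ι (nl w) * (ι (nl u))⁻¹ = ι (nl (u * w * u⁻¹)) := by
  exact h.conj_eq (nl_mem hu) (nl_mem hw) (by rw [map_mul, map_mul, map_inv])

theorem comm_nl {u w : GO} (hu : u ∈ Γ) (hw : w ∈ Γ) : Commute (ι (nl u)) (ι (nl w)) ↔ u * w = w * u := by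
  exact (h.comm_iff (nl_mem hu) (nl_mem hw)).trans (by rw [← map_mul, ← map_mul, nl_inj.eq_iff])

theorem ord_nl {w : GO} (hw : w ∈ Γ) (h2 : w * w = 1) (h1 : w ≠ 1) : orderOf (ι (nl w)) = 2 := by
  exact h.ord_two (nl_mem hw) (by rw [← map_mul, h2, map_one]) fun e => h1 (nl_inj (e.trans (map_one nl).symm))

theorem vals : ι (nl r2) = φ t2 ∧ ι (nl r3) = φ t3 ∧ ι (nl t13) = φ s13 ∧ ι (nl t23) = φ s23 ∧ ι (nv cc) = φ c0 ∧
    ι (nv yy) = φ y0 ∧ ι (nv zz) = φ z0 ∧ ι (nl m1) = ι (nl r4) * φ (t1 * t2 * t3) := by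
  obtain ⟨m1, m2, m3, m4, m12, -, -, -, -, -, ma, -⟩ := mem_M4
  have k : r2 = t12 * r1 * t12⁻¹ ∧ r3 = al * r2 * al⁻¹ ∧ t13 = al * t12 ∧ t23 = t12 * al ∧
      V4.m1 = r4 * (r1 * r2 * r3) := by decide +kernel
  have l : t2 = s12 * t1 * s12⁻¹ ∧ t3 = α0 * t2 * α0⁻¹ ∧ s13 = α0 * s12 ∧ s23 = s12 * α0 := by decide +kernel
  have e2 : ι (nl r2) = φ t2 := by
    rw [k.1, ← h.conj_nl (h.m4 m12) (h.m4 m1), h.w12, h.w1, l.1, map_mul, map_mul, map_inv]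
  have e3 : ι (nl r3) = φ t3 := by
    rw [k.2.1, ← h.conj_nl (h.m4 ma) (h.m4 m2), h.wal, e2, l.2.1, map_mul, map_mul, map_inv]
  refine ⟨e2, e3, ?_, ?_, h.bd.vals.1, h.bd.vals.2.1, h.bd.vals.2.2, ?_⟩
  · rw [k.2.2.1, h.nl_mul (h.m4 ma) (h.m4 m12), h.wal, h.w12, l.2.2.1, map_mul]
  · rw [k.2.2.2.1, h.nl_mul (h.m4 m12) (h.m4 ma), h.wal, h.w12, l.2.2.2, map_mul]
  · rw [k.2.2.2.2, h.nl_mul (h.m4 m4) (h.m4 (mul_mem (mul_mem m1 m2) m3)), h.nl_mul (h.m4 (mul_mem m1 m2)) (h.m4 m3),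
      h.nl_mul (h.m4 m1) (h.m4 m2), h.w1, e2, e3, map_mul, map_mul]

theorem pat : Pat Γ (ι (nv x4)) h.ev := by
  exact ⟨fun w hw => ⟨ι (nl w), fun v => h.conj_ev (nl_mem hw) v⟩, h.oc⟩

theorem th : Th h.ev := by
  intro k hk h3
  obtain ⟨k', M, e, hM, k1, k2, -⟩ := h.bd.loc_dec hk
  have e3 : k ^ 3 = 1 := by rw [e, (k2 M).mul_pow, h.fra_k3 k1 k2, ← map_pow, B0_facts.1 M hM, map_one, one_mul]
  have := pow_gcd_eq_one.2 ⟨pow_orderOf_eq_one k, e3⟩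
  rwa [h3, pow_one] at this

/-- the change of the frame -/
theorem twb {w : GO} (hw : w ∈ Γ) : Fr Γ (Rec3C.twb ι w) (cjh (ι (nl w)) φ) := by
  obtain ⟨m1, -, -, m4, m12, -, -, -, -, -, ma, -⟩ := mem_M4
  have e : ∀ {a}, a ∈ NG Γ → Rec3C.twb ι w a = ι (nl w) * ι a * (ι (nl w))⁻¹ := fun ha => (h.conj (nl_mem hw) ha).symm
  have v : ∀ u, Rec3C.twb ι w (nv u) = ι (nl w) * ι (nv u) * (ι (nl w))⁻¹ := fun u => e (nv_mem Γ u)
  have l : ∀ {u}, u ∈ M4 → Rec3C.twb ι w (nl u) = ι (nl w) * ι (nl u) * (ι (nl w))⁻¹ := fun hu => e (nl_mem (h.m4 hu))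
  refine ⟨⟨fun ha hb => ?_, fun ha hb k => ?_⟩, v x4 ▸ h.ch.conj _, h.hΓ, fun k hk hc => ?_, by rw [v, cjh_apply, h.v1],
    by rw [v, cjh_apply, h.v2], by rw [v, cjh_apply, h.v3], by rw [l m1, cjh_apply, h.w1],
    by rw [l m12, cjh_apply, h.w12], by rw [l ma, cjh_apply, h.wal], fun m => ?_, ?_, fun u hu => h.oc u ?_⟩
  · rw [e (mul_mem ha hb), e ha, e hb, h.mul ha hb, conj_mul]
  · rw [e ha, e hb] at k
    exact h.inj ha hb (mul_left_cancel (mul_right_cancel k))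
  · rw [v] at hk ⊢
    rw [← cj_zpowers, mem_cj]
    exact h.kt _ (comm_cj hk) fun m => comm_cj (hc m)
  · rw [l m4]
    exact (h.w4 m).map (MulAut.conj (ι (nl w)))
  · rw [NJG, JG, fra_gimg (K := JV) (fun g _ a ha => Normal.conj_mem inferInstance a ha _) (mem_top w),
      fra_gimg (K := NG Γ) (Δ := Γ) (fun g hg a ha => mul_mem (mul_mem (nl_mem hg) ha) (inv_mem (nl_mem hg))) hw]
    exact h.norm
  · rw [v, v] at hu
    have c : ∀ y : G, IsConj y (ι (nl w) * y * (ι (nl w))⁻¹) := fun y => isConj_iff.2 ⟨_, rfl⟩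
    exact hu.imp (fun k => ((c _).trans k).trans (c _).symm) fun k => by
      rw [conj_inv] at k
      exact ((c _).trans k).trans (c _).symm

theorem twb_eq {w : GO} (hw : w ∈ Γ) {a : N4} (ha : a ∈ NG Γ) :
    Rec3C.twb ι w a = ι (nl w) * ι a * (ι (nl w))⁻¹ := by
  exact (h.conj (nl_mem hw) ha).symm

/-- `C(x4) = ⟨x4⟩ × L` -/
theorem cent {g : G} (hg : Commute g (ι (nv x4))) : ∃ (i : ℕ) (m : SM), g = ι (nv x4) ^ i * φ m := by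
  obtain ⟨k, M, e, k1, k2, -⟩ := h.ch.dec (.inl (loc_cj hg))
  obtain ⟨i, rfl⟩ := loc_nat (h.kt k (loc_cm (k2.trans (loc_cj hg))) k1)
  exact ⟨i, M, e⟩

theorem cent' {g : G} (hg : Commute g (ι (nv x4))) (h3 : (orderOf g).Coprime 3) : g ∈ φ.range := by
  obtain ⟨k, M, e, k1, k2, -, k3⟩ := h.ch.dec (.inl (loc_cj hg))
  have := pow_gcd_eq_one.2 ⟨(k3 _ (pow_orderOf_eq_one g)).2, h.fra_k3 (loc_cm (k2.trans (loc_cj hg))) k1⟩
  rw [h3, pow_one] at this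
  exact ⟨M, by rw [e, this, one_mul]⟩

theorem cent_J {g : G} (hg : ∀ v, Commute g (ι (nv v))) : ∃ v, g = ι (nv v) := by
  obtain ⟨k, M, e, hM, k1, k2, -⟩ := h.bd.loc_dec hg
  obtain ⟨i, rfl⟩ := loc_nat (h.kt k k1 k2)
  exact (h.bd.mem_ev.2 ⟨i, M, hM, e⟩).imp fun _ e => e.symm

theorem exists_eq {g : G} (hg : g ∈ NJG ι) : ∃ a ∈ NG Γ, ι a = g := (h.mem_im le_rfl).1 (h.norm ▸ hg)

theorem fra_inv {g : G} (h3 : Commute g (ι (nv x3))) (h4 : Commute g (ι (nv x4))) (h2 : g * g = 1) :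
    ∃ p : PG 6, p * p = 1 ∧ g = φ (κ p) := by
  obtain ⟨m, rfl⟩ := h.bd.two (n := 1) h4 (by rwa [pow_one, pow_two])
  have m2 : m * m = 1 := h.ch.inj (by rw [map_mul, h2, map_one])
  obtain ⟨i, p, e⟩ := cβ3 (m := m) (h.ch.inj (by rw [map_mul, map_mul, ← h.v3]; exact h3))
  have e1 : m = κ (p ^ 3) := by
    rw [map_pow, ← one_mul (κ p ^ 3), ← one_pow i, ← (by decide +kernel : β3 ^ 3 = 1), ← pow_mul, mul_comm 3, pow_mul,
      ← ((κ_comm p).1.symm.pow_left i).mul_pow, ← e, pow_succ, pow_two, m2, one_mul]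
  exact ⟨p ^ 3, κ_inj (by rw [map_mul, ← e1, m2, map_one]), congrArg φ e1⟩

theorem ks : KS ι (φ.comp κ) := by
  obtain ⟨m1, m2, -, -, m12, -, -, m34, -⟩ := mem_M4
  obtain ⟨k1, k2, k3, k4, k5, -⟩ := κ_vals
  have e1 : φ.comp κ (PG.pl [1, 2, 0, 3, 4, 5]) = ι (nv x1) := (congrArg φ k1).trans h.v1.symm
  have e2 : φ.comp κ (PG.pl [0, 1, 2, 4, 5, 3]) = ι (nv x2) := (congrArg φ k2).trans h.v2.symm
  have e3 : φ.comp κ (PG.pl [1, 0, 2, 3, 4, 5]) = ι (nl r1) := (congrArg φ k3).trans h.w1.symm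
  have e4 : φ.comp κ (PG.pl [0, 1, 2, 4, 3, 5]) = ι (nl r2) := (congrArg φ k4).trans h.vals.1.symm
  have e5 : φ.comp κ (PG.pl [3, 4, 5, 0, 1, 2]) = ι (nl t12) := (congrArg φ k5).trans h.w12.symm
  have inj : Function.Injective (φ.comp κ) := h.ch.inj.comp κ_inj
  have c3 : ∀ p, Commute (φ (κ p)) (ι (nv x3)) := fun p => h.v3 ▸ (κ_comm p).1.map φ
  have c4 : ∀ p, Commute (φ (κ p)) (ι (nv x4)) := fun p => (h.ch.comm _).symm
  let S : Subgroup (PG 6) := (Cx (ι (nl t34))).comap (φ.comp κ)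
  have l : ∀ {u : GO}, u ∈ M4 → u * t34 = t34 * u → ι (nl u) ∈ Cx (ι (nl t34)) := fun hu e =>
    mem_Cx.2 ((h.comm_nl (h.m4 hu) (h.m4 m34)).2 e)
  have l' : ∀ {u : V81}, act t34 u = u → ι (nv u) ∈ Cx (ι (nl t34)) := fun e =>
    mem_Cx.2 ((h.comm_ev (h.m4 m34) _).2 e).symm
  have s1 : PG.pl [1, 2, 0, 3, 4, 5] ∈ S := mem_comap.2 (e1 ▸ l' (by decide +kernel))
  have s2 : PG.pl [0, 1, 2, 4, 5, 3] ∈ S := mem_comap.2 (e2 ▸ l' (by decide +kernel))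
  have s3 : PG.pl [1, 0, 2, 3, 4, 5] ∈ S := mem_comap.2 (e3 ▸ l m1 (by decide +kernel))
  have s4 : PG.pl [0, 1, 2, 4, 3, 5] ∈ S := mem_comap.2 (e4 ▸ l m2 (by decide +kernel))
  have s5 : PG.pl [3, 4, 5, 0, 1, 2] ∈ S := mem_comap.2 (e5 ▸ l m12 (by decide +kernel))
  have s0 : PG.pl [0, 1, 5, 3, 4, 2] ∈ S := by
    let f : PG 6 →* G := cjh (ι (nl t34)) (φ.comp κ)
    have fi : Function.Injective f := (MulAut.conj _).injective.comp inj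
    have fS : ∀ {q}, q ∈ S → f q = φ.comp κ q := fun hq => loc_cj (Eq.symm (mem_Cx.1 (mem_comap.1 hq)))
    have a3 : ι (nl t34) * ι (nv x3) * (ι (nl t34))⁻¹ = ι (nv x4) :=
      (h.conj_ev (nl_mem (h.m4 m34)) x3).trans (congrArg (fun v => ι (nv v)) (by decide +kernel))
    have a4 : ι (nl t34) * ι (nv x4) * (ι (nl t34))⁻¹ = ι (nv x3) :=
      (h.conj_ev (nl_mem (h.m4 m34)) x4).trans (congrArg (fun v => ι (nv v)) (by decide +kernel))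
    obtain ⟨p, pp, e⟩ := h.fra_inv (g := f (PG.pl [0, 1, 5, 3, 4, 2])) (a4 ▸ (c4 _).map (MulAut.conj _))
      (a3 ▸ (c3 _).map (MulAut.conj _)) (by rw [← map_mul, ← map_one f]; exact congrArg f (by decide +kernel))
    have e' : φ.comp κ p = f (PG.pl [0, 1, 5, 3, 4, 2]) := e.symm
    have cm : ∀ {q}, q ∈ S → PG.pl [0, 1, 5, 3, 4, 2] * q = q * PG.pl [0, 1, 5, 3, 4, 2] → p * q = q * p :=
      fun hq k => inj (by rw [map_mul, map_mul, e', ← fS hq, ← map_mul, ← map_mul, k])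
    have pw : ∀ n : ℕ, (p * PG.pl [1, 2, 0, 3, 4, 5]) ^ n = 1 ↔
        (PG.pl [0, 1, 5, 3, 4, 2] * PG.pl [1, 2, 0, 3, 4, 5] : PG 6) ^ n = 1 := fun n => by
      rw [← map_eq_one_iff _ inj, ← map_eq_one_iff _ fi, map_pow, map_pow, map_mul, map_mul, e', fS s1]
    have := fra_dec p pp (cm s3 (by decide +kernel)) (cm s4 (by decide +kernel)) (cm s5 (by decide +kernel))
      ((pw 4).2 (by decide +kernel)) fun k => absurd ((pw 2).1 k) (by decide +kernel)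
    rw [this] at e'
    exact mem_comap.2 (mem_Cx.2 (loc_cm e'.symm).symm)
  have top : ∀ p, p ∈ S := by
    refine Rec3.S8.top_of_adj 5 _ (S := S) fun i => ?_
    fin_cases i
    · convert s3 using 1; decide +kernel
    · convert mul_mem (mul_mem s1 s3) (inv_mem s1) using 1; decide +kernel
    · convert mul_mem (mul_mem s2 s0) (inv_mem s2) using 1; decide +kernel
    · convert s4 using 1; decide +kernel
    · convert mul_mem (mul_mem s2 s4) (inv_mem s2) using 1; decide +kernel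
  refine ⟨inj, e1, e2, e3, e4, e5, fun p => ⟨mem_Cx.2 (c3 p), mem_Cx.2 (c4 p),
    mem_Cx.2 (h.vals.2.1 ▸ ((κ_comm p).2.1.map φ).eq), mem_Cx.2 (h.w4 _).symm, top p⟩, fun g a b => ?_⟩
  obtain ⟨j, m, rfl⟩ := h.cent (mem_Cx.1 b)
  have c : Commute (ι (nv x4)) (ι (nv x3)) := h.v3 ▸ h.ch.comm _
  have a' := (mul_mem_cancel_left (pow_mem (mem_Cx.2 c) j)).1 a
  obtain ⟨i, p, rfl⟩ := cβ3 (m := m) (h.ch.inj (by rw [map_mul, map_mul, ← h.v3]; exact mem_Cx.1 a'))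
  exact ⟨i, j, p, by rw [map_mul, map_pow, ← h.v3, ← mul_assoc, (c.pow_pow j i).eq]; rfl⟩

/-- the involutions of `C(x3, x4)` -/
theorem inv34 {g : G} (h3 : Commute g (ι (nv x3))) (h4 : Commute g (ι (nv x4))) (h2 : g * g = 1) :
    ∃ p : PG 6, p * p = 1 ∧ g = φ (κ p) := by
  exact h.fra_inv h3 h4 h2

/-- rigidity -/
theorem rig {w : GO} (hw : w ∈ Γ) {g : G} (h3 : Commute g (ι (nv (act w x3)))) (h4 : Commute g (ι (nv (act w x4))))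
    (h2 : g * g = 1) : Commute g (ι (nl (w * r3 * w⁻¹))) ∧ Commute g (ι (nl (w * r4 * w⁻¹))) ∧
      Commute g (ι (nl (w * t34 * w⁻¹))) := by
  obtain ⟨p, -, rfl⟩ := (h.twb hw).inv34 (g := g) (by rwa [twb_nv]) (by rwa [twb_nv]) h2
  have := (h.twb hw).ks.ce p
  rw [twb_nl, twb_nl, twb_nl] at this
  exact ⟨mem_Cx.1 this.2.2.1, mem_Cx.1 this.2.2.2.1, mem_Cx.1 this.2.2.2.2⟩

theorem ch3 : Bd (ι (nv x3)) (φ3 ι φ) (cjh (ι (nl t34)) h.ev) := by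
  have e : ι (nl t34) * ι (nv x4) * (ι (nl t34))⁻¹ = ι (nv x3) :=
    (h.conj_ev (nl_mem (h.m4 mem_M4.2.2.2.2.2.2.2.1)) x4).trans (congrArg (fun v => ι (nv v)) (by decide +kernel))
  exact e ▸ h.bd.conj (ι (nl t34))

theorem φ3_vals : φ3 ι φ β1 = ι (nv x1) ∧ φ3 ι φ β2 = ι (nv x2) ∧ φ3 ι φ β3 = ι (nv x4) ∧ φ3 ι φ t3 = ι (nl r4) ∧
    (∀ p, φ3 ι φ (κ p) = φ (κ p)) ∧ ∀ g, Commute g (ι (nv x3)) → (orderOf g).Coprime 3 → g ∈ (φ3 ι φ).range := by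
  have m := h.m4 mem_M4.2.2.2.2.2.2.2.1
  have k : act t34 x1 = x1 ∧ act t34 x2 = x2 ∧ act t34 x3 = x4 ∧ act t34 x4 = x3 ∧ t34 * r3 * t34⁻¹ = r4 := by
    decide +kernel
  have h' := h.twb m
  refine ⟨by rw [φ3, ← h'.v1, twb_nv, k.1], by rw [φ3, ← h'.v2, twb_nv, k.2.1], by rw [φ3, ← h'.v3, twb_nv, k.2.2.1],
    by rw [φ3, ← h'.vals.2.1, twb_nl, k.2.2.2.2], fun p => loc_cj (Eq.symm (mem_Cx.1 (h.ks.ce p).2.2.2.2)),
    fun g hg => h'.cent' (by rwa [twb_nv, k.2.2.2.1])⟩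

theorem κ34_vals : Function.Injective (κ34 ι φ) ∧ κ34 ι φ (PG.pl [1, 2, 0, 3, 4, 5]) = ι (nv x3) ∧
    κ34 ι φ (PG.pl [0, 1, 2, 4, 5, 3]) = ι (nv x4) ∧ κ34 ι φ (PG.pl [1, 0, 2, 3, 4, 5]) = ι (nl r3) ∧
    κ34 ι φ (PG.pl [0, 1, 2, 4, 3, 5]) = ι (nl r4) ∧ κ34 ι φ (PG.pl [3, 4, 5, 0, 1, 2]) = ι (nl t34) := by
  have k := (h.twb (h.m4 mem_M4.2.2.2.2.2.2.2.2.2.2.2.2.1)).ks
  obtain ⟨a1, a2, -, -, a3, a4, a5, -⟩ := fra_t
  exact ⟨k.inj, k.e1.trans (by rw [twb_nv, a1]), k.e2.trans (by rw [twb_nv, a2]), k.r1.trans (by rw [twb_nl, a3]),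
    k.r2.trans (by rw [twb_nl, a4]), k.t0.trans (by rw [twb_nl, a5])⟩

theorem κ34_comm (p : PG 6) : Commute (κ34 ι φ p) (ι (nv x1)) ∧ Commute (κ34 ι φ p) (ι (nv x2)) ∧
    Commute (κ34 ι φ p) (ι (nl r1)) ∧ Commute (κ34 ι φ p) (ι (nl r2)) ∧ Commute (κ34 ι φ p) (ι (nl t12)) := by
  have k := (h.twb (h.m4 mem_M4.2.2.2.2.2.2.2.2.2.2.2.2.1)).ks.ce p
  obtain ⟨-, -, a1, a2, -, -, -, a3, a4, a5⟩ := fra_t
  rw [twb_nv, twb_nv, twb_nl, twb_nl, twb_nl, a1, a2, a3, a4, a5] at k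
  exact ⟨mem_Cx.1 k.1, mem_Cx.1 k.2.1, mem_Cx.1 k.2.2.1, mem_Cx.1 k.2.2.2.1, mem_Cx.1 k.2.2.2.2⟩

theorem inv12 {g : G} (h1 : Commute g (ι (nv x1))) (h2 : Commute g (ι (nv x2))) (hg : g * g = 1) :
    ∃ p : PG 6, p * p = 1 ∧ g = κ34 ι φ p := by
  obtain ⟨-, -, a1, a2, -⟩ := fra_t
  exact (h.twb (h.m4 mem_M4.2.2.2.2.2.2.2.2.2.2.2.2.1)).inv34 (by rwa [twb_nv, a1]) (by rwa [twb_nv, a2]) hg

end Fr

end CfsgLib.S86
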