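import Cfsg.Agent.Lib.S86.MC
import Cfsg.Agent.Lib.S86.Gen

/-! The 3-structure of the model (project S86, see plans/S86.md). -/

set_option autoImplicit false
set_option maxRecDepth 100000
set_option Elab.async false
set_option linter.unusedSectionVars false

namespace CfsgLib.S86

open Subgroup CfsgLib.W2 CfsgLib.Tech CfsgLib.PComp CfsgLib.Rec3C CfsgLib.Rec3C.V4
open CfsgLib.Rec3B (V81)
open CfsgLib.L72 (Nm IsQ Oc)

variable {G : Type*} [Group G] [Finite G]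

theorem mb_β : β1 ^ 3 = 1 ∧ β2 ^ 3 = 1 ∧ β3 ^ 3 = 1 ∧ Commute β1 β2 ∧ Commute β1 β3 ∧ Commute β2 β3 := by
  decide +kernel

theorem mb_mem : β1 ∈ B0 ∧ β2 ∈ B0 ∧ β3 ∈ B0 :=
  ⟨subset_closure (by simp), subset_closure (by simp), subset_closure (by simp)⟩

/-- an element of order dividing 3 in a `3'`-group -/
theorem mb_one {N : Subgroup G} (h : (Nat.card N).Coprime 3) {x : G} (hx : x ∈ N) (h3 : x ^ 3 = 1) : x = 1 :=
  orderOf_eq_one_iff.1 (Nat.eq_one_of_dvd_coprimes h (orderOf_dvd_natCard N hx) (orderOf_dvd_of_pow_eq_one h3))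

omit [Finite G] in
theorem mb_mod {x : G} (h : x ^ 3 = 1) (j : ℕ) : ∃ i : Fin 3, x ^ j = x ^ i.1 :=
  ⟨⟨j % 3, Nat.mod_lt _ (by norm_num)⟩, pow_eq_pow_mod j h⟩

theorem mem_B0 {m : SM} : m ∈ B0 ↔ ∃ i j k : Fin 3, m = β1 ^ i.1 * β2 ^ j.1 * β3 ^ k.1 := by
  refine ⟨fun h => ?_, fun ⟨i, j, k, e⟩ =>
    e ▸ mul_mem (mul_mem (pow_mem mb_mem.1 _) (pow_mem mb_mem.2.1 _)) (pow_mem mb_mem.2.2 _)⟩
  have k : ∀ g ∈ [β1, β2, β3], ∀ i j k : Fin 3,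
      (∃ a b c : Fin 3, g * (β1 ^ i.1 * β2 ^ j.1 * β3 ^ k.1) = β1 ^ a.1 * β2 ^ b.1 * β3 ^ c.1) ∧
      ∃ a b c : Fin 3, g⁻¹ * (β1 ^ i.1 * β2 ^ j.1 * β3 ^ k.1) = β1 ^ a.1 * β2 ^ b.1 * β3 ^ c.1 := by decide +kernel
  induction h using closure_induction_left with
  | one => exact ⟨0, 0, 0, by simp⟩
  | mul_left x hx y _ ih => obtain ⟨i, j, l, rfl⟩ := ih; exact (k x (by simpa using hx) i j l).1
  | inv_mul_cancel x hx y _ ih => obtain ⟨i, j, l, rfl⟩ := ih; exact (k x (by simpa using hx) i j l).2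

theorem B0_facts : (∀ m ∈ B0, m ^ 3 = 1) ∧ (∀ m ∈ B0, ∀ k ∈ B0, Commute m k) ∧ Nat.card B0 = 27 ∧
    ∀ i j k : Fin 3, β1 ^ i.1 * β2 ^ j.1 * β3 ^ k.1 = 1 → i = 0 ∧ j = 0 ∧ k = 0 := by
  refine ⟨fun m hm => ?_, fun m hm k hk => ?_, ?_, by decide +kernel⟩
  · obtain ⟨i, j, k, rfl⟩ := mem_B0.1 hm
    clear hm; revert i j k; decide +kernel
  · obtain ⟨i, j, l, rfl⟩ := mem_B0.1 hm
    obtain ⟨a, b, c, rfl⟩ := mem_B0.1 hk
    clear hm hk; revert i j l a b c; decide +kernel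
  · refine (Nat.card_eq_of_bijective (fun x : Fin 3 × Fin 3 × Fin 3 =>
      (⟨_, mem_B0.2 ⟨x.1, x.2.1, x.2.2, rfl⟩⟩ : B0)) ⟨fun ⟨i, j, l⟩ ⟨a, b, c⟩ e => ?_, fun m => ?_⟩).symm.trans (by simp)
    · have k : ∀ i j l a b c : Fin 3, β1 ^ i.1 * β2 ^ j.1 * β3 ^ l.1 = β1 ^ a.1 * β2 ^ b.1 * β3 ^ c.1 →
          (i, j, l) = (a, b, c) := by decide +kernel
      exact k _ _ _ _ _ _ (congrArg Subtype.val e)
    · obtain ⟨i, j, k, e⟩ := mem_B0.1 m.2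
      exact ⟨(i, j, k), Subtype.ext e.symm⟩

omit [Finite G] in
theorem mb_cj {m x : G} (g : G) (h : Commute m x) : Commute (g * m * g⁻¹) (g * x * g⁻¹) := h.map (MulAut.conj g)

theorem c12 {m : SM} (h1 : Commute m β1) (h2 : Commute m β2) : ∃ u ∈ B0, m = u ∨ m = u * t3 := by
  have v : s13 * β1 * s13⁻¹ = β3 ∧ s13 * β2 * s13⁻¹ = β2 ∧ s13⁻¹ * β3 * s13 = β1 := by decide +kernel
  obtain ⟨i, p, e⟩ := cβ3 (v.1 ▸ mb_cj s13 h1)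
  have c : Commute (κ p) β2 := by
    have := (mb_β.2.2.2.2.2.symm.pow_left i).inv_left.mul_left (e ▸ v.2.1 ▸ mb_cj s13 h2)
    rwa [inv_mul_cancel_left] at this
  obtain ⟨j, k, e'⟩ := PG.forall_of_dec (P := fun p : PG 6 => Commute (κ p) β2 → ∃ j k : Fin 3,
    s13⁻¹ * κ p * s13 = β2 ^ j.1 * β3 ^ k.1 ∨ s13⁻¹ * κ p * s13 = β2 ^ j.1 * β3 ^ k.1 * t3) (by decide +kernel) p c
  have e2 : m = β1 ^ i * (s13⁻¹ * κ p * s13) := by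
    calc m = s13⁻¹ * (s13 * m * s13⁻¹) * s13 := by group
      _ = (s13⁻¹ * β3 * s13⁻¹⁻¹) ^ i * (s13⁻¹ * κ p * s13) := by rw [e, conj_pow]; group
      _ = _ := by rw [inv_inv, v.2.2]
  exact ⟨β1 ^ i * (β2 ^ j.1 * β3 ^ k.1), mul_mem (pow_mem mb_mem.1 _) (mul_mem (pow_mem mb_mem.2.1 _)
    (pow_mem mb_mem.2.2 _)), e'.imp (fun e => by rw [e2, e]) fun e => by rw [e2, e, mul_assoc (β1 ^ i)]⟩

theorem cB0 {m : SM} (h1 : Commute m β1) (h2 : Commute m β2) (h3 : Commute m β3) : m ∈ B0 := by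
  obtain ⟨u, hu, rfl | rfl⟩ := c12 h1 h2
  · exact hu
  · have := (B0_facts.2.1 u hu _ mb_mem.2.2).inv_left.mul_left h3
    rw [inv_mul_cancel_left] at this
    exact absurd this (by decide +kernel)

theorem cc0 {m : SM} (h : Commute m c0) : ∃ u ∈ B0, m ∈ [u, u * s12, u * t3, u * s12 * t3] := by
  have f : ∀ v, sa c0 v = v → sa c0 (sa m v) = sa m v := fun v e => by rw [← mul_sa, ← h.eq, mul_sa, e]
  have k : ∀ a : E64, sa c0 a = a → ∀ b : E64, sa c0 b = b → bf a b = true →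
      ∃ i : Fin 3, ∃ t ∈ [1, t3], sa (β3 ^ i.1 * t) e3 = a ∧ sa (β3 ^ i.1 * t) f3 = b ∧ Commute (β3 ^ i.1 * t) c0 := by
    decide +kernel
  obtain ⟨i, t, ht, e1, e2, c⟩ := k _ (f e3 (by decide +kernel)) _ (f f3 (by decide +kernel))
    (by rw [bf_sa]; decide +kernel)
  obtain ⟨p, e⟩ := fix_e3f3 (m := (β3 ^ i.1 * t)⁻¹ * m) (by rw [mul_sa, ← e1, inv_sa_sa]) (by rw [mul_sa, ← e2, inv_sa_sa])
  obtain ⟨j, k, e'⟩ := PG.forall_of_dec (P := fun p : PG 6 => Commute (κ p) c0 → ∃ j k : Fin 3,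
    κ p = β1 ^ j.1 * β2 ^ k.1 ∨ κ p = β1 ^ j.1 * β2 ^ k.1 * s12) (by decide +kernel) p (e ▸ c.inv_left.mul_left h)
  have e3 : m = β3 ^ i.1 * (t * κ p) := by rw [← e]; group
  refine ⟨β3 ^ i.1 * (β1 ^ j.1 * β2 ^ k.1), mul_mem (pow_mem mb_mem.2.2 _) (mul_mem (pow_mem mb_mem.1 _)
    (pow_mem mb_mem.2.1 _)), ?_⟩
  simp only [List.mem_cons, List.not_mem_nil, or_false] at ht ⊢
  rcases ht with rfl | rfl
  · rw [one_mul] at e3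
    rcases e' with e' | e' <;> rw [e3, e'] <;> simp [mul_assoc]
  · rw [← (κ_comm p).2.1.eq] at e3
    rcases e' with e' | e' <;> rw [e3, e'] <;> simp [mul_assoc]

theorem cyz {m : SM} (h1 : Commute m y0) (h2 : Commute m z0) : m ∈ B0 := by
  obtain ⟨r, hr, q, hq, j, rfl⟩ := cz0 h2
  obtain ⟨a, b, c, rfl⟩ := mem_R0.1 hr
  obtain ⟨l, e⟩ := mb_mod mb_β.2.2.1 j
  rw [e] at h1 ⊢
  have k : ∀ q ∈ [1, s12, q1, q1⁻¹, q2, q2⁻¹, q1 * q2, q2 * q1], ∀ a b c l : Fin 3,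
      Commute (z0 ^ a.1 * y0 ^ b.1 * α0 ^ c.1 * q * β3 ^ l.1) y0 →
      Commute (z0 ^ a.1 * y0 ^ b.1 * α0 ^ c.1 * q * β3 ^ l.1) β1 ∧
      Commute (z0 ^ a.1 * y0 ^ b.1 * α0 ^ c.1 * q * β3 ^ l.1) β2 ∧
      Commute (z0 ^ a.1 * y0 ^ b.1 * α0 ^ c.1 * q * β3 ^ l.1) β3 := by decide +kernel
  obtain ⟨k1, k2, k3⟩ := k q (mem_Q0.1 hq) a b c l h1
  exact cB0 k1 k2 k3

/-- the number of fixed vectors -/
noncomputable def mb_fix (m : SM) : ℕ := (Finset.univ.filter fun v => sa m v = v).card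

theorem mb_fix_conj (g m : SM) : mb_fix (g * m * g⁻¹) = mb_fix m :=
  (Finset.card_bij (fun v _ => sa g v) (fun v hv => by
    rw [Finset.mem_filter] at hv ⊢
    exact ⟨Finset.mem_univ _, by rw [mul_sa, mul_sa, inv_sa_sa, hv.2]⟩) (fun _ _ _ _ e => sa_inj g e) fun v hv => by
    rw [Finset.mem_filter, mul_sa, mul_sa] at hv
    exact ⟨sa g⁻¹ v, Finset.mem_filter.2 ⟨Finset.mem_univ _, sa_inj g (hv.2.trans (sa_inv_sa g v).symm)⟩,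
      sa_inv_sa g v⟩).symm

/-- the conjugates of `β1` in `B0` -/
theorem conj_β {m : SM} (h : m ∈ B0) (hc : IsConj β1 m) : m ∈ [β1, β1⁻¹, β2, β2⁻¹, β3, β3⁻¹] := by
  obtain ⟨g, e⟩ := isConj_iff.1 hc
  have := mb_fix_conj g β1
  rw [e] at this
  obtain ⟨i, j, k, rfl⟩ := mem_B0.1 h
  clear e hc h
  revert i j k
  unfold mb_fix
  decide +kernel

theorem mb_n {g : SM} (h : ∀ b ∈ [β1, β2, β3], ∃ i j k : Fin 3, g * b * g⁻¹ = β1 ^ i.1 * β2 ^ j.1 * β3 ^ k.1) :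
    g ∈ Nm B0 := mem_normalizer_of_cj_le (by
  rw [B0, cj, MonoidHom.map_closure, closure_le]
  rintro _ ⟨b, hb, rfl⟩
  exact mem_B0.2 (h b (by simpa using hb)))

theorem mb_α : α0 ∈ Nm B0 := mb_n (by decide +kernel)

theorem mb_pS : IsPGroup 3 (B0 ⊔ zpowers α0 : Subgroup SM) :=
  IsPGroup.to_sup_of_normal_left' (isPGroup_iff_mem.2 fun x hx => ⟨1, B0_facts.1 x hx⟩)
    (isPGroup_zpowers_of_pow (k := 1) (by decide +kernel)) (zpowers_le.2 mb_α)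

theorem syl81 : IsSylowIn 3 (B0 ⊔ zpowers α0) ⊤ := by
  refine ⟨le_top, mb_pS, fun h => ?_⟩
  obtain ⟨k, hk⟩ := IsPGroup.iff_card.1 mb_pS
  have lt : B0 < B0 ⊔ zpowers α0 := lt_of_le_of_ne le_sup_left fun e =>
    absurd (B0_facts.2.1 _ (e.ge (mem_sup_right (mem_zpowers _))) _ mb_mem.1) (by decide +kernel)
  have h1 : Nat.card B0 < Nat.card (B0 ⊔ zpowers α0 : Subgroup SM) :=
    lt_of_le_of_ne (card_le_of_le lt.le) fun e => lt.ne (eq_of_le_of_card_ge lt.le e.ge)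
  rw [B0_facts.2.2.1, hk] at h1
  have h2 : 3 ^ 4 ∣ 3 ^ k := pow_dvd_pow 3 ((Nat.pow_lt_pow_iff_right (by norm_num)).1 (show 3 ^ 3 < 3 ^ k from h1))
  have h3 := Nat.mul_dvd_mul h2 h
  rw [← hk, relIndex_top_right, card_mul_index, card_SM] at h3
  norm_num at h3

theorem mb_memS {s : SM} (h : s ∈ B0 ⊔ zpowers α0) :
    ∃ l i j k : Fin 3, s = α0 ^ l.1 * (β1 ^ i.1 * β2 ^ j.1 * β3 ^ k.1) := by
  rw [sup_comm, ← SetLike.mem_coe, coe_mul_of_left_le_normalizer_right _ _ (zpowers_le.2 mb_α)] at h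
  obtain ⟨a, ha, u, hu, rfl⟩ := h
  obtain ⟨n, rfl⟩ := mem_powers_iff_mem_zpowers.2 ha
  obtain ⟨l, e⟩ := mb_mod (x := α0) (by decide +kernel) n
  obtain ⟨i, j, k, rfl⟩ := mem_B0.1 hu
  exact ⟨l, i, j, k, by rw [← e]⟩

theorem into_B0 (R : Subgroup SM) (h3 : ∀ r ∈ R, r ^ 3 = 1) (hc : ∀ r ∈ R, ∀ s ∈ R, Commute r s) :
    ∃ g, ∀ r ∈ R, g * r * g⁻¹ ∈ B0 := by
  obtain ⟨g, -, le⟩ := syl81.exists_cj_le (Q := R) (isPGroup_iff_mem.2 fun x hx => ⟨1, h3 x hx⟩) le_top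
  by_contra! k
  obtain ⟨r, hr, hn⟩ := k g
  obtain ⟨l, i, j, n, e⟩ := mb_memS (le (conj_mem_cj.2 hr))
  have k1 : ∀ l i j n : Fin 3, l ≠ 0 → (α0 ^ l.1 * (β1 ^ i.1 * β2 ^ j.1 * β3 ^ n.1)) ^ 3 = 1 →
      (∃ q ∈ [q1, q2, q1 * q2], ∀ a b : Fin 3, ∀ x ∈ [β1, β2, β3],
        Commute (q * ((α0 ^ l.1 * (β1 ^ i.1 * β2 ^ j.1 * β3 ^ n.1)) ^ a.1 * z0 ^ b.1) * q⁻¹) x) ∧
      ∀ l' i' j' n' : Fin 3, Commute (α0 ^ l.1 * (β1 ^ i.1 * β2 ^ j.1 * β3 ^ n.1))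
        (α0 ^ l'.1 * (β1 ^ i'.1 * β2 ^ j'.1 * β3 ^ n'.1)) → ∃ a b : Fin 3, α0 ^ l'.1 * (β1 ^ i'.1 * β2 ^ j'.1 * β3 ^ n'.1) =
          (α0 ^ l.1 * (β1 ^ i.1 * β2 ^ j.1 * β3 ^ n.1)) ^ a.1 * z0 ^ b.1 := by decide +kernel
  obtain ⟨⟨q, -, k2⟩, k3⟩ := k1 l i j n (fun e0 => hn (mem_B0.2 ⟨i, j, n, by rw [e, e0]; simp⟩))
    (by rw [← e, conj_pow, h3 r hr, mul_one, mul_inv_cancel])
  obtain ⟨s, hs, hn'⟩ := k (q * g)
  obtain ⟨l', i', j', n', e'⟩ := mb_memS (le (conj_mem_cj.2 hs))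
  obtain ⟨a, b, e2⟩ := k3 l' i' j' n' (e ▸ e' ▸ mb_cj g (hc r hr s hs))
  rw [show q * g * s * (q * g)⁻¹ = q * (g * s * g⁻¹) * q⁻¹ by group, e', e2] at hn'
  exact hn' (cB0 (k2 a b _ (by simp)) (k2 a b _ (by simp)) (k2 a b _ (by simp)))

/-- the centraliser of an element `β_i β_j^±` normalises `B0` -/
theorem mb_nc {m w : SM} (hw : w ∈ [β1 * β2, β1 * β2⁻¹, β1 * β3, β1 * β3⁻¹, β2 * β3, β2 * β3⁻¹]) (h : Commute m w) :
    m ∈ Nm B0 := by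
  have k : ∀ w ∈ [β1 * β2, β1 * β2⁻¹, β1 * β3, β1 * β3⁻¹, β2 * β3, β2 * β3⁻¹],
      ∃ g ∈ [1, t2, s23, t2 * s23, s13, t1 * s13], g * w * g⁻¹ = c0 ∧
      ∀ b ∈ [β1, β2, β3], ∃ i j k : Fin 3, g * b * g⁻¹ = β1 ^ i.1 * β2 ^ j.1 * β3 ^ k.1 := by decide +kernel
  obtain ⟨g, -, e, hg⟩ := k w hw
  obtain ⟨u, hu, hm⟩ := cc0 (e ▸ mb_cj g h)
  have n1 : s12 ∈ Nm B0 := mb_n (by decide +kernel)
  have n2 : t3 ∈ Nm B0 := mb_n (by decide +kernel)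
  have n3 := le_normalizer hu
  have : g * m * g⁻¹ ∈ Nm B0 := by
    simp only [List.mem_cons, List.not_mem_nil, or_false] at hm
    rcases hm with e | e | e | e <;> rw [e]
    exacts [n3, mul_mem n3 n1, mul_mem n3 n2, mul_mem (mul_mem n3 n1) n2]
  rwa [mul_mem_cancel_right (Subgroup.inv_mem _ (mb_n hg)), mul_mem_cancel_left (mb_n hg)] at this

theorem mb_comm {N : Subgroup SM} (h : (Nat.card N).Coprime 3) {m b : SM} (hm : m ∈ N) (hn : m ∈ Nm B0) (hb : b ∈ B0)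
    (bn : b ∈ Nm N) : Commute m b := by
  have k1 := mul_mem hm (conj_mem_of_mem_normalizer bn (Subgroup.inv_mem _ hm))
  have k2 := mul_mem (conj_mem_of_mem_normalizer hn hb) (Subgroup.inv_mem _ hb)
  rw [show m * (b * m⁻¹ * b⁻¹) = m * b * m⁻¹ * b⁻¹ by group] at k1
  exact commutatorElement_eq_one_iff_commute.1 (mb_one h k1 (B0_facts.1 _ k2))

/-- `B0` normalises no non-trivial `3'`-subgroup -/
theorem no3 {N : Subgroup SM} (h : (Nat.card N).Coprime 3) (h1 : β1 ∈ Nm N) (h2 : β2 ∈ Nm N) (h3 : β3 ∈ Nm N) :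
    N = ⊥ := by
  obtain ⟨a1, a2, a3, c1, c2, c3⟩ := mb_β
  refine le_bot_iff.1 (gen27 h a1 a2 a3 c1 c2 c3 h1 h2 h3 fun p hp q hq k1 k2 => ?_)
  have hn : q ∈ Nm B0 := by
    simp only [pl13, List.mem_cons, List.not_mem_nil, or_false] at hp
    rcases hp with rfl | rfl | rfl | rfl | rfl | rfl | rfl | rfl | rfl | rfl | rfl | rfl | rfl
    · exact mb_nc (by simp) (k1.mul_right k2)
    · exact mb_nc (by simp) (k1.mul_right k2)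
    · exact mb_nc (by simp) (k1.mul_right k2)
    all_goals exact mb_nc (by simp) k1
  exact mb_one h hq (B0_facts.1 _ (cB0 (mb_comm h hq hn mb_mem.1 h1) (mb_comm h hq hn mb_mem.2.1 h2)
    (mb_comm h hq hn mb_mem.2.2 h3)))

end CfsgLib.S86
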