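import Cfsg.Agent.Lib.S86.Del1
import Cfsg.Agent.Lib.S86.MB

/-! Case `Sp₈(2)`: fusion (project S86, see plans/S86.md). -/

set_option autoImplicit false
set_option maxRecDepth 100000
set_option Elab.async false
set_option linter.unusedSectionVars false

namespace CfsgLib.S86

open Subgroup CfsgLib.W2 CfsgLib.Tech CfsgLib.PComp CfsgLib.Rec3C CfsgLib.Rec3C.V4
open CfsgLib.Rec3B (V81)
open CfsgLib.L72 (Nm IsQ Oc)

variable {G : Type*} [Group G] [Finite G]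

variable {ι : N4 → G} {φ : SM →* G} {T : Subgroup G} {ψ : E64 →* G} {ρ : G → SM}

/-- the quadratic form with value one on the basis -/
noncomputable def fusQ (v : E64) : Bool := bit 0xeee1eee1eee1111e v.v

theorem fusQ_mul : ∀ u v, fusQ (u * v) = xor (xor (fusQ u) (fusQ v)) (bf u v) := by decide +kernel

theorem fusQ_vals : fusQ 1 = false ∧ ∀ g ∈ [e1, f1, e2, f2, e3, f3], fusQ g = true := by decide +kernel

/-- coordinates in `T` -/
noncomputable def fusEl (ι : N4 → G) (ψ : E64 →* G) (c : Bool) (v : E64) : G :=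
  cond (xor c (fusQ v)) (ι (nl r4)) 1 * ψ v

theorem fus_gu (g : SM) (w u : E64) : g * gu w u * g⁻¹ = gu (sa g w) (sa g u) := by
  rw [gu, gu, ← sa_mul, ← conj_tv, ← conj_tv]; group

namespace CI

variable (h : CI ι φ T ψ ρ)
include h

theorem fus_o : orderOf (ι (nl r4)) = 2 := h.toFr.ord_nl mem_M4.2.2.2.1 (by decide +kernel) (by decide +kernel)

theorem fus_tt : ι (nl r4) * ι (nl r4) = 1 := by rw [← pow_two, ← h.fus_o, pow_orderOf_eq_one]

theorem fus_t1 : ι (nl r4) ≠ 1 := fun e => absurd h.fus_o (by rw [e, orderOf_one]; decide)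

theorem fus_ψT (v : E64) : ψ v ∈ T := (h.memT _).2 ⟨v, .inl rfl⟩

theorem fus_φH (m : SM) : φ m ∈ Cx (ι (nl r4)) := mem_Cx.2 (h.w4 m).symm

theorem fus_sg (a b : Bool) :
    cond (xor a b) (ι (nl r4)) 1 = cond a (ι (nl r4)) 1 * cond b (ι (nl r4)) 1 := by
  cases a <;> cases b <;> simp [h.fus_tt]

omit h in
theorem fus_sgc (a : Bool) {g : G} (hg : g ∈ Cx (ι (nl r4))) : g * cond a (ι (nl r4)) 1 = cond a (ι (nl r4)) 1 * g := by
  cases a
  · simp
  · exact mem_Cx.1 hg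

theorem el_mul (c c' : Bool) (u v : E64) :
    fusEl ι ψ c u * fusEl ι ψ c' v = fusEl ι ψ (xor (xor c c') (bf u v)) (u * v) := by
  have e : xor (xor (xor c c') (bf u v)) (fusQ (u * v)) = xor (xor c (fusQ u)) (xor c' (fusQ v)) := by
    rw [fusQ_mul]; cases c <;> cases c' <;> cases bf u v <;> cases fusQ u <;> cases fusQ v <;> rfl
  rw [fusEl, fusEl, fusEl, e, h.fus_sg (xor c (fusQ u)), map_mul, mul_assoc, ← mul_assoc (ψ u),
    fus_sgc _ (h.rho.QH (h.fus_ψT u))]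
  simp only [mul_assoc]

omit h in
theorem el_one (c : Bool) : fusEl ι ψ c 1 = cond c (ι (nl r4)) 1 := by
  rw [fusEl, fusQ_vals.1, Bool.xor_false, map_one, mul_one]

omit h in
theorem el_bas {g : E64} (hg : g ∈ [e1, f1, e2, f2, e3, f3]) : fusEl ι ψ true g = ψ g := by
  rw [fusEl, fusQ_vals.2 g hg]; exact one_mul _

theorem el_T (c : Bool) (v : E64) : fusEl ι ψ c v ∈ T := by
  refine (h.memT _).2 ⟨v, ?_⟩
  rw [fusEl]
  cases xor c (fusQ v)
  · exact .inl (one_mul _)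
  · exact .inr rfl

omit h in
theorem el_ex {g : G} {v : E64} (hg : g = ψ v ∨ g = ι (nl r4) * ψ v) : ∃ c, g = fusEl ι ψ c v := by
  rcases hg with rfl | rfl
  · exact ⟨fusQ v, by rw [fusEl, Bool.xor_self]; exact (one_mul _).symm⟩
  · exact ⟨!fusQ v, by rw [fusEl]; cases fusQ v <;> rfl⟩

theorem el_sq (c : Bool) (v : E64) : fusEl ι ψ c v * fusEl ι ψ c v = 1 := by
  rw [h.el_mul, E_sq, bf_self, Bool.xor_self, el_one]; rfl

theorem el_eq_one {c : Bool} {v : E64} (e : fusEl ι ψ c v = 1) : c = false ∧ v = 1 := by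
  have hv : v = 1 := h.rho.ind v (by
    rw [fusEl] at e
    rw [eq_inv_of_mul_eq_one_right e]
    cases xor c (fusQ v)
    · simp
    · exact inv_mem (mem_zpowers _))
  subst hv
  rw [el_one] at e
  cases c
  · exact ⟨rfl, rfl⟩
  · exact absurd e h.fus_t1

theorem el_inj {c c' : Bool} {v v' : E64} (e : fusEl ι ψ c v = fusEl ι ψ c' v') : c = c' ∧ v = v' := by
  have e1 := h.el_sq c' v'
  nth_rw 1 [← e] at e1
  rw [h.el_mul] at e1
  obtain ⟨a, b⟩ := h.el_eq_one e1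
  obtain rfl : v = v' := by rw [eq_inv_of_mul_eq_one_left b, E_inv]
  rw [bf_self] at a
  refine ⟨?_, rfl⟩
  revert a
  cases c <;> cases c' <;> simp

/-- the elements which act on the coordinates in the natural way -/
noncomputable def fusS (ι : N4 → G) (φ : SM →* G) (ψ : E64 →* G) : Subgroup SM where
  carrier := {m | ∀ c v, φ m * fusEl ι ψ c v * (φ m)⁻¹ = fusEl ι ψ c (sa m v)}
  one_mem' c v := by simp [one_sa]
  mul_mem' {a b} ha hb c v := by rw [mul_sa, ← ha, ← hb, map_mul]; group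
  inv_mem' {a} ha c v := by
    have := ha c (sa a⁻¹ v)
    rw [sa_inv_sa] at this
    rw [← this, map_inv]; group

theorem fusS_of {m : SM} (hm : ∀ g ∈ [e1, f1, e2, f2, e3, f3],
    φ m * fusEl ι ψ true g * (φ m)⁻¹ = fusEl ι ψ true (sa m g)) : m ∈ fusS ι φ ψ := fun c v => by
  revert c
  refine TG.ind_of_genB genE (P := fun v => ∀ c, φ m * fusEl ι ψ c v * (φ m)⁻¹ = fusEl ι ψ c (sa m v))
    (fun c => ?_) (fun a ha g hg c => ?_) v
  · rw [sa_one, el_one, fus_sgc _ (h.fus_φH m), mul_inv_cancel_right]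
  · have e : xor (xor (xor (xor c true) (bf a g)) true) (bf a g) = c := by cases c <;> cases bf a g <;> rfl
    rw [sa_mul, ← e, ← h.el_mul, ← bf_sa m a g, ← h.el_mul, bf_sa, ← ha, ← hm g hg]; group

theorem fus_step {u v : E64} (hu : φ3 ι φ (gu e3 u) = fusEl ι ψ true u) (hv : φ3 ι φ (gu e3 v) = fusEl ι ψ true v)
    (e : gu e3 (u * v) = cond (bf u v) 1 t3 * gu e3 u * gu e3 v) :
    φ3 ι φ (gu e3 (u * v)) = fusEl ι ψ true (u * v) := by
  have e1 : φ3 ι φ (cond (bf u v) 1 t3) = fusEl ι ψ (!bf u v) 1 := by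
    rw [el_one]
    cases bf u v
    · exact h.toFr.φ3_vals.2.2.2.1
    · exact map_one _
  rw [e, map_mul, map_mul, hu, hv, e1, h.el_mul, h.el_mul, one_mul, bf_comm 1, bf_one]
  cases bf u v <;> rfl

theorem fus_W : ∀ u ∈ [e1, f1, e2, f2, e1 * f1, e2 * f2, e1 * f1 * e2, e1 * (e2 * f2)],
    φ3 ι φ (gu e3 u) = fusEl ι ψ true u := by
  have a1 : φ3 ι φ (gu e3 e1) = fusEl ι ψ true e1 := by rw [el_bas (by simp), h.p1]
  have a2 : φ3 ι φ (gu e3 f1) = fusEl ι ψ true f1 := by rw [el_bas (by simp), h.q1]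
  have a3 : φ3 ι φ (gu e3 e2) = fusEl ι ψ true e2 := by rw [el_bas (by simp), h.p2]
  have a4 : φ3 ι φ (gu e3 f2) = fusEl ι ψ true f2 := by rw [el_bas (by simp), h.q2]
  have a5 := h.fus_step a1 a2 (by decide +kernel)
  have a6 := h.fus_step a3 a4 (by decide +kernel)
  simp only [List.mem_cons, List.not_mem_nil, or_false, forall_eq_or_imp, forall_eq]
  exact ⟨a1, a2, a3, a4, a5, a6, h.fus_step a5 a3 (by decide +kernel), h.fus_step a1 a6 (by decide +kernel)⟩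

theorem fusS_κ {p : PG 6} {m : SM} (e : κ p = m) (hp : ∀ v ∈ [e1, f1, e2, f2],
    sa m v ∈ [e1, f1, e2, f2, e1 * f1, e2 * f2, e1 * f1 * e2, e1 * (e2 * f2)]) : m ∈ fusS ι φ ψ := by
  subst e
  have k : ∀ v ∈ [e1, f1, e2, f2], φ (κ p) * fusEl ι ψ true v * (φ (κ p))⁻¹ = fusEl ι ψ true (sa (κ p) v) := by
    intro v hv
    rw [← h.fus_W _ (hp v hv), ← h.fus_W v (List.mem_append_left [e1 * f1, e2 * f2, e1 * f1 * e2, e1 * (e2 * f2)] hv),
      ← h.toFr.φ3_vals.2.2.2.2.1, ← map_inv, ← map_mul, ← map_mul, fus_gu, (κ_fix p).1]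
  refine h.fusS_of ?_
  simp only [List.mem_cons, List.not_mem_nil, or_false, forall_eq_or_imp, forall_eq] at k ⊢
  refine ⟨k.1, k.2.1, k.2.2.1, k.2.2.2, ?_, ?_⟩
  · rw [(κ_fix p).1, el_bas (by simp), (ci_κ h p).1.eq, mul_inv_cancel_right]
  · rw [(κ_fix p).2, el_bas (by simp), (ci_κ h p).2.eq, mul_inv_cancel_right]

theorem fusS_β3 : β3 ∈ fusS ι φ ψ := by
  have k : ∀ v ∈ [e1, f1, e2, f2], φ β3 * fusEl ι ψ true v * (φ β3)⁻¹ = fusEl ι ψ true (sa β3 v) := by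
    intro v hv
    rw [(by decide +kernel : ∀ v ∈ [e1, f1, e2, f2], sa β3 v = v) v hv,
      ← h.fus_W v (List.mem_append_left [e1 * f1, e2 * f2, e1 * f1 * e2, e1 * (e2 * f2)] hv), ← h.v3,
      (h.toFr.ch3.comm _).eq, mul_inv_cancel_right]
  refine h.fusS_of ?_
  simp only [List.mem_cons, List.not_mem_nil, or_false, forall_eq_or_imp, forall_eq] at k ⊢
  refine ⟨k.1, k.2.1, k.2.2.1, k.2.2.2, ?_, ?_⟩
  · rw [show sa β3 e3 = f3 by decide +kernel, el_bas (by simp), el_bas (by simp), h.p3, h.q3, ← h.v3,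
      ← h.toFr.κ34_vals.2.1, ← map_inv, ← map_mul, ← map_mul]
    exact congrArg _ (by decide +kernel)
  · have e := h.el_mul true true e3 f3
    rw [show xor (xor true true) (bf e3 f3) = true by decide +kernel] at e
    rw [show sa β3 f3 = e3 * f3 by decide +kernel, ← e, el_bas (by simp), el_bas (by simp), h.p3, h.q3, ← h.v3,
      ← h.toFr.κ34_vals.2.1, ← map_inv, ← map_mul, ← map_mul, ← map_mul]
    exact congrArg _ (by decide +kernel)

theorem fus_tr {m β β' : SM} {v : E64} (hβ : β ∈ fusS ι φ ψ) (hβ' : β' ∈ fusS ι φ ψ) (e : m * β = β' * m)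
    (b : bf v (sa β v) = true) (e2 : sa β (sa β v) = v * sa β v) :
    φ m * fusEl ι ψ true v * (φ m)⁻¹ = fusEl ι ψ true (sa m v) := by
  have ex : ∀ v, ∃ c, φ m * ψ v * (φ m)⁻¹ = fusEl ι ψ c (sa m v) := fun v => by
    have := h.rho.act _ (h.fus_φH m) v
    rw [h.ρφ] at this
    exact el_ex this
  obtain ⟨c, hc⟩ : ∃ c, φ m * fusEl ι ψ true v * (φ m)⁻¹ = fusEl ι ψ c (sa m v) := by
    obtain ⟨c, hc⟩ := ex v
    exact ⟨_, by
      rw [fusEl, ← mul_assoc, fus_sgc _ (h.fus_φH m), mul_assoc, mul_assoc, ← mul_assoc (φ m), hc, ← el_one (ψ := ψ),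
        h.el_mul, one_mul]⟩
  have st : ∀ v, φ m * fusEl ι ψ true v * (φ m)⁻¹ = fusEl ι ψ c (sa m v) →
      φ m * fusEl ι ψ true (sa β v) * (φ m)⁻¹ = fusEl ι ψ c (sa m (sa β v)) := fun v hv => by
    have e' : φ m * φ β = φ β' * φ m := by rw [← map_mul, e, map_mul]
    rw [← mul_sa, e, mul_sa, ← hβ', ← hv, ← hβ]
    calc _ = (φ m * φ β) * fusEl ι ψ true v * (φ m * φ β)⁻¹ := by group
      _ = _ := by rw [e']; group
  have h1 := st _ hc
  have h2 := st _ h1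
  have e3 := h.el_mul true true v (sa β v)
  rw [b, show xor (xor true true) true = true from rfl] at e3
  rw [e2, ← e3, ← conj_mul, hc, h1, h.el_mul, bf_sa, b, Bool.xor_self] at h2
  rw [hc, ← (h.el_inj h2).1]
  rfl

/-- the action of `φ` on the coordinates -/
theorem el_conj (m : SM) (c : Bool) (v : E64) : φ m * fusEl ι ψ c v * (φ m)⁻¹ = fusEl ι ψ c (sa m v) := by
  have b1 : β1 ∈ fusS ι φ ψ := h.fusS_κ κ_vals.1 (by decide +kernel)
  have b2 : β2 ∈ fusS ι φ ψ := h.fusS_κ κ_vals.2.1 (by decide +kernel)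
  have b3 := h.fusS_β3
  have s : s23 ∈ fusS ι φ ψ := by
    refine h.fusS_of ?_
    simp only [List.mem_cons, List.not_mem_nil, or_false, forall_eq_or_imp, forall_eq]
    exact ⟨h.fus_tr b1 b1 (by decide +kernel) (by decide +kernel) (by decide +kernel),
      h.fus_tr b1 b1 (by decide +kernel) (by decide +kernel) (by decide +kernel),
      h.fus_tr b2 b3 (by decide +kernel) (by decide +kernel) (by decide +kernel),
      h.fus_tr b2 b3 (by decide +kernel) (by decide +kernel) (by decide +kernel),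
      h.fus_tr b3 b2 (by decide +kernel) (by decide +kernel) (by decide +kernel),
      h.fus_tr b3 b2 (by decide +kernel) (by decide +kernel) (by decide +kernel)⟩
  exact (gen6 (h.fusS_κ κ_vals.2.2.1 (by decide +kernel)) b1 b2 b3 (h.fusS_κ κ_vals.2.2.2.2.1 (by decide +kernel)) s
    (h.fusS_κ κ_vals.2.2.2.2.2 (by decide +kernel))).ge (mem_top m) c v

theorem el_swap (m : SM) (c : Bool) (v : E64) : φ m * fusEl ι ψ c v = fusEl ι ψ c (sa m v) * φ m := by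
  rw [← h.el_conj, inv_mul_cancel_right]

theorem el_dec {g : G} (hg : g ∈ Cx (ι (nl r4))) : ∃ c v m, g = fusEl ι ψ c v * φ m := by
  obtain ⟨q, hq, e⟩ := ci_dec h hg
  obtain ⟨v, hv⟩ := (h.memT q).1 hq
  obtain ⟨c, rfl⟩ := el_ex hv
  exact ⟨c, v, _, e⟩

theorem el_mul2 (c c' : Bool) (u v : E64) (m n : SM) : fusEl ι ψ c u * φ m * (fusEl ι ψ c' v * φ n) =
    fusEl ι ψ (xor (xor c c') (bf u (sa m v))) (u * sa m v) * φ (m * n) := by
  rw [mul_assoc, ← mul_assoc (φ m), h.el_swap, ← h.el_mul, map_mul]; group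

theorem el_inj2 {c c' : Bool} {u v : E64} {m n : SM} (e : fusEl ι ψ c u * φ m = fusEl ι ψ c' v * φ n) :
    c = c' ∧ u = v ∧ m = n := by
  have k : ∀ c v m, ρ (fusEl ι ψ c v * φ m) = m := fun c v m => by
    rw [h.rho.mul _ (h.rho.QH (h.el_T c v)) _ (h.fus_φH m), h.ρφ,
      (h.rho.ker _ (h.rho.QH (h.el_T c v))).2 (h.el_T c v), one_mul]
  obtain rfl : m = n := by rw [← k c u m, e, k]
  exact ⟨(h.el_inj (mul_right_cancel e)).1, (h.el_inj (mul_right_cancel e)).2, rfl⟩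

theorem fus_cj {g d : G} (hg : g ∈ Cx (ι (nl r4))) (hd : g * d * g⁻¹ ∈ DL ι) : d ∈ DL ι := by
  obtain ⟨k, hk, e⟩ := (DL_iff h).1 hd
  refine (DL_iff h).2 ⟨g⁻¹ * k, mul_mem (inv_mem ((H_le_G0 h).1 hg)) hk, ?_⟩
  calc _ = g⁻¹ * (k * ι (nl r4) * k⁻¹) * g := by group
    _ = d := by rw [e]; group

end CI

theorem ci_nsq (h : CI ι φ T ψ ρ) (g : G) : g * g ≠ ι (nl r4) := fun e => by
  obtain ⟨c, v, m, rfl⟩ := h.el_dec (g := g) (mem_Cx.2 (by rw [← e, mul_assoc]))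
  have e' := e.trans (show ι (nl r4) = fusEl ι ψ true 1 * φ 1 by rw [map_one, mul_one, CI.el_one]; rfl)
  rw [h.el_mul2] at e'
  obtain ⟨a, b, -⟩ := h.el_inj2 e'
  rw [eq_inv_of_mul_eq_one_right b, E_inv, bf_self, Bool.xor_self] at a
  exact absurd a (by decide)

theorem fus_nsq (h : CI ι φ T ψ ρ) (g : G) : ¬ IsConj (ι (nl r4)) (g * g) := fun e => by
  obtain ⟨k, hk⟩ := isConj_iff.1 e.symm
  exact ci_nsq h (k * g * k⁻¹) (by rw [← hk]; group)

theorem fus_b (h : CI ι φ T ψ ρ) {d : G} (hd : IsConj (ι (nl r4)) d) (hb : Commute d (ι (nv x4))) : d ∈ DL ι := by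
  obtain ⟨k, rfl⟩ := isConj_iff.1 hd
  have b3 : ι (nv x4) ^ 3 = 1 := by rw [← h.ch.ord, pow_orderOf_eq_one]
  obtain ⟨c, u, m, e⟩ := h.el_dec (g := k⁻¹ * ι (nv x4) * k) (mem_Cx.2 (by
    calc _ = k⁻¹ * (ι (nv x4) * (k * ι (nl r4) * k⁻¹)) * k := by group
      _ = _ := by rw [← hb.eq]; group))
  have q3 : fusEl ι ψ c u * φ m * (fusEl ι ψ c u * φ m * (fusEl ι ψ c u * φ m)) = fusEl ι ψ false 1 * φ 1 := by
    rw [← e, CI.el_one, map_one]
    calc _ = k⁻¹ * ι (nv x4) ^ 3 * k := by simp only [pow_succ, pow_zero]; group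
      _ = _ := by rw [b3]; simp
  rw [h.el_mul2, h.el_mul2] at q3
  obtain ⟨a1, a2, a3⟩ := h.el_inj2 q3
  rw [sa_mul] at a1 a2
  have a4 : sa m u * sa m (sa m u) = u := by rw [eq_inv_of_mul_eq_one_right a2, E_inv]
  rw [a4, bf_self, Bool.xor_self] at a1
  have e4 : fusEl ι ψ false (sa m u) * φ m * (fusEl ι ψ false (sa m u))⁻¹ = k⁻¹ * ι (nv x4) * k := by
    rw [e, inv_eq_of_mul_eq_one_right (h.el_sq _ _), mul_assoc, h.el_swap, ← mul_assoc, h.el_mul, a4, bf_sa]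
    congr 2
    revert a1
    cases c <;> cases bf u (sa m u) <;> simp
  obtain ⟨g, hg⟩ := into_B0 (zpowers m) (by
    rintro _ ⟨i, rfl⟩
    rw [← zpow_natCast, ← zpow_mul, mul_comm, zpow_mul, zpow_natCast, show m ^ 3 = 1 by
      rw [← a3]; simp only [pow_succ, pow_zero, one_mul, mul_assoc], one_zpow]) (by
    rintro _ ⟨i, rfl⟩ _ ⟨j, rfl⟩
    exact Commute.zpow_zpow_self m i j)
  obtain ⟨i, j, l, e5⟩ := mem_B0.1 (hg m (mem_zpowers m))
  have e6 : φ (g * m * g⁻¹) = ι (nv (x1 ^ i.1 * x2 ^ j.1 * x3 ^ l.1)) := by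
    rw [e5, ← h.toFr.ev_apply, map_mul h.toFr.ev, map_mul h.toFr.ev, map_pow h.toFr.ev, map_pow h.toFr.ev,
      map_pow h.toFr.ev, h.toFr.ev_apply, h.toFr.ev_apply, h.toFr.ev_apply, h.v1, h.v2, h.v3]
    simp only [map_mul, map_pow]
  generalize hv : x1 ^ i.1 * x2 ^ j.1 * x3 ^ l.1 = v at e6
  have fv : act r4 v = v := by
    rw [← hv]
    exact (by decide +kernel : ∀ i j l : Fin 3, act r4 (x1 ^ i.1 * x2 ^ j.1 * x3 ^ l.1) = x1 ^ i.1 * x2 ^ j.1 * x3 ^ l.1) i j l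
  obtain ⟨y, yH, hy⟩ : ∃ y ∈ Cx (ι (nl r4)), k * y * ι (nv v) * (k * y)⁻¹ = ι (nv x4) :=
    ⟨fusEl ι ψ false (sa m u) * (φ g)⁻¹, mul_mem (h.rho.QH (h.el_T _ _)) (inv_mem (h.fus_φH g)), by
      rw [← e6, map_mul, map_mul, map_inv]
      calc _ = k * (fusEl ι ψ false (sa m u) * φ m * (fusEl ι ψ false (sa m u))⁻¹) * k⁻¹ := by group
        _ = _ := by rw [e4]; group⟩
  obtain ⟨w, hw, rfl⟩ := h.oc v (.inl (isConj_iff.2 ⟨_, hy⟩).symm)
  have cw : ι (nl w) * ι (nv x4) * (ι (nl w))⁻¹ = ι (nv (act w x4)) := h.toFr.conj_ev (a := nl w) hw x4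
  obtain ⟨n, s, hs⟩ := h.toFr.cent (g := k * y * ι (nl w)) (by
    change _ = _
    rw [← mul_inv_eq_iff_eq_mul]
    conv_rhs => rw [← hy, ← cw]
    group)
  obtain ⟨a, a1, ha⟩ : ∃ a : E64, a ≠ 1 ∧ ι (nl (w⁻¹ * r4 * w⁻¹⁻¹)) = φ (tv a) := by
    have := (by decide +kernel : ∀ w ∈ M4, act r4 (act w x4) = act w x4 →
      w⁻¹ * r4 * w⁻¹⁻¹ = r1 ∨ w⁻¹ * r4 * w⁻¹⁻¹ = r2 ∨ w⁻¹ * r4 * w⁻¹⁻¹ = r3) w hw fv
    rcases this with f | f | f <;> rw [f]
    · exact ⟨e1, by decide +kernel, by rw [h.w1, vals.1]⟩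
    · exact ⟨e2, by decide +kernel, by rw [h.toFr.vals.1, vals.2.1]⟩
    · exact ⟨e3, by decide +kernel, by rw [h.toFr.vals.2.1, vals.2.2.1]⟩
  rw [← h.toFr.conj_nl (inv_mem hw) mem_M4.2.2.2.1, map_inv, h.inv (nl_mem hw)] at ha
  have e7 : k * ι (nl r4) * k⁻¹ = φ (tv (sa s a)) := by
    have c := (h.ch.comm (tv (sa s a))).pow_left n
    calc _ = k * (y * ι (nl r4) * y⁻¹) * k⁻¹ := by rw [mem_Cx'.1 yH]
      _ = k * y * ι (nl w) * ((ι (nl w))⁻¹ * ι (nl r4) * (ι (nl w))⁻¹⁻¹) * (k * y * ι (nl w))⁻¹ := by group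
      _ = ι (nv x4) ^ n * φ (tv (sa s a)) * (ι (nv x4) ^ n)⁻¹ := by
          rw [ha, hs, ← conj_tv, map_mul, map_mul, map_inv]; group
      _ = _ := by rw [c.eq, mul_inv_cancel_right]
  rw [e7]
  exact tv_DL h fun f => a1 (sa_inj s (f.trans (sa_one s).symm))

theorem fus_3 (h : CI ι φ T ψ ρ) {d : G} (hd : IsConj (ι (nl r4)) d) (hb : Commute d (φ β3)) : d ∈ DL ι := by
  have m : t34 ∈ M4 := mem_M4.2.2.2.2.2.2.2.1
  have c : ι (nl t34) * ι (nv x3) * (ι (nl t34))⁻¹ = ι (nv x4) :=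
    (h.toFr.conj_ev (a := nl t34) m x3).trans (congrArg (fun v => ι (nv v)) (show act t34 x3 = x4 by decide +kernel))
  have t : ι (nl t34) * ι (nl t34) = 1 := by
    rw [← h.toFr.nl_mul m m, show t34 * t34 = 1 by decide +kernel, map_one, h.one]
  have := t34_DL h (fus_b h (d := ι (nl t34) * d * (ι (nl t34))⁻¹) (hd.trans (isConj_iff.2 ⟨_, rfl⟩)) (by
    rw [← c, h.v3]; exact hb.map (MulAut.conj (ι (nl t34)))))
  convert this using 1
  calc d = (ι (nl t34) * ι (nl t34)) * d * (ι (nl t34) * ι (nl t34))⁻¹ := by rw [t]; group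
    _ = _ := by group

theorem fus_cel (h : CI ι φ T ψ ρ) (g m : SM) (c : Bool) (v : E64) :
    φ g * (fusEl ι ψ c v * φ m) * (φ g)⁻¹ = fusEl ι ψ c (sa g v) * φ (g * m * g⁻¹) := by
  rw [← h.el_conj, map_mul, map_mul, map_inv]; group

theorem fus_ab (h : CI ι φ T ψ ρ) {c : Bool} {v a b : E64} {m : SM} (hd : IsConj (ι (nl r4)) (fusEl ι ψ c v * φ m))
    (ab : bf a b = true) (ma : sa m a = a) (mb : sa m b = b) (va : bf v a = false) (vb : bf v b = false) :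
    fusEl ι ψ c v * φ m ∈ DL ι := by
  obtain ⟨g, ga, gb⟩ := witt_hyp ab (show bf e3 f3 = true by decide +kernel)
  refine h.fus_cj (h.fus_φH g) (fus_3 h (hd.trans (isConj_iff.2 ⟨_, rfl⟩)) ?_)
  have e : φ β3 = φ g * φ (tv a * tv b) * (φ g)⁻¹ := by
    rw [vals.2.2.2.2.2.2.2.2, ← ga, ← gb, ← conj_tv, ← conj_tv, ← map_inv, ← map_mul, ← map_mul, conj_mul]
  rw [e]
  refine Commute.map (Commute.mul_left ?_ ?_) (MulAut.conj (φ g))
  · refine Commute.symm ((h.el_swap _ c v).trans ?_)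
    rw [mul_sa, sa_tv b, vb, if_neg (by simp), sa_tv, va, if_neg (by simp)]
  · exact ((comm_tv.2 ma).mul_right (comm_tv.2 mb)).map φ

theorem fus_tab1 : ∀ m ∈ [1, t1], ∀ v, sa m v = v → ∃ a, (sa m a = a ∧ bf v a = false) ∧
    ∃ b, bf a b = true ∧ sa m b = b ∧ bf v b = false := by decide +kernel

theorem fus_tab2 : ∀ m ∈ [s12, t1 * t2], ∀ v, sa m v = v → (bf v e3 = false ∧ bf v f3 = false) ∨ ∀ c,
    ∃ n ∈ [oc 40263151467, oc 50908607678, oc 45627689841, oc 40615024388, oc 57181476612, oc 35166884420,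
      oc 18867558148, oc 52974853700, oc 17717531140], n * n = m ∧ ∃ u, u * sa n u = v ∧ bf u (sa n u) = c := by
  decide +kernel

theorem fus_tab3 : ∀ v, sa (t1 * t2 * t3) v = v → ∃ u, u * v * sa (t1 * t2 * t3) u = 1 := by decide +kernel

theorem fus_H (h : CI ι φ T ψ ρ) {d : G} (hd : IsConj (ι (nl r4)) d) (hH : d ∈ Cx (ι (nl r4))) : d ∈ DL ι := by
  obtain ⟨c, v, m, rfl⟩ := h.el_dec hH
  have sq : fusEl ι ψ c v * φ m * (fusEl ι ψ c v * φ m) = fusEl ι ψ false 1 * φ 1 := by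
    obtain ⟨k, hk⟩ := isConj_iff.1 hd
    rw [← hk, conj_mul, h.fus_tt, CI.el_one]; simp
  rw [h.el_mul2] at sq
  obtain ⟨-, a2, a3⟩ := h.el_inj2 sq
  obtain ⟨g, hg⟩ := inv_class a3
  refine h.fus_cj (h.fus_φH g) ?_
  have hd' : IsConj (ι (nl r4)) (φ g * (fusEl ι ψ c v * φ m) * (φ g)⁻¹) := hd.trans (isConj_iff.2 ⟨_, rfl⟩)
  have fv : sa (g * m * g⁻¹) (sa g v) = sa g v := by
    rw [← mul_sa, inv_mul_cancel_right, mul_sa, eq_inv_of_mul_eq_one_right a2, E_inv]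
  rw [fus_cel h] at hd' ⊢
  generalize g * m * g⁻¹ = n at hg hd' fv ⊢
  generalize sa g v = u at hd' fv ⊢
  have hn : n ∈ [1, t1] ∨ n ∈ [s12, t1 * t2] ∨ n = t1 * t2 * t3 := by
    simp only [List.mem_cons, List.not_mem_nil, or_false] at hg ⊢
    tauto
  rcases hn with hn | hn | rfl
  · obtain ⟨a, ⟨h1, h2⟩, b, h3, h4, h5⟩ := fus_tab1 n hn u fv
    exact fus_ab h hd' h3 h1 h4 h2 h5
  · rcases fus_tab2 n hn u fv with ⟨h1, h2⟩ | h1
    · have := (by decide +kernel : ∀ m ∈ [s12, t1 * t2], sa m e3 = e3 ∧ sa m f3 = f3) n hn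
      exact fus_ab h hd' (by decide +kernel) this.1 this.2 h1 h2
    · obtain ⟨k, -, rfl, w, rfl, rfl⟩ := h1 c
      refine absurd ?_ (fus_nsq h (fusEl ι ψ false w * φ k))
      rwa [h.el_mul2, Bool.xor_self, Bool.false_xor]
  · obtain ⟨w, hw⟩ := fus_tab3 u fv
    refine h.fus_cj (h.rho.QH (h.el_T false w)) ?_
    have hd2 : IsConj (ι (nl r4)) (fusEl ι ψ false w * (fusEl ι ψ c u * φ (t1 * t2 * t3)) * (fusEl ι ψ false w)⁻¹) :=
      hd'.trans (isConj_iff.2 ⟨_, rfl⟩)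
    rw [inv_eq_of_mul_eq_one_right (h.el_sq _ _), ← mul_assoc, h.el_mul, mul_assoc, h.el_swap, ← mul_assoc,
      h.el_mul, hw, CI.el_one] at hd2 ⊢
    generalize xor (xor (xor (xor false c) (bf w u)) false) (bf (w * u) (sa (t1 * t2 * t3) w)) = c' at hd2 ⊢
    cases c'
    · exact fus_b h hd2 (by rw [cond_false, one_mul]; exact (h.ch.comm _).symm)
    · have m : t12 * r1 * (t34 * r3) ∈ M4 := by decide +kernel
      refine absurd ?_ (fus_nsq h (ι (nl (t12 * r1 * (t34 * r3)))))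
      rwa [← h.toFr.nl_mul m m, show t12 * r1 * (t34 * r3) * (t12 * r1 * (t34 * r3)) = m1 by decide +kernel,
        h.toFr.vals.2.2.2.2.2.2.2]

end CfsgLib.S86
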