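import Cfsg.Agent.Lib.S86.Loc

/-! The affine pattern: Sylow data (project S86, see plans/S86.md). -/

set_option autoImplicit false
set_option maxRecDepth 100000
set_option Elab.async false
set_option linter.unusedSectionVars false

namespace CfsgLib.S86

open Subgroup CfsgLib.W2 CfsgLib.Tech CfsgLib.PComp CfsgLib.Rec3C CfsgLib.Rec3C.V4
open CfsgLib.Rec3B (V81)
open CfsgLib.L72 (Nm IsQ Oc)

variable {G : Type*} [Group G] [Finite G]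

namespace Gam1

theorem cjc {a x : G} (h : Commute a x) : a * x * a⁻¹ = x := by rw [h.eq]; group

theorem ccj {a x : G} (h : a * x * a⁻¹ = x) : Commute a x := by
  show a * x = x * a
  calc a * x = (a * x * a⁻¹) * a := by group
    _ = x * a := by rw [h]

variable {b : G} {φ : SM →* G} {ev : V81 →* G}

theorem Bcomm {y z : G} (hy : y ∈ ev.range) (hz : z ∈ ev.range) : Commute y z := by
  obtain ⟨u, rfl⟩ := hy
  obtain ⟨v, rfl⟩ := hz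
  exact Commute.map (show Commute u v from Rec3B.W4.V_comm u v) ev

theorem Bcube {y : G} (hy : y ∈ ev.range) : y ^ 3 = 1 := by
  obtain ⟨u, rfl⟩ := hy
  rw [← map_pow, pow_succ, pow_two, Rec3B.W4.V_cube, map_one]

theorem β1B : β1 ∈ B0 := subset_closure (by simp)

theorem cZ {g : G} (h1 : Commute g (φ β1)) (h2 : Commute g (φ β2)) (h3 : Commute g (φ β3)) {z : G}
    (hz : z ∈ B0.map φ) : Commute g z := by
  obtain ⟨m, hm, rfl⟩ := hz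
  obtain ⟨i, j, k, rfl⟩ := mem_B0.1 hm
  rw [map_mul, map_mul, map_pow, map_pow, map_pow]
  exact ((h1.pow_right _).mul_right (h2.pow_right _)).mul_right (h3.pow_right _)

theorem φconj (m x y : SM) (e : m * x * m⁻¹ = y) : φ m * φ x * (φ m)⁻¹ = φ y := by
  rw [← map_inv, ← map_mul, ← map_mul, e]

theorem ζ_inv {z : G} (hz : z ∈ B0.map φ) : φ (t1 * t2 * t3) * z * (φ (t1 * t2 * t3))⁻¹ = z⁻¹ := by
  obtain ⟨m, hm, rfl⟩ := hz
  obtain ⟨i, j, k, rfl⟩ := mem_B0.1 hm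
  rw [← map_inv φ (_ * _ ^ _)]
  refine φconj _ _ _ ?_
  clear hm
  revert i j k
  decide +kernel

theorem oc_conj {y g : G} (h : Oc b (g * y * g⁻¹)) : Oc b y := by
  rcases h with h | h
  · exact .inl (h.trans (isConj_iff.2 ⟨g⁻¹, by group⟩))
  · exact .inr (h.trans (isConj_iff.2 ⟨g⁻¹, by group⟩))

/-- the group of translations -/
def TN (φ : SM →* G) (ev : V81 →* G) : Subgroup G where
  carrier := {g | g ∈ Nm ev.range ∧ (∀ z ∈ B0.map φ, Commute g z) ∧ ∀ y ∈ ev.range, y⁻¹ * (g * y * g⁻¹) ∈ B0.map φ}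
  one_mem' := ⟨one_mem _, fun _ _ => Commute.one_left _, fun y _ => by simp⟩
  mul_mem' := by
    rintro g k ⟨g1, g2, g3⟩ ⟨k1, k2, k3⟩
    refine ⟨mul_mem g1 k1, fun z hz => (g2 z hz).mul_left (k2 z hz), fun y hy => ?_⟩
    have := mul_mem (g3 y hy) (k3 y hy)
    rw [← cjc (g2 _ (k3 y hy))] at this
    convert this using 1; group
  inv_mem' := by
    rintro g ⟨g1, g2, g3⟩
    refine ⟨inv_mem g1, fun z hz => (g2 z hz).inv_left, fun y hy => ?_⟩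
    have := inv_mem (g3 y hy)
    rw [← cjc (g2 _ this).inv_left] at this
    convert this using 1; group

theorem tr_pow {g z : G} (hc : Commute g z) (e : g * b * g⁻¹ = b * z) (n : ℕ) :
    g ^ n * b * (g ^ n)⁻¹ = b * z ^ n := by
  induction n with
  | zero => simp
  | succ n ih =>
    calc g ^ (n + 1) * b * (g ^ (n + 1))⁻¹ = g * (g ^ n * b * (g ^ n)⁻¹) * g⁻¹ := by group
      _ = (g * b * g⁻¹) * (g * z ^ n * g⁻¹) := by rw [ih]; group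
      _ = _ := by rw [e, cjc (hc.pow_right n)]; group

theorem tr_mul {g k y z : G} (hc : Commute g z) (e : g * b * g⁻¹ = b * y) (e' : k * b * k⁻¹ = b * z) :
    g * k * b * (g * k)⁻¹ = b * (y * z) := by
  calc _ = g * (k * b * k⁻¹) * g⁻¹ := by group
    _ = (g * b * g⁻¹) * (g * z * g⁻¹) := by rw [e']; group
    _ = _ := by rw [e, cjc hc, mul_assoc]

theorem tr_inv {g z : G} (hc : Commute g z) (e : g * b * g⁻¹ = b * z) : g⁻¹ * b * g⁻¹⁻¹ = b * z⁻¹ := by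
  calc _ = g⁻¹ * ((g * b * g⁻¹) * (g * z * g⁻¹)⁻¹) * g := by rw [e, cjc hc]; group
    _ = _ := by group

theorem tr_cj {s g z : G} (hs : s * b * s⁻¹ = b) (e : g * b * g⁻¹ = b * z) :
    s * g * s⁻¹ * b * (s * g * s⁻¹)⁻¹ = b * (s * z * s⁻¹) := by
  conv_lhs => rw [← hs]
  conv_rhs => rw [← hs]
  calc _ = s * (g * b * g⁻¹) * s⁻¹ := by group
    _ = _ := by rw [e]; group

/-- a fixed point of an involution in a coset -/
theorem fix {s τ : G} (hs : s * s = 1) (h3 : (τ⁻¹ * (s * τ * s⁻¹)) ^ 3 = 1) :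
    Commute s (τ * (τ⁻¹ * (s * τ * s⁻¹)) ^ 2) := by
  have e : s * (τ⁻¹ * (s * τ * s⁻¹)) * s⁻¹ = (τ⁻¹ * (s * τ * s⁻¹))⁻¹ := by
    calc _ = (s * τ * s⁻¹)⁻¹ * ((s * s) * τ * (s * s)⁻¹) := by group
      _ = _ := by rw [hs]; group
  have e1 : s * τ * s⁻¹ = τ * (τ⁻¹ * (s * τ * s⁻¹)) := by group
  generalize τ⁻¹ * (s * τ * s⁻¹) = n at *
  refine ccj ?_
  calc _ = (s * τ * s⁻¹) * (s * n * s⁻¹) ^ 2 := by rw [conj_pow]; group
    _ = τ * n ^ 2 * (n ^ 3)⁻¹ := by rw [e, e1]; group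
    _ = _ := by rw [h3]; group

section
variable (h : Bd0 b φ ev)
include h

theorem bB : b ∈ ev.range := ⟨x4, h.v4⟩

theorem Z_le : B0.map φ ≤ ev.range := fun _ hz => by
  obtain ⟨v, -, e⟩ := h.mem_B0.1 hz
  exact ⟨v, e⟩

theorem evZ {v : V81} : ev v ∈ B0.map φ ↔ v.v < 27 :=
  ⟨fun hz => by obtain ⟨u, hu, e⟩ := h.mem_B0.1 hz; exact h.einj e ▸ hu, fun hv => h.mem_B0.2 ⟨v, hv, rfl⟩⟩

theorem gam (hp : P27 b ev) {y : G} (hy : y ∈ ev.range) : Oc b y ↔ y ∉ B0.map φ := by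
  obtain ⟨v, rfl⟩ := hy
  rw [hp v, evZ h, not_lt]

theorem cB {g : G} (h1 : Commute g b) (h2 : ∀ z ∈ B0.map φ, Commute g z) {y : G} (hy : y ∈ ev.range) :
    Commute g y := by
  obtain ⟨i, m, hm, rfl⟩ := h.mem_ev.1 hy
  exact (h1.pow_right _).mul_right (h2 _ (mem_map_of_mem φ hm))

theorem nmZ (hp : P27 b ev) {g : G} (hg : g ∈ Nm ev.range) : g ∈ Nm (B0.map φ) := by
  refine mem_normalizer_of_forall fun z hz => ?_
  by_contra hn
  exact (gam h hp (Z_le h hz)).1 (oc_conj ((gam h hp (conj_mem_of_mem_normalizer hg (Z_le h hz))).2 hn)) hz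

theorem mem_TN {g z : G} (h2 : ∀ z ∈ B0.map φ, Commute g z) (hz : z ∈ B0.map φ) (e : g * b * g⁻¹ = b * z) :
    g ∈ TN φ ev := by
  have k : ∀ y ∈ ev.range, y⁻¹ * (g * y * g⁻¹) ∈ B0.map φ := fun y hy => by
    obtain ⟨i, m, hm, rfl⟩ := h.mem_ev.1 hy
    have hw := mem_map_of_mem φ hm
    have e1 : g * (b ^ i * φ m) * g⁻¹ = b ^ i * φ m * z ^ i := by
      calc _ = (g * b * g⁻¹) ^ i * (g * φ m * g⁻¹) := by rw [conj_pow]; group
        _ = _ := by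
          rw [e, cjc (h2 _ hw), (Bcomm (bB h) (Z_le h hz)).mul_pow, mul_assoc, mul_assoc,
            (Bcomm (Z_le h (pow_mem hz i)) (Z_le h hw)).eq]
    rw [e1, inv_mul_cancel_left]
    exact pow_mem hz _
  refine ⟨mem_normalizer_of_forall fun y hy => ?_, h2, k⟩
  have := mul_mem hy (Z_le h (k y hy))
  rwa [mul_inv_cancel_left] at this

theorem TN_tr {g : G} (hg : g ∈ TN φ ev) : ∃ z ∈ B0.map φ, g * b * g⁻¹ = b * z :=
  ⟨_, hg.2.2 b (bB h), by group⟩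

theorem TN_norm (hp : P27 b ev) {n : G} (hn : n ∈ Nm ev.range) : n ∈ Nm (TN φ ev) := by
  have hZ := nmZ h hp hn
  refine mem_normalizer_of_forall fun g hg => ⟨mul_mem (mul_mem hn hg.1) (inv_mem hn), fun z hz => ?_, fun y hy => ?_⟩
  · have := (hg.2.1 _ (conj_mem_of_mem_normalizer' hZ hz)).map (MulAut.conj n)
    simpa [mul_assoc] using this
  · have := conj_mem_of_mem_normalizer hZ (hg.2.2 _ (conj_mem_of_mem_normalizer' hn hy))
    convert this using 1; group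

theorem bZ : b ∉ B0.map φ := by
  rw [← h.v4, evZ h]; decide +kernel

theorem exists_tr (hp : P27 b ev) {y : G} (hy : y ∈ B0.map φ) : ∃ τ ∈ TN φ ev, τ * b * τ⁻¹ = b * y := by
  have y2 := mul_mem hy hy
  have hB : b * (y * y) ∈ ev.range := mul_mem (bB h) (Z_le h y2)
  have hO := (gam h hp hB).2 fun hm => bZ h (by
    have := mul_mem hm (inv_mem y2); rwa [mul_inv_cancel_right] at this)
  have tr : ∀ u ∈ ev.range, IsConj b u → ∃ g ∈ Nm ev.range, g * b * g⁻¹ = u := by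
    rintro _ ⟨v, rfl⟩ hc
    obtain ⟨g, p, q, r, ha⟩ := h.trans hc
    exact ⟨g, nm_of_act4 ha, by rw [← h.v4]; exact ha.2.2.2⟩
  generalize hζ : φ (t1 * t2 * t3) = ζ
  have ζb : Commute ζ b := hζ ▸ (h.comm _).symm
  have ζi : ∀ z ∈ B0.map φ, ζ * z * ζ⁻¹ = z⁻¹ := fun z hz => hζ ▸ ζ_inv hz
  obtain ⟨g, hg, e⟩ : ∃ g ∈ Nm ev.range, Commute (g * ζ * g⁻¹) (b * (y * y)) := by
    have key : ∀ g, Commute (g * ζ * g⁻¹) (g * b * g⁻¹) := fun g => ζb.map (MulAut.conj g)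
    rcases hO with hO | hO
    · obtain ⟨g, hg, e⟩ := tr _ hB hO
      exact ⟨g, hg, e ▸ key g⟩
    · obtain ⟨g, hg, e⟩ := tr _ (inv_mem hB) hO
      exact ⟨g, hg, by have := (e ▸ key g).inv_right; rwa [inv_inv] at this⟩
  have hZ := nmZ h hp hg
  have inv : ∀ z ∈ B0.map φ, g * ζ * g⁻¹ * z * (g * ζ * g⁻¹)⁻¹ = z⁻¹ := fun z hz => by
    calc _ = g * (ζ * (g⁻¹ * z * g) * ζ⁻¹) * g⁻¹ := by group
      _ = _ := by rw [ζi _ (conj_mem_of_mem_normalizer' hZ hz)]; group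
  have cz : ∀ z ∈ B0.map φ, Commute (g * ζ * g⁻¹ * ζ) z := fun z hz => ccj (by
    calc _ = g * ζ * g⁻¹ * (ζ * z * ζ⁻¹) * (g * ζ * g⁻¹)⁻¹ := by group
      _ = z := by rw [ζi _ hz, inv _ (inv_mem hz), inv_inv])
  have y3 : y ^ 3 = 1 := Bcube (Z_le h hy)
  have e1 : g * ζ * g⁻¹ * ζ * b * (g * ζ * g⁻¹ * ζ)⁻¹ = b * y := by
    calc _ = g * ζ * g⁻¹ * (ζ * b * ζ⁻¹) * (g * ζ * g⁻¹)⁻¹ := by group
      _ = (g * ζ * g⁻¹ * (b * (y * y)) * (g * ζ * g⁻¹)⁻¹) *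
          (g * ζ * g⁻¹ * (y * y)⁻¹ * (g * ζ * g⁻¹)⁻¹) := by rw [cjc ζb]; group
      _ = b * (y ^ 3 * y) := by
        rw [cjc e, inv _ (inv_mem y2), inv_inv]; simp only [pow_succ, pow_zero, one_mul, mul_assoc]
      _ = _ := by rw [y3, one_mul]
  exact ⟨_, mem_TN h cz hy e1, e1⟩

theorem exists_trP (hp : P27 b ev) {P : Subgroup G} (hP : IsSylowIn 3 P (TN φ ev)) {y : G}
    (hy : y ∈ B0.map φ) : ∃ τ ∈ P, τ * b * τ⁻¹ = b * y := by
  obtain ⟨τ, hτ, e⟩ := exists_tr h hp hy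
  obtain ⟨k, m, hm, ho⟩ := Nat.exists_eq_pow_mul_and_not_dvd (orderOf_pos τ).ne' 3 (by norm_num)
  have e1 := tr_pow (hτ.2.1 y hy) e (m * m)
  have y3 : y ^ 3 = 1 := Bcube (Z_le h hy)
  have hmm : y ^ (m * m) = y := by
    have : m * m % 3 = 1 := by
      have : m % 3 = 1 ∨ m % 3 = 2 := by omega
      rcases this with e | e <;> simp [Nat.mul_mod, e]
    rw [← Nat.div_add_mod (m * m) 3, this, pow_add, pow_mul, y3, one_pow, one_mul, pow_one]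
  rw [hmm] at e1
  obtain ⟨n, hn, hq⟩ := hP.exists_conj_mem (pow_mem hτ (m * m)) (isPGroup_zpowers_of_pow (k := k) (by
    rw [← pow_mul, show m * m * 3 ^ k = (3 ^ k * m) * m by ring, ← ho, pow_mul, pow_orderOf_eq_one, one_pow]))
  obtain ⟨z, hz, e2⟩ := TN_tr h (inv_mem hn)
  refine ⟨_, hq, ?_⟩
  have c1 := (pow_mem hτ (m * m)).2.1 z hz
  generalize τ ^ (m * m) = s at e1 c1
  calc _ = n * (s * (n⁻¹ * b * n⁻¹⁻¹) * s⁻¹) * n⁻¹ := by group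
    _ = n * ((s * b * s⁻¹) * (s * z * s⁻¹)) * n⁻¹ := by rw [e2]; group
    _ = n * (b * z) * n⁻¹ * (n * y * n⁻¹) := by
      rw [e1, cjc c1, mul_assoc b, (Bcomm (Z_le h hy) (Z_le h hz)).eq]; group
    _ = _ := by rw [← e2, cjc (hn.2.1 y hy)]; group

/-- Frattini argument -/
theorem frat (hp : P27 b ev) {P : Subgroup G} (hP : IsSylowIn 3 P (TN φ ev)) {g : G} (hg : g ∈ Nm ev.range) :
    ∃ c, (∀ y ∈ ev.range, Commute c y) ∧ c * g ∈ Nm P := by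
  obtain ⟨n, hn, hng⟩ := hP.frattini (TN_norm h hp hg)
  obtain ⟨z, hz, e⟩ := TN_tr h hn
  obtain ⟨p, hq, e'⟩ := exists_trP h hp hP hz
  have hc := mul_mem (inv_mem (hP.le hq)) hn
  refine ⟨p⁻¹ * n, fun y hy => cB h (ccj ?_) hc.2.1 hy, ?_⟩
  · calc _ = p⁻¹ * (n * b * n⁻¹) * p := by group
      _ = b := by rw [e, ← e']; group
  · rw [mul_assoc]; exact mul_mem (le_normalizer (inv_mem hq)) hng

/-- a `3`-element of `N(B)` acts trivially on `B / Z` -/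
theorem tr3 (hp : P27 b ev) {r : G} (hr : r ∈ Nm ev.range) {k : ℕ} (hk : r ^ 3 ^ k = 1) :
    ∃ z ∈ B0.map φ, r * b * r⁻¹ = b * z := by
  have rZ := nmZ h hp hr
  have mul : ∀ g ∈ Nm (B0.map φ), ∀ g', (∃ z ∈ B0.map φ, g * b * g⁻¹ = b * z) →
      (∃ z ∈ B0.map φ, g' * b * g'⁻¹ = b * z) → ∃ z ∈ B0.map φ, g * g' * b * (g * g')⁻¹ = b * z := by
    rintro g hg g' ⟨z, hz, e⟩ ⟨z', hz', e'⟩
    refine ⟨_, mul_mem hz (conj_mem_of_mem_normalizer hg hz'), ?_⟩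
    calc _ = g * (g' * b * g'⁻¹) * g⁻¹ := by group
      _ = (g * b * g⁻¹) * (g * z' * g⁻¹) := by rw [e']; group
      _ = _ := by rw [e, mul_assoc]
  have sq : ∃ z ∈ B0.map φ, r * r * b * (r * r)⁻¹ = b * z := by
    obtain ⟨s, hs⟩ := conj_mem_of_mem_normalizer hr (bB h)
    have h27 := (hp s).1 (.inl (isConj_iff.2 ⟨r, hs.symm⟩))
    obtain ⟨w, hw, e⟩ := (by decide +kernel : ∀ s : V81, 27 ≤ s.v →
      (x4⁻¹ * s).v < 27 ∧ s = x4 * (x4⁻¹ * s) ∨ (x4 * s).v < 27 ∧ s = x4⁻¹ * (x4 * s)) s h27 |>.elim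
      (fun a => (⟨_, a.1, .inl a.2⟩ : ∃ w : V81, w.v < 27 ∧ (s = x4 * w ∨ s = x4⁻¹ * w))) fun a => ⟨_, a.1, .inr a.2⟩
    have hz := (evZ h).2 hw
    rcases e with e | e
    · rw [e, map_mul, h.v4] at hs
      exact mul r rZ r ⟨_, hz, hs.symm⟩ ⟨_, hz, hs.symm⟩
    · rw [e, map_mul, map_inv, h.v4] at hs
      refine ⟨_, mul_mem (inv_mem hz) (conj_mem_of_mem_normalizer rZ hz), ?_⟩
      calc _ = r * (r * b * r⁻¹) * r⁻¹ := by group
        _ = r * (b⁻¹ * ev w) * r⁻¹ := by rw [hs]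
        _ = (r * b * r⁻¹)⁻¹ * (r * ev w * r⁻¹) := by group
        _ = ((ev w)⁻¹ * b) * (r * ev w * r⁻¹) := by rw [← hs]; group
        _ = _ := by rw [(Bcomm (Z_le h (inv_mem hz)) (bB h)).eq]; group
  have pw : ∀ n : ℕ, ∃ z ∈ B0.map φ, (r * r) ^ n * b * ((r * r) ^ n)⁻¹ = b * z := fun n => by
    induction n with
    | zero => exact ⟨1, one_mem _, by simp⟩
    | succ n ih => rw [pow_succ']; exact mul _ (mul_mem rZ rZ) _ sq ih
  obtain ⟨n, hn⟩ : Odd (3 ^ k) := Odd.pow (by decide)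
  have := pw (n + 1)
  rwa [← pow_two, ← pow_mul, show 2 * (n + 1) = 3 ^ k + 1 by omega, pow_succ, hk, one_mul] at this

end

/-- the monomial elements normalise the Sylow subgroup -/
theorem nmP (h : Bd b φ ev) (hp : P27 b ev) {P : Subgroup G} (hP : IsSylowIn 3 P (TN φ ev)) (BP : ev.range ≤ P)
    {m : SM} (hm : φ m ∈ Nm ev.range) (h6 : m ^ 6 = 1) : φ m ∈ Nm P := by
  obtain ⟨c, hc, hn⟩ := frat h.toBd0 hp hP hm
  obtain ⟨k, v, rfl, hk, h3⟩ := h.cent_dec (g := c) fun v => hc _ ⟨v, rfl⟩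
  obtain ⟨hk', ho⟩ := h.theta hk h3
  rw [(hk v).eq, mul_assoc] at hn
  have h1 := pow_mem ((mul_mem_cancel_left (le_normalizer (BP ⟨v, rfl⟩))).1 hn) (orderOf k * orderOf k)
  have e : orderOf k * orderOf k % 6 = 1 := by
    have h3' : ¬ 3 ∣ orderOf k := (Nat.Prime.coprime_iff_not_dvd Nat.prime_three).1 h3.symm
    obtain ⟨n, hn⟩ := ho
    have : orderOf k % 6 = 1 ∨ orderOf k % 6 = 5 := by omega
    rcases this with e | e <;> simp [Nat.mul_mod, e]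
  rwa [(hk' m).mul_pow, pow_mul, pow_orderOf_eq_one, one_pow, one_mul, ← map_pow,
    ← Nat.div_add_mod (orderOf k * orderOf k) 6, e, pow_add, pow_mul, h6, one_pow, one_mul, pow_one] at h1

end Gam1

open Gam1

theorem exists_gamS {b : G} {φ : SM →* G} {ev : V81 →* G} (h : Bd b φ ev) (hp : P27 b ev) :
    ∃ P τ1 τ2 τ3 k, GamS b φ ev P τ1 τ2 τ3 k := by
  have h0 := h.toBd0
  have BT : ev.range ≤ TN φ ev := fun y hy => mem_TN h0 (fun z hz => Bcomm hy (Z_le h0 hz)) (one_mem _)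
    (by rw [cjc (Bcomm hy (bB h0)), mul_one])
  obtain ⟨P, hP, BP⟩ := exists_isSylowIn_ge (p := 3) (isPGroup_iff_mem.2 fun y hy => ⟨1, Bcube hy⟩) BT
  have cz : ∀ p ∈ P, ∀ z ∈ B0.map φ, Commute p z := fun p hq => (hP.le hq).2.1
  have ker : ∀ p ∈ P, Commute p b → p ∈ ev.range := fun p hq hc => by
    obtain ⟨k, hk⟩ := isPGroup_iff_mem.1 hP.pgroup p hq
    exact h.cent_B (fun v => cB h0 hc (cz p hq) ⟨v, rfl⟩) hk
  have same : ∀ p ∈ P, ∀ q ∈ P, p * b * p⁻¹ = q * b * q⁻¹ → p⁻¹ * q ∈ ev.range := fun p hq q hq' e =>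
    ker _ (mul_mem (inv_mem hq) hq') (ccj (by
      calc p⁻¹ * q * b * (p⁻¹ * q)⁻¹ = p⁻¹ * (q * b * q⁻¹) * p := by group
        _ = b := by rw [← e]; group))
  obtain ⟨A1, A2, A3, -, -, -, Aα⟩ := h0.act_M
  have n1 := nmP h hp hP BP (nm_of_act4 A1) (by decide +kernel)
  have n2 := nmP h hp hP BP (nm_of_act4 A2) (by decide +kernel)
  have n3 := nmP h hp hP BP (nm_of_act4 A3) (by decide +kernel)
  have nα := nmP h hp hP BP (nm_of_act4 Aα) (by decide +kernel)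
  have Z1 : φ β1 ∈ B0.map φ := mem_map_of_mem φ β1B
  have sb : ∀ m, φ m * b * (φ m)⁻¹ = b := fun m => cjc (h0.comm m).symm
  have fx : ∀ m : SM, φ m ∈ Nm P → m * m = 1 → m * β1 * m⁻¹ = β1 → ∀ τ ∈ P, τ * b * τ⁻¹ = b * φ β1 →
      ∃ τ' ∈ P, τ' * b * τ'⁻¹ = b * φ β1 ∧ Commute (φ m) τ' ∧ ∀ s, Commute s (φ m) → Commute s τ → Commute s τ' := by
    intro m hm m2 mβ τ hτ e
    have hn := same τ hτ _ (conj_mem_of_mem_normalizer hm hτ) (by rw [tr_cj (sb m) e, φconj _ _ _ mβ, e])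
    refine ⟨_, mul_mem hτ (pow_mem (BP hn) 2), ?_, fix (by rw [← map_mul, m2, map_one]) (Bcube hn), fun s a c =>
      c.mul_right ((c.inv_right.mul_right ((a.mul_right c).mul_right a.inv_right)).pow_right 2)⟩
    rw [← e]
    conv_rhs => rw [← cjc (Bcomm (pow_mem hn 2) (bB h0))]
    group
  obtain ⟨σ0, mσ0, eσ0⟩ := exists_trP h0 hp hP Z1
  obtain ⟨σ1, mσ1, eσ1, c3', -⟩ := fx t3 n3 (by decide +kernel) (by decide +kernel) σ0 mσ0 eσ0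
  obtain ⟨σ, mσ, eσ, c2, c3⟩ := fx t2 n2 (by decide +kernel) (by decide +kernel) σ1 mσ1 eσ1
  replace c3 := c3 _ (Commute.map (show Commute t3 t2 by decide +kernel) φ) c3'
  have β3' : φ β1 ^ 3 = 1 := Bcube (Z_le h0 Z1)
  obtain ⟨τ1, m1, e1, i1, c2, c3⟩ : ∃ τ1 ∈ P, τ1 * b * τ1⁻¹ = b * φ β1 ∧ φ t1 * τ1 * (φ t1)⁻¹ = τ1⁻¹ ∧
      Commute (φ t2) τ1 ∧ Commute (φ t3) τ1 := by
    have m' := conj_mem_of_mem_normalizer n1 mσ
    have k : ∀ s : SM, Commute s t1 → Commute (φ s) σ → Commute (φ s) (φ t1 * σ * (φ t1)⁻¹ * σ⁻¹) := fun s a c =>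
      (((a.map φ).mul_right c).mul_right (a.map φ).inv_right).mul_right c.inv_right
    refine ⟨_, mul_mem m' (inv_mem mσ), ?_, ?_, k _ (by decide +kernel) c2, k _ (by decide +kernel) c3⟩
    · rw [tr_mul (cz _ m' _ (inv_mem Z1)) (tr_cj (sb t1) eσ) (tr_inv (cz _ mσ _ Z1) eσ),
        φconj t1 β1 β1⁻¹ (by decide +kernel), map_inv]
      calc _ = b * (φ β1 * (φ β1 ^ 3)⁻¹) := by group
        _ = _ := by rw [β3', inv_one, mul_one]
    · calc _ = (φ t1 * φ t1) * σ * (φ t1 * φ t1)⁻¹ * (φ t1 * σ * (φ t1)⁻¹)⁻¹ := by group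
        _ = _ := by rw [← map_mul, show t1 * t1 = 1 by decide +kernel, map_one]; group
  have m2 := conj_mem_of_mem_normalizer nα m1
  have e2 : φ α0 * τ1 * (φ α0)⁻¹ * b * (φ α0 * τ1 * (φ α0)⁻¹)⁻¹ = b * φ β2 := by
    rw [tr_cj (sb α0) e1, φconj α0 β1 β2 (by decide +kernel)]
  have cα : ∀ s s' : SM, α0 * s * α0⁻¹ = s' → Commute (φ s) τ1 → Commute (φ s') (φ α0 * τ1 * (φ α0)⁻¹) :=
    fun s s' e c => φconj (φ := φ) _ _ _ e ▸ c.map (MulAut.conj (φ α0))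
  have d3 := cα t2 t3 (by decide +kernel) c2
  have d1 := cα t3 t1 (by decide +kernel) c3
  have i2 : φ t2 * (φ α0 * τ1 * (φ α0)⁻¹) * (φ t2)⁻¹ = (φ α0 * τ1 * (φ α0)⁻¹)⁻¹ := by
    rw [← φconj (φ := φ) α0 t1 t2 (by decide +kernel)]
    calc _ = φ α0 * (φ t1 * τ1 * (φ t1)⁻¹) * (φ α0)⁻¹ := by group
      _ = _ := by rw [i1]; group
  generalize hτ2 : φ α0 * τ1 * (φ α0)⁻¹ = τ2 at m2 e2 d3 d1 i2
  have Z2 : φ β2 ∈ B0.map φ := (evZ h0 (v := x2)).2 (by decide +kernel) |> fun a => h0.v2 ▸ a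
  have act : ∀ p ∈ P, ∀ v : V81, p * b * p⁻¹ = b * ev v → Act4 ev p x1 x2 x3 (x4 * v) := fun p hq v e =>
    ⟨cjc (cz p hq _ ((evZ h0).2 (by decide +kernel))), cjc (cz p hq _ ((evZ h0).2 (by decide +kernel))),
      cjc (cz p hq _ ((evZ h0).2 (by decide +kernel))), by rw [map_mul, h0.v4, e]⟩
  have T1 := act τ1 m1 x1 (by rw [h0.v1, e1])
  have T2 := act τ2 m2 x2 (by rw [h0.v2, e2])
  obtain ⟨k, cube⟩ : ∃ k : ℕ, τ1 ^ 3 = φ β1 ^ k := by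
    obtain ⟨v, hv⟩ := ker _ (pow_mem m1 3) (ccj (by rw [tr_pow (cz _ m1 _ Z1) e1, β3', mul_one]))
    have e : ap4 x1⁻¹ x2 x3 x4 v = v⁻¹ := h0.einj (by
      rw [← A1.ap v, map_inv, hv, ← conj_pow, i1, inv_pow])
    obtain ⟨k, hk⟩ := (by decide +kernel : ∀ v : V81, ap4 x1⁻¹ x2 x3 x4 v = v⁻¹ → ∃ k : Fin 3, v = x1 ^ k.1) v e
    exact ⟨k, by rw [← hv, hk, map_pow, h0.v1]⟩
  have c12 : Commute τ1 τ2 := by
    have hd := same _ (mul_mem m2 m1) _ (mul_mem m1 m2) (by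
      rw [tr_mul (cz _ m2 _ Z1) e2 e1, tr_mul (cz _ m1 _ Z2) e1 e2, (Bcomm (Z_le h0 Z1) (Z_le h0 Z2)).eq])
    obtain ⟨v, hv⟩ := inv_mem (conj_mem_of_mem_normalizer (hP.le (mul_mem m2 m1)).1 hd)
    have f1 : ap4 x1 x2 x3 (x4 * x1) (ap4 x1⁻¹ x2 x3 x4 v) = v⁻¹ := h0.einj (by
      rw [← T1.ap, ← A1.ap v, map_inv, hv]
      calc _ = τ1 * ((φ t1 * τ2 * (φ t1)⁻¹) * (φ t1 * τ1 * (φ t1)⁻¹) * (φ t1 * τ2 * (φ t1)⁻¹)⁻¹ *
            (φ t1 * τ1 * (φ t1)⁻¹)⁻¹) * τ1⁻¹ := by group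
        _ = _ := by rw [i1, cjc d1]; group)
    have f2 : ap4 x1 x2 x3 (x4 * x2) (ap4 x1 x2⁻¹ x3 x4 v) = v⁻¹ := h0.einj (by
      rw [← T2.ap, ← A2.ap v, map_inv, hv]
      calc _ = τ2 * ((φ t2 * τ2 * (φ t2)⁻¹) * (φ t2 * τ1 * (φ t2)⁻¹) * (φ t2 * τ2 * (φ t2)⁻¹)⁻¹ *
            (φ t2 * τ1 * (φ t2)⁻¹)⁻¹) * τ2⁻¹ := by group
        _ = _ := by rw [i2, cjc c2]; group)
    rw [(by decide +kernel : ∀ v : V81, ap4 x1 x2 x3 (x4 * x1) (ap4 x1⁻¹ x2 x3 x4 v) = v⁻¹ →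
      ap4 x1 x2 x3 (x4 * x2) (ap4 x1 x2⁻¹ x3 x4 v) = v⁻¹ → v = 1) v f1 f2, map_one] at hv
    show τ1 * τ2 = τ2 * τ1
    calc τ1 * τ2 = (τ2 * τ1 * ((τ2 * τ1)⁻¹ * (τ1 * τ2)) * (τ2 * τ1)⁻¹)⁻¹⁻¹ * (τ2 * τ1) := by group
      _ = _ := by rw [← hv, inv_one, one_mul]
  refine ⟨P, τ1, τ2, φ α0 * τ2 * (φ α0)⁻¹, k,
    { toBd := h, pat := hp, p3 := hP.pgroup, evP := fun v => BP ⟨v, rfl⟩
      cB := fun p hq m hm => cz p hq _ (mem_map_of_mem φ hm)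
      tr := fun p hq => ?_
      ker := ker
      m1 := m1
      m2 := m2
      m3 := conj_mem_of_mem_normalizer nα m2
      e1 := e1
      a1 := hτ2
      a2 := rfl
      c12 := c12
      c3 := ⟨c3, d3⟩
      cube := cube
      αP := nα
      max := fun R hR hPR hRN r hr => ?_
      ninv := fun hc => ?_ }⟩
  · obtain ⟨_, ⟨z, hz, rfl⟩, e⟩ := TN_tr h0 (hP.le hq)
    exact ⟨z, hz, e⟩
  · obtain ⟨n, hn⟩ := isPGroup_iff_mem.1 hR r hr
    obtain ⟨z, hz, e⟩ := tr3 h0 hp (hRN hr) hn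
    obtain ⟨p, hq, e'⟩ := exists_trP h0 hp hP hz
    have PR : P ≤ R := le_sup_left.trans hPR
    have hm := mul_mem (inv_mem (PR hq)) hr
    obtain ⟨n', hn'⟩ := isPGroup_iff_mem.1 hR _ hm
    obtain ⟨i, m, em, -⟩ := h.elt3n (ccj (show p⁻¹ * r * b * (p⁻¹ * r)⁻¹ = b by
      calc _ = p⁻¹ * (r * b * r⁻¹) * p := by group
        _ = b := by rw [e, ← e']; group)) hn'
    have bP := pow_mem (BP (bB h0)) i
    have hS : R.comap φ = B0 ⊔ zpowers α0 := syl81.eq_of_le (hR.comap_of_injective φ h0.inj)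
      (sup_le (fun u hu => PR (BP (Z_le h0 (mem_map_of_mem φ hu))))
        (zpowers_le.2 (hPR (mem_sup_right (mem_zpowers _))))) le_top
    have mS : m ∈ B0 ⊔ zpowers α0 := by
      rw [← hS, mem_comap, ← mul_mem_cancel_left (PR bP), ← em]; exact hm
    have le : B0 ⊔ zpowers α0 ≤ (P ⊔ zpowers (φ α0)).comap φ :=
      sup_le (fun u hu => mem_sup_left (BP (Z_le h0 (mem_map_of_mem φ hu))))
        (zpowers_le.2 (mem_sup_right (mem_zpowers _)))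
    have := mul_mem (mem_sup_left hq) (mul_mem (mem_sup_left bP) (le mS))
    rwa [← em, mul_inv_cancel_left] at this
  · obtain ⟨g, hg⟩ := isConj_iff.1 hc
    obtain ⟨s, -, -, sc, sb', -⟩ := h0.toCh0.dec (.inr hg)
    rw [hg] at sb'
    have As : Act4 ev s x1 x2 x3 x4⁻¹ := ⟨h0.v1 ▸ cjc (sc _), h0.v2 ▸ cjc (sc _), h0.v3 ▸ cjc (sc _),
      by rw [map_inv, h0.v4, sb']⟩
    obtain ⟨c, hc, hn⟩ := frat h0 hp hP (nm_of_act4 As)
    have gb : c * s * b * (c * s)⁻¹ = b⁻¹ := by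
      calc _ = c * (s * b * s⁻¹) * c⁻¹ := by group
        _ = _ := by rw [sb', cjc (hc _ (inv_mem (bB h0)))]
    have gβ : Commute (c * s) (φ β1) := (hc _ (Z_le h0 Z1)).mul_left (sc _)
    generalize c * s = g' at hn gb gβ
    obtain ⟨v, hv⟩ := same _ (inv_mem m1) _ (conj_mem_of_mem_normalizer hn m1) (by
      rw [tr_inv (cz _ m1 _ Z1) e1]
      calc _ = (g' * b * g'⁻¹)⁻¹ * (g' * φ β1 * g'⁻¹)⁻¹ := by rw [gb, cjc gβ, inv_inv]
        _ = g' * (b * φ β1)⁻¹ * g'⁻¹ := by rw [(h0.comm β1).eq]; group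
        _ = g' * τ1 * g'⁻¹ * (g' * b * g'⁻¹)⁻¹ * (g' * τ1 * g'⁻¹)⁻¹ := by rw [← e1]; group
        _ = _ := by rw [gb, inv_inv])
    have e3 : τ1 * (τ1 * ev v * τ1⁻¹) * τ1⁻¹ * (τ1 * ev v * τ1⁻¹) * ev v = 1 := by
      rw [T1.ap, T1.ap, ← map_mul, ← map_mul, (by decide +kernel : ∀ v : V81,
        ap4 x1 x2 x3 (x4 * x1) (ap4 x1 x2 x3 (x4 * x1) v) * ap4 x1 x2 x3 (x4 * x1) v * v = 1) v, map_one]
    have e4 : τ1 ^ 3 = (τ1 ^ 3)⁻¹ := by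
      calc τ1 ^ 3 = g' * τ1 ^ 3 * g'⁻¹ := by rw [cube, cjc (gβ.pow_right k)]
        _ = (τ1⁻¹ * ev v) ^ 3 := by rw [← conj_pow, hv]; group
        _ = (τ1 ^ 3)⁻¹ * (τ1 * (τ1 * ev v * τ1⁻¹) * τ1⁻¹ * (τ1 * ev v * τ1⁻¹) * ev v) := by
          simp only [pow_succ, pow_zero, one_mul]; group
        _ = _ := by rw [e3, mul_one]
    have e5 : (τ1 ^ 3) ^ 3 = 1 := by rw [cube, ← pow_mul, mul_comm, pow_mul, β3', one_pow]
    generalize τ1 ^ 3 = u at e4 e5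
    calc u = u ^ 3 * (u * u)⁻¹ := by group
      _ = 1 := by rw [e5, eq_inv_iff_mul_eq_one.1 e4, inv_one, mul_one]

end CfsgLib.S86
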