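import Cfsg.Agent.Lib.S86.Loc

/-! The affine pattern is impossible (project S86, see plans/S86.md). -/

set_option autoImplicit false
set_option maxRecDepth 100000
set_option Elab.async false
set_option linter.unusedSectionVars false

namespace CfsgLib.S86

open Subgroup CfsgLib.W2 CfsgLib.Tech CfsgLib.PComp CfsgLib.Rec3C CfsgLib.Rec3C.V4
open CfsgLib.Rec3B (V81)
open CfsgLib.L72 (Nm IsQ Oc)

variable {G : Type*} [Group G] [Finite G]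

namespace Gam2

theorem mv : α0 ^ 3 = 1 ∧ α0 * β1 * α0⁻¹ = β2 ∧ α0 * β2 * α0⁻¹ = β3 ∧ Commute α0 z0 ∧ Commute t3 β1 ∧
    Commute t3 β2 ∧ t3 ^ 2 = 1 ∧ t3 ≠ 1 ∧ z0 ≠ 1 ∧ z0 ^ 3 = 1 ∧ β1 ^ 3 = 1 ∧ β2 ^ 3 = 1 := by decide +kernel

theorem fixz : ∀ n : Fin 3, n ≠ 0 → ∀ i j k : Fin 3, Commute (α0 ^ n.1) (β1 ^ i.1 * β2 ^ j.1 * β3 ^ k.1) →
    β1 ^ i.1 * β2 ^ j.1 * β3 ^ k.1 = z0 ^ i.1 := by decide +kernel

theorem fixp : ∀ n : Fin 3, n ≠ 0 → ∀ i j k : Fin 3,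
    (β1 ^ i.1 * β2 ^ j.1 * β3 ^ k.1 * α0 ^ n.1) ^ 3 = 1 → ∃ i' j' : Fin 3,
      β1 ^ i.1 * β2 ^ j.1 * β3 ^ k.1 * (α0 ^ n.1 * (β1 ^ i'.1 * β2 ^ j'.1 * β3 ^ (0 : Fin 3).1) * (α0 ^ n.1)⁻¹) =
        β1 ^ i'.1 * β2 ^ j'.1 * β3 ^ (0 : Fin 3).1 := by decide +kernel

theorem nB : ∀ n i j k : Fin 3, ∃ i' j' k' : Fin 3,
    α0 ^ n.1 * (β1 ^ i.1 * β2 ^ j.1 * β3 ^ k.1) * (α0 ^ n.1)⁻¹ = β1 ^ i'.1 * β2 ^ j'.1 * β3 ^ k'.1 := by decide +kernel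

theorem nB' (n : Fin 3) {m : SM} (hm : m ∈ B0) : α0 ^ n.1 * m * (α0 ^ n.1)⁻¹ ∈ B0 := by
  obtain ⟨i, j, k, rfl⟩ := mem_B0.1 hm
  exact mem_B0.2 (nB n i j k)

theorem b1 : β1 ∈ B0 := subset_closure (by simp)
theorem b2 : β2 ∈ B0 := subset_closure (by simp)
theorem b3 : β3 ∈ B0 := subset_closure (by simp)
theorem bz : z0 ∈ B0 := by rw [vals.2.2.2.2.2.1]; exact mul_mem (mul_mem b1 b2) b3

omit [Finite G] in
theorem cjc {a x : G} (h : Commute a x) : a * x * a⁻¹ = x := by rw [h.eq]; group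

omit [Finite G] in
theorem ccj {a x : G} (h : a * x * a⁻¹ = x) : Commute a x := mul_inv_eq_iff_eq_mul.1 h

omit [Finite G] in
theorem tr_pow {g b z : G} (hc : Commute g z) (e : g * b * g⁻¹ = b * z) (n : ℕ) :
    g ^ n * b * (g ^ n)⁻¹ = b * z ^ n := by
  induction n with
  | zero => simp
  | succ n ih =>
    calc _ = g * (g ^ n * b * (g ^ n)⁻¹) * g⁻¹ := by rw [pow_succ']; group
      _ = (g * b * g⁻¹) * (g * z ^ n * g⁻¹) := by rw [ih]; group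
      _ = _ := by rw [e, cjc (hc.pow_right n), pow_succ', mul_assoc]

omit [Finite G] in
theorem red {x : G} (h : x ^ 3 = 1) (n : ℕ) : ∃ i : Fin 3, x ^ n = x ^ i.1 :=
  ⟨⟨n % 3, Nat.mod_lt _ (by norm_num)⟩, pow_eq_pow_mod n h⟩

theorem card_le3 {E K : Subgroup G} {s : G} (h : ∀ e ∈ E, ∃ i : Fin 3, ∃ k ∈ K, e = k * s ^ i.1) :
    Nat.card E ≤ 3 * Nat.card (E ⊓ K : Subgroup G) := by
  have h1 : (K.subgroupOf E).index ≤ 3 := by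
    choose f hf using fun q : E ⧸ K.subgroupOf E => h _ (inv_mem q.out.2)
    refine (Nat.card_le_card_of_injective f fun q q' e => ?_).trans (by simp)
    obtain ⟨k, hk, ek⟩ := hf q
    obtain ⟨k', hk', ek'⟩ := hf q'
    rw [← q.out_eq, ← q'.out_eq, QuotientGroup.eq, mem_subgroupOf, coe_mul, coe_inv, ek, inv_eq_iff_eq_inv.1 ek', e,
      show k * s ^ (f q').1 * (k' * s ^ (f q').1)⁻¹ = k * k'⁻¹ by group]
    exact mul_mem hk (inv_mem hk')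
  rw [← (K.subgroupOf E).index_mul_card, ← inf_subgroupOf_left,
    Nat.card_congr (subgroupOfEquivOfLe (inf_le_left : E ⊓ K ≤ E)).toEquiv, inf_subgroupOf_left]
  exact Nat.mul_le_mul_right _ h1

variable {b : G} {φ : SM →* G} {ev : V81 →* G} {P : Subgroup G} {τ1 τ2 τ3 : G} {k : ℕ}
  (h : GamS b φ ev P τ1 τ2 τ3 k)
include h

theorem bb : b ^ 3 = 1 := h.ord ▸ pow_orderOf_eq_one b

theorem zB {m : SM} (hm : m ∈ B0) : φ m ∈ ev.range := h.toBd0.mem_ev.2 ⟨0, m, hm, by simp⟩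

theorem BP {y : G} (hy : y ∈ ev.range) : y ∈ P := by
  obtain ⟨v, rfl⟩ := hy
  exact h.evP v

theorem bP : b ∈ P := h.v4 ▸ h.evP x4

theorem B3 {y : G} (hy : y ∈ ev.range) : y ^ 3 = 1 := by
  obtain ⟨v, rfl⟩ := hy
  rw [← map_pow, pow_three', Rec3B.W4.V_cube, map_one]

theorem α3 : φ α0 ^ 3 = 1 := by rw [← map_pow, mv.1, map_one]

theorem a3 : φ α0 * τ3 * (φ α0)⁻¹ = τ1 := by
  rw [← h.a2, ← h.a1]
  calc _ = φ α0 ^ 3 * τ1 * (φ α0 ^ 3)⁻¹ := by rw [pow_three']; group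
    _ = τ1 := by rw [α3 h]; group

theorem stp {τ τ' : G} {m m' : SM} (e : φ α0 * τ * (φ α0)⁻¹ = τ') (e' : α0 * m * α0⁻¹ = m')
    (e1 : τ * b * τ⁻¹ = b * φ m) (e2 : τ ^ 3 = φ m ^ k) : τ' * b * τ'⁻¹ = b * φ m' ∧ τ' ^ 3 = φ m' ^ k := by
  subst e e'
  simp only [map_mul, map_inv, conj_pow, e2, and_true]
  calc _ = φ α0 * (τ * ((φ α0)⁻¹ * b * (φ α0)⁻¹⁻¹) * τ⁻¹) * (φ α0)⁻¹ := by group
    _ = (φ α0 * b * (φ α0)⁻¹) * (φ α0 * φ m * (φ α0)⁻¹) := by rw [cjc (h.comm α0).symm.inv_left, e1]; group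
    _ = _ := by rw [cjc (h.comm α0).symm]

theorem e2 : τ2 * b * τ2⁻¹ = b * φ β2 ∧ τ2 ^ 3 = φ β2 ^ k := stp h h.a1 mv.2.1 h.e1 h.cube

theorem e3 : τ3 * b * τ3⁻¹ = b * φ β3 ∧ τ3 ^ 3 = φ β3 ^ k := stp h h.a2 mv.2.2.1 (e2 h).1 (e2 h).2

theorem c23 : Commute τ2 τ3 := by
  rw [← h.a2]
  nth_rewrite 1 [← h.a1]
  exact h.c12.map (MulAut.conj (φ α0))

theorem c13 : Commute τ1 τ3 := by
  rw [← a3 h]
  nth_rewrite 2 [← h.a2]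
  exact (c23 h).symm.map (MulAut.conj (φ α0))

theorem trn (i j l : ℕ) : τ1 ^ i * τ2 ^ j * τ3 ^ l * b * (τ1 ^ i * τ2 ^ j * τ3 ^ l)⁻¹ =
    b * φ (β1 ^ i * β2 ^ j * β3 ^ l) := by
  have c := h.cB _ (mul_mem (pow_mem h.m1 i) (pow_mem h.m2 j)) _ (pow_mem b3 l)
  have c' := h.cB _ (pow_mem h.m1 i) _ (pow_mem b2 j)
  simp only [map_mul, map_pow] at c c' ⊢
  calc _ = τ1 ^ i * τ2 ^ j * (τ3 ^ l * b * (τ3 ^ l)⁻¹) * (τ1 ^ i * τ2 ^ j)⁻¹ := by group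
    _ = τ1 ^ i * (τ2 ^ j * b * (τ2 ^ j)⁻¹) * (τ1 ^ i)⁻¹ * (τ1 ^ i * τ2 ^ j * φ β3 ^ l * (τ1 ^ i * τ2 ^ j)⁻¹) := by
      rw [tr_pow (h.cB _ h.m3 _ b3) (e3 h).1]; group
    _ = (τ1 ^ i * b * (τ1 ^ i)⁻¹) * (τ1 ^ i * φ β2 ^ j * (τ1 ^ i)⁻¹) * φ β3 ^ l := by
      rw [cjc c, tr_pow (h.cB _ h.m2 _ b2) (e2 h).1]; group
    _ = _ := by rw [cjc c', tr_pow (h.cB _ h.m1 _ b1) h.e1]; group

theorem τP (i j l : ℕ) : τ1 ^ i * τ2 ^ j * τ3 ^ l ∈ P :=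
  mul_mem (mul_mem (pow_mem h.m1 i) (pow_mem h.m2 j)) (pow_mem h.m3 l)

theorem dec {p : G} (hp : p ∈ P) : ∃ i j l : Fin 3, ∃ y ∈ ev.range, p = τ1 ^ i.1 * τ2 ^ j.1 * τ3 ^ l.1 * y := by
  obtain ⟨m, hm, e⟩ := h.tr p hp
  obtain ⟨i, j, l, rfl⟩ := mem_B0.1 hm
  refine ⟨i, j, l, (τ1 ^ i.1 * τ2 ^ j.1 * τ3 ^ l.1)⁻¹ * p, h.ker _ (mul_mem (inv_mem (τP h _ _ _)) hp) (ccj ?_),
    by group⟩
  rw [← trn h] at e
  calc _ = (τ1 ^ i.1 * τ2 ^ j.1 * τ3 ^ l.1)⁻¹ * (p * b * p⁻¹) * (τ1 ^ i.1 * τ2 ^ j.1 * τ3 ^ l.1) := by group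
    _ = b := by rw [e]; group

theorem cube {p y : G} (hp : p ∈ P) (hy : y ∈ ev.range) : (p * y) ^ 3 = p ^ 3 := by
  obtain ⟨i, m, hm, rfl⟩ := h.toBd0.mem_ev.1 hy
  obtain ⟨t, ht, e⟩ := h.tr _ (inv_mem hp)
  have c1 : Commute (p * b ^ i) (φ m) := h.cB _ (mul_mem hp (pow_mem (bP h) i)) m hm
  rw [← mul_assoc, c1.mul_pow, B3 h (zB h hm), mul_one]
  have e' : b ^ i * p = p * (b ^ i * φ t ^ i) := by
    rw [← (h.comm t).mul_pow, ← e, conj_pow]; group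
  have c2 : Commute p (φ t ^ i) := (h.cB p hp t ht).pow_right i
  have c3 : Commute (b ^ i) (φ t ^ i) := (h.comm t).pow_pow i i
  have z3 : (φ t ^ i) ^ 3 = 1 := B3 h (pow_mem (zB h ht) i)
  have y3 : (b ^ i) ^ 3 = 1 := by rw [← pow_mul, mul_comm, pow_mul, bb h, one_pow]
  generalize b ^ i = y at e' c3 y3
  generalize φ t ^ i = z at e' c2 c3 z3
  have yz : (y * z) ^ 3 = 1 := by rw [c3.mul_pow, y3, z3, mul_one]
  simp only [pow_succ, pow_zero, one_mul] at yz ⊢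
  calc p * y * (p * y) * (p * y) = p * (y * p) * (y * p) * y := by group
    _ = p * p * y * (z * p) * y * z * y := by rw [e']; group
    _ = p * p * (y * p) * z * y * z * y := by rw [← c2.eq]; group
    _ = p * p * p * (y * z * (z * y) * (z * y)) := by rw [e']; group
    _ = _ := by rw [← c3.eq, yz, mul_one]

theorem split (hy : Hy G) (h3 : τ1 ^ 3 = 1) : False := by
  obtain ⟨-, -, -, -, k1, k2, k3, k4, -, -, k5, k6⟩ := mv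
  have h3' : τ2 ^ 3 = 1 := by rw [← h.a1, conj_pow, h3]; group
  have nm : ∀ g : G, Commute (φ t3) g → g ∈ Nm (zpowers (φ t3)) := fun g hg => mem_normalizer_of_forall (by
    rintro _ ⟨n, rfl⟩
    rw [cjc (hg.zpow_left n).symm]
    exact ⟨n, rfl⟩)
  have := hy.rk4 (T := zpowers (φ t3)) (isPGroup_zpowers_of_pow (p := 2) (k := 1) (by rw [pow_one, ← map_pow, k3, map_one]))
    h3 h3' (c := φ β1) (d := φ β2) (by rw [← map_pow, k5, map_one]) (by rw [← map_pow, k6, map_one]) h.c12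
    (h.cB _ h.m1 _ b1) (h.cB _ h.m1 _ b2) (h.cB _ h.m2 _ b1) (h.cB _ h.m2 _ b2) ((B0_facts.2.1 _ b1 _ b2).map φ)
    (fun i j l n e => ?_) (nm _ h.c3.1) (nm _ h.c3.2) (nm _ (k1.map φ)) (nm _ (k2.map φ))
  · rw [zpowers_eq_bot, ← map_one φ] at this
    exact k4 (h.inj this)
  · have e1 := trn h i j (0 : Fin 3)
    have e2 : τ1 ^ i.1 * τ2 ^ j.1 * τ3 ^ (0 : Fin 3).1 = (φ (β1 ^ l.1 * β2 ^ n.1))⁻¹ := by
      rw [eq_inv_iff_mul_eq_one, ← e, map_mul, map_pow, map_pow]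
      simp [mul_assoc]
    rw [e2, cjc (h.comm _).symm.inv_left, left_eq_mul, ← map_one φ] at e1
    obtain ⟨rfl, rfl, -⟩ := B0_facts.2.2.2 _ _ _ (h.inj e1)
    have e3 : φ (β1 ^ l.1 * β2 ^ n.1 * β3 ^ (0 : Fin 3).1) = φ 1 := by simpa using e
    obtain ⟨rfl, rfl, -⟩ := B0_facts.2.2.2 _ _ _ (h.inj e3)
    exact ⟨rfl, rfl, rfl, rfl⟩

theorem om (hn : τ1 ^ 3 ≠ 1) {p : G} (hp : p ∈ P) (h3 : p ^ 3 = 1) : p ∈ ev.range := by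
  obtain ⟨i, j, l, y, hy, rfl⟩ := dec h hp
  obtain ⟨n, en⟩ := red (x := β1) mv.2.2.2.2.2.2.2.2.2.2.1 k
  have n0 : n ≠ 0 := by
    rintro rfl
    exact hn (by rw [h.cube, ← map_pow, en]; simp)
  have key : ∀ n : Fin 3, n ≠ 0 → ∀ i j l : Fin 3, (β1 ^ n.1) ^ i.1 * (α0 * β1 ^ n.1 * α0⁻¹) ^ j.1 *
      (α0 * (α0 * β1 ^ n.1 * α0⁻¹) * α0⁻¹) ^ l.1 = 1 → i = 0 ∧ j = 0 ∧ l = 0 := by decide +kernel
  rw [cube h (τP h _ _ _) hy, (((c13 h).pow_pow _ _).mul_left ((c23 h).pow_pow _ _)).mul_pow,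
    (h.c12.pow_pow _ _).mul_pow, ← pow_mul, ← pow_mul, ← pow_mul, mul_comm i.1, mul_comm j.1, mul_comm l.1, pow_mul,
    pow_mul, pow_mul, h.cube, (e2 h).2, (e3 h).2] at h3
  obtain ⟨rfl, rfl, rfl⟩ := key n n0 i j l (h.inj (by
    rw [← en, ← conj_pow, mv.2.1, ← conj_pow, mv.2.2.1, map_one, ← h3]
    simp only [map_mul, map_pow]))
  simpa using hy

theorem decS {s : G} (hs : s ∈ P ⊔ zpowers (φ α0)) : ∃ p ∈ P, ∃ n : Fin 3, s = p * φ (α0 ^ n.1) := by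
  rw [← SetLike.mem_coe, coe_mul_of_right_le_normalizer_left _ _ (zpowers_le.2 h.αP), Set.mem_mul] at hs
  obtain ⟨p, hp, a, ha, rfl⟩ := hs
  obtain ⟨n, rfl⟩ := (mem_powers_iff_mem_zpowers.2 ha : _ ∈ Submonoid.powers _)
  obtain ⟨i, e⟩ := red (α3 h) n
  exact ⟨p, hp, i, by rw [map_pow, ← e]⟩

theorem actZ {p : G} (hp : p ∈ P) (n : Fin 3) {m : SM} (hm : m ∈ B0) :
    p * φ (α0 ^ n.1) * φ m * (p * φ (α0 ^ n.1))⁻¹ = φ (α0 ^ n.1 * m * (α0 ^ n.1)⁻¹) := by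
  rw [← cjc (h.cB p hp _ (nB' n hm)), map_mul, map_mul, map_inv]
  group

theorem syl (hn : τ1 ^ 3 ≠ 1) : IsSylowIn 3 (P ⊔ zpowers (φ α0)) ⊤ := by
  by_contra hs
  obtain ⟨R, hR, hlt, -, hN⟩ := exists_lt_pgroup_normalizer (h.p3.to_sup_of_normal_left'
    (isPGroup_zpowers_of_pow (p := 3) (k := 1) (α3 h)) (zpowers_le.2 h.αP)) le_top hs
  refine hlt.not_ge (h.max R hR hlt.le fun x hx => ?_)
  have ES : (cjh x ev).range ≤ P ⊔ zpowers (φ α0) := by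
    rintro _ ⟨v, rfl⟩
    exact conj_mem_of_mem_normalizer (hN hx) (mem_sup_left (h.evP v))
  have E3 : ∀ e ∈ (cjh x ev).range, e ^ 3 = 1 := by
    rintro _ ⟨v, rfl⟩
    rw [← map_pow, pow_three', Rec3B.W4.V_cube, map_one]
  by_cases hE : (cjh x ev).range ≤ P
  · refine mem_normalizer_of_forall ?_
    rintro _ ⟨v, rfl⟩
    exact om h hn (hE ⟨v, rfl⟩) (E3 _ ⟨v, rfl⟩)
  exfalso
  obtain ⟨u, hu, huP⟩ := SetLike.not_le_iff_exists.1 hE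
  obtain ⟨p, hp, n, eu⟩ := decS h (ES hu)
  have n0 : n ≠ 0 := by
    rintro rfl
    exact huP (by simpa [eu] using hp)
  have c0 : Nat.card (cjh x ev).range = 81 :=
    (Nat.card_congr (MonoidHom.ofInjective (h.toBd0.conj x).einj).toEquiv).symm.trans TG.card_eq
  have c1 := card_le3 (E := (cjh x ev).range) (K := P) (s := φ α0) fun e he => by
    obtain ⟨q, hq, i, rfl⟩ := decS h (ES he)
    exact ⟨i, q, hq, by rw [map_pow]⟩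
  have c2 := card_le3 (E := (cjh x ev).range ⊓ P) (K := B0.map φ) (s := b) fun e he => by
    obtain ⟨i, m, hm, rfl⟩ := h.toBd0.mem_ev.1 (om h hn he.2 (E3 e he.1))
    obtain ⟨j, ej⟩ := red (bb h) i
    exact ⟨j, φ m, mem_map_of_mem φ hm, by rw [ej, ((h.comm m).pow_left _).eq]⟩
  have c3 := card_le3 (E := (cjh x ev).range ⊓ P ⊓ B0.map φ) (K := ⊥) (s := φ z0) fun e he => by
    obtain ⟨⟨⟨v, ev'⟩, -⟩, m, hm, rfl⟩ := he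
    obtain ⟨w, rfl⟩ := hu
    have c : Commute (cjh x ev w) (φ m) := ev' ▸ (show Commute w v from Rec3B.W4.V_comm w v).map (cjh x ev)
    have e := cjc c
    rw [eu, actZ h hp n hm] at e
    obtain ⟨i, j, l, rfl⟩ := mem_B0.1 hm
    exact ⟨i, 1, one_mem _, by rw [fixz n n0 i j l (ccj (h.inj e)), map_pow, one_mul]⟩
  rw [inf_bot_eq, card_bot] at c3
  omega

theorem deg (hn : τ1 ^ 3 ≠ 1) {i : ℕ} {m : SM} (hm : m ∈ B0) (hc : IsConj b (b ^ i * φ m)) :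
    ∃ j : ℕ, i = 3 * j + 1 := by
  obtain ⟨j, rfl | rfl | rfl⟩ : ∃ j, i = 3 * j ∨ i = 3 * j + 1 ∨ i = 3 * j + 2 := ⟨i / 3, by omega⟩
  · rw [pow_mul, bb h, one_pow, one_mul] at hc
    obtain ⟨v, hv, e⟩ := h.toBd0.mem_B0.1 (mem_map_of_mem φ hm)
    have := (h.pat v).1 (.inl (e ▸ hc))
    omega
  · exact ⟨j, rfl⟩
  · refine (hn (h.ninv (hc.trans ?_))).elim
    obtain ⟨a, c, d, e⟩ := mem_B0.1 (inv_mem hm)
    have e1 := trn h a c d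
    rw [← e, map_inv] at e1
    rw [pow_add, pow_mul, bb h, one_pow, one_mul,
      eq_inv_of_mul_eq_one_left (show b ^ 2 * b = 1 from (pow_succ b 2).symm.trans (bb h)), (h.comm m).inv_left.eq]
    refine isConj_iff.2 ⟨(τ1 ^ a.1 * τ2 ^ c.1 * τ3 ^ d.1)⁻¹, ?_⟩
    calc _ = (τ1 ^ a.1 * τ2 ^ c.1 * τ3 ^ d.1)⁻¹ * (b * (φ m)⁻¹)⁻¹ * (τ1 ^ a.1 * τ2 ^ c.1 * τ3 ^ d.1) := by group
      _ = _ := by rw [← e1]; group

theorem ωτ (i j l : ℕ) : Commute (τ1 * τ2 * τ3) (τ1 ^ i * τ2 ^ j * τ3 ^ l) := by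
  have c1 := h.c12
  have c2 := c13 h
  have c3 := c23 h
  exact (((((Commute.refl _).mul_left c1.symm).mul_left c2.symm).pow_right i).mul_right
    (((c1.mul_left (Commute.refl _)).mul_left c3.symm).pow_right j)).mul_right
      (((c2.mul_left c3).mul_left (Commute.refl _)).pow_right l)

theorem ωP : τ1 * τ2 * τ3 ∈ P := mul_mem (mul_mem h.m1 h.m2) h.m3

theorem ωα (n : ℕ) : Commute (τ1 * τ2 * τ3) (φ (α0 ^ n)) := by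
  rw [map_pow]
  refine (ccj ?_).symm.pow_right n
  calc _ = (φ α0 * τ1 * (φ α0)⁻¹) * (φ α0 * τ2 * (φ α0)⁻¹) * (φ α0 * τ3 * (φ α0)⁻¹) := by group
    _ = _ := by rw [h.a1, h.a2, a3 h, ← (h.c12.mul_right (c13 h)).eq, mul_assoc]

theorem ωb (i : ℕ) : τ1 * τ2 * τ3 * b ^ i * (τ1 * τ2 * τ3)⁻¹ = b ^ i * φ z0 ^ i := by
  have := trn h 1 1 1
  simp only [pow_one] at this
  rw [← conj_pow, this, ← vals.2.2.2.2.2.1, (h.comm _).mul_pow]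

theorem ζS {s : G} (hs : s ∈ P ⊔ zpowers (φ α0)) : Commute s (φ z0) := by
  obtain ⟨p, hp, n, rfl⟩ := decS h hs
  exact (h.cB p hp _ bz).mul_left ((mv.2.2.2.1.pow_left _).map φ)

theorem decω {s : G} (hs : s ∈ P ⊔ zpowers (φ α0)) : ∃ i : ℕ, Commute (τ1 * τ2 * τ3) (s * b ^ (2 * i)) ∧
    τ1 * τ2 * τ3 * s * (τ1 * τ2 * τ3)⁻¹ = s * φ z0 ^ i := by
  obtain ⟨p, hp, n, rfl⟩ := decS h hs
  obtain ⟨a, c, d, y, hy, rfl⟩ := dec h hp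
  obtain ⟨i, m, hm, rfl⟩ := h.toBd0.mem_ev.1 hy
  have c1 : Commute (τ1 * τ2 * τ3) (τ1 ^ a.1 * τ2 ^ c.1 * τ3 ^ d.1 * φ (m * α0 ^ n.1)) := by
    rw [map_mul]
    exact (ωτ h _ _ _).mul_right ((h.cB _ (ωP h) m hm).mul_right (ωα h _))
  rw [show τ1 ^ a.1 * τ2 ^ c.1 * τ3 ^ d.1 * (b ^ i * φ m) * φ (α0 ^ n.1) =
    τ1 ^ a.1 * τ2 ^ c.1 * τ3 ^ d.1 * φ (m * α0 ^ n.1) * b ^ i by
      rw [mul_assoc _ (φ _), ← ((h.comm _).pow_left i).eq, map_mul]; group]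
  generalize τ1 ^ a.1 * τ2 ^ c.1 * τ3 ^ d.1 * φ (m * α0 ^ n.1) = g at c1
  refine ⟨i, ?_, ?_⟩
  · rw [mul_assoc g, ← pow_add, show i + 2 * i = 3 * i by omega, pow_mul, bb h, one_pow, mul_one]
    exact c1
  · calc _ = (τ1 * τ2 * τ3 * g * (τ1 * τ2 * τ3)⁻¹) * (τ1 * τ2 * τ3 * b ^ i * (τ1 * τ2 * τ3)⁻¹) := by group
      _ = _ := by rw [cjc c1, ωb h, mul_assoc]

theorem fus0 (hn : τ1 ^ 3 ≠ 1) {u : G} (hu : u ∈ P ⊔ zpowers (φ α0)) (hc : IsConj b u) (hb : Commute u b) :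
    τ1 * τ2 * τ3 * u * (τ1 * τ2 * τ3)⁻¹ = u * φ z0 := by
  obtain ⟨p, hp, n, rfl⟩ := decS h hu
  obtain ⟨i, m, hm, rfl⟩ := h.toBd0.mem_ev.1 (h.ker p hp (by
    simpa using hb.mul_left (h.comm (α0 ^ n.1)).symm.inv_left))
  have c1 : Commute (τ1 * τ2 * τ3) (φ (m * α0 ^ n.1)) := by
    rw [map_mul]
    exact (h.cB _ (ωP h) m hm).mul_right (ωα h _)
  have c2 := ((B0_facts.2.1 _ hm _ bz).mul_left (mv.2.2.2.1.pow_left n.1)).map φ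
  rw [mul_assoc (b ^ i), ← map_mul] at hc ⊢
  generalize m * α0 ^ n.1 = w at hc c1 c2
  have w3 : w ^ 3 = 1 := by
    obtain ⟨g, e⟩ := isConj_iff.1 hc
    have : (b ^ i * φ w) ^ 3 = 1 := by rw [← e, conj_pow, bb h]; group
    rw [((h.comm w).pow_left i).mul_pow, ← pow_mul, mul_comm, pow_mul, bb h, one_pow, one_mul, ← map_pow,
      ← map_one φ] at this
    exact h.inj this
  obtain ⟨g, hg⟩ := into_B0 (zpowers w) (by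
    rintro _ ⟨j, rfl⟩
    rw [← zpow_natCast, ← zpow_mul, mul_comm, zpow_mul, zpow_natCast, w3, one_zpow]) (by
    rintro _ ⟨j, rfl⟩ _ ⟨l, rfl⟩
    exact (Commute.refl w).zpow_zpow j l)
  obtain ⟨j, rfl⟩ := deg h hn (i := i) (hg w (mem_zpowers w)) (hc.trans (isConj_iff.2 ⟨φ g, by
    rw [map_mul, map_mul, map_inv]
    conv_rhs => rw [← cjc ((h.comm g).pow_left i).symm]
    group⟩))
  calc _ = (τ1 * τ2 * τ3 * b ^ (3 * j + 1) * (τ1 * τ2 * τ3)⁻¹) * (τ1 * τ2 * τ3 * φ w * (τ1 * τ2 * τ3)⁻¹) := by group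
    _ = _ := by
      rw [ωb h, cjc c1, pow_succ (φ z0), pow_mul (φ z0), B3 h (zB h bz), one_pow, one_mul, mul_assoc, ← c2.eq,
        mul_assoc]

theorem fus (hn : τ1 ^ 3 ≠ 1) {u : G} (hu : u ∈ P ⊔ zpowers (φ α0)) (hc : IsConj b u) :
    τ1 * τ2 * τ3 * u * (τ1 * τ2 * τ3)⁻¹ = u * φ z0 := by
  have u3 : u ^ 3 = 1 := by
    obtain ⟨g, rfl⟩ := isConj_iff.1 hc
    rw [conj_pow, bb h]; group
  obtain ⟨p, hp, n, eu⟩ := decS h hu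
  by_cases n0 : n = 0
  · subst n0
    obtain ⟨v, rfl⟩ := om h hn (show u ∈ P by simpa [eu] using hp) u3
    exact fus0 h hn hu hc (h.v4 ▸ (show Commute v x4 from Rec3B.W4.V_comm v x4).map ev)
  obtain ⟨t, ht, et⟩ := h.tr p hp
  have F : ∀ x ∈ B0, u * (b * φ x) * u⁻¹ = b * φ (t * (α0 ^ n.1 * x * (α0 ^ n.1)⁻¹)) := fun x hx => by
    calc _ = p * (φ (α0 ^ n.1) * b * (φ (α0 ^ n.1))⁻¹) * p⁻¹ * (u * φ x * u⁻¹) := by rw [eu]; group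
      _ = _ := by rw [cjc (h.comm _).symm, et, eu, actZ h hp n hx, map_mul φ t, mul_assoc]
  have m1 := mul_mem ht (nB' n (one_mem B0))
  have m2 := mul_mem ht (nB' n m1)
  have e3 : b * φ 1 = b * φ ((t * α0 ^ n.1) ^ 3) := by
    calc _ = u ^ 3 * (b * φ 1) * (u ^ 3)⁻¹ := by rw [u3]; group
      _ = u * (u * (u * (b * φ 1) * u⁻¹) * u⁻¹) * u⁻¹ := by rw [pow_three']; group
      _ = b * φ ((t * α0 ^ n.1) ^ 3 * ((α0 ^ 3) ^ n.1)⁻¹) := by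
        rw [F _ (one_mem _), F _ m1, F _ m2, ← pow_mul, mul_comm 3, pow_mul, pow_three', pow_three']; congr 2; group
      _ = _ := by rw [mv.1, one_pow, inv_one, mul_one]
  obtain ⟨i, j, l, rfl⟩ := mem_B0.1 ht
  obtain ⟨a, c, e⟩ := fixp n n0 i j l (h.inj (mul_left_cancel e3)).symm
  have e4 := F _ (mem_B0.2 ⟨a, c, 0, rfl⟩)
  rw [e, ← trn h] at e4
  have hτ := τP h a c (0 : Fin 3)
  have c1 := ωτ h a c (0 : Fin 3)
  generalize τ1 ^ a.1 * τ2 ^ c.1 * τ3 ^ (0 : Fin 3).1 = τ at e4 hτ c1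
  have e5 := fus0 h hn (u := τ⁻¹ * u * τ) (mul_mem (mul_mem (mem_sup_left (inv_mem hτ)) hu) (mem_sup_left hτ))
    (hc.trans (isConj_iff.2 ⟨τ⁻¹, by rw [inv_inv]⟩)) (comm_cj (ccj e4))
  generalize τ1 * τ2 * τ3 = ω at e5 c1 ⊢
  calc _ = (ω * τ * ω⁻¹) * (ω * (τ⁻¹ * u * τ) * ω⁻¹) * (ω * τ * ω⁻¹)⁻¹ := by group
    _ = u * (τ * φ z0 * τ⁻¹) := by rw [e5, cjc c1]; group
    _ = _ := by rw [cjc (h.cB τ hτ _ bz)]

end Gam2

open Gam2 in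
theorem gam_false (hy : Hy G) {b : G} {φ : SM →* G} {ev : V81 →* G} {P : Subgroup G} {τ1 τ2 τ3 : G} {k : ℕ}
    (h : GamS b φ ev P τ1 τ2 τ3 k) : False := by
  have hn : τ1 ^ 3 ≠ 1 := split h hy
  have bS : b ∈ P ⊔ zpowers (φ α0) := mem_sup_left (bP h)
  have eb := ωb h 1
  simp only [pow_one] at eb
  refine hy.transfer (syl h hn) (P0 := (P ⊔ zpowers (φ α0)) ⊓ centralizer {τ1 * τ2 * τ3}) inf_le_left
    (fun p hp q hq => ?_) bS (bb h) (fun hb => ?_) (fun p hp => ?_) fun g hg => ?_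
  · refine mem_inf.2 ⟨mul_mem (mul_mem (mul_mem hp hq) (inv_mem hp)) (inv_mem hq),
      mem_centralizer_singleton_iff.2 (ccj ?_).symm⟩
    obtain ⟨i, -, ei⟩ := decω h hp
    obtain ⟨j, -, ej⟩ := decω h hq
    have c1 := (ζS h (inv_mem hp)).pow_right j
    have c2 := ((ζS h hq).pow_right i).mul_left ((Commute.refl (φ z0)).pow_pow j i)
    generalize τ1 * τ2 * τ3 = ω at ei ej
    generalize φ z0 ^ i = z at ei c2
    generalize φ z0 ^ j = w at ej c1 c2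
    calc _ = (ω * p * ω⁻¹) * (ω * q * ω⁻¹) * (ω * p * ω⁻¹)⁻¹ * (ω * q * ω⁻¹)⁻¹ := by group
      _ = p * (z * (q * w) * z⁻¹) * p⁻¹ * (q * w)⁻¹ := by rw [ei, ej]; group
      _ = p * q * (w * p⁻¹ * w⁻¹) * q⁻¹ := by rw [cjc c2.symm]; group
      _ = _ := by rw [cjc c1.symm]
  · rw [cjc (mem_centralizer_singleton_iff.1 hb.2).symm, left_eq_mul, ← map_one φ] at eb
    exact mv.2.2.2.2.2.2.2.2.1 (h.inj eb)
  · obtain ⟨i, c, -⟩ := decω h hp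
    exact ⟨2 * i, mul_mem hp (pow_mem bS _), mem_centralizer_singleton_iff.2 c.symm⟩
  · refine mem_inf.2 ⟨mul_mem hg (inv_mem bS), mem_centralizer_singleton_iff.2 (ccj ?_).symm⟩
    have e := fus h hn hg (isConj_iff.2 ⟨g, rfl⟩)
    generalize g * b * g⁻¹ = u at e
    generalize τ1 * τ2 * τ3 = ω at e eb
    calc _ = (ω * u * ω⁻¹) * (ω * b * ω⁻¹)⁻¹ := by group
      _ = _ := by rw [e, eb]; group

end CfsgLib.S86
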