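import Cfsg.Agent.Lib.S86.Gen
import Cfsg.Agent.Lib.C3.BasicA
import Cfsg.Agent.Lib.Core.Frattini
import Cfsg.Agent.Lib.PGroup.Basic

/-! Small coprime lemmas (project S86, see plans/S86.md). -/

set_option autoImplicit false
set_option maxRecDepth 100000
set_option Elab.async false
set_option linter.unusedSectionVars false

namespace CfsgLib.S86

open Subgroup CfsgLib.W2 CfsgLib.Tech CfsgLib.PComp CfsgLib.Rec3C CfsgLib.Rec3C.V4
open CfsgLib.Rec3B (V81)
open CfsgLib.L72 (Nm IsQ Oc)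

variable {G : Type*} [Group G] [Finite G]

theorem g2_zp {u a : G} (u2 : u * u = 1) (h : a ∈ zpowers u) : a = 1 ∨ a = u := by
  obtain ⟨n, rfl⟩ := mem_powers_iff_mem_zpowers.2 h
  simp only
  rw [pow_eq_pow_mod n (show u ^ 2 = 1 by rw [pow_two, u2])]
  rcases Nat.mod_two_eq_zero_or_one n with e | e <;> simp [e]

theorem g2_cube {u y a : G} (hy : y ^ 3 = 1) (u2 : u * u = 1) (uy : Commute u y)
    (h : y * a * y⁻¹ * a⁻¹ ∈ zpowers u) : Commute a y := by
  rcases g2_zp u2 h with e | e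
  · rw [mul_inv_eq_one, mul_inv_eq_iff_eq_mul] at e
    exact e.symm
  · rw [mul_inv_eq_iff_eq_mul] at e
    have e0 : y * u * y⁻¹ = u := by rw [← uy.eq, mul_inv_cancel_right]
    have e1 : y * (y * a * y⁻¹) * y⁻¹ = a := by rw [e, ← conj_mul, e0, e, ← mul_assoc, u2, one_mul]
    have e2 : y * a * y⁻¹ = a := by
      calc y * a * y⁻¹ = y * (y * (y * a * y⁻¹) * y⁻¹) * y⁻¹ := by rw [e1]
        _ = y ^ 3 * a * (y ^ 3)⁻¹ := by simp only [pow_succ, pow_zero, one_mul]; group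
        _ = a := by rw [hy]; group
    exact (mul_inv_eq_iff_eq_mul.1 e2).symm

theorem g2_irr {A X : Subgroup G} {u y a : G} (cA : Nat.card A = 8) (hy : y ^ 3 = 1) (u2 : u * u = 1) (u1 : u ≠ 1)
    (uy : Commute u y) (hc : ∀ a ∈ A, Commute a y → a ∈ zpowers u) (le : X ≤ A) (uX : u ∈ X) (yX : y ∈ Nm X)
    (aX : a ∈ X) (na : a ∉ zpowers u) : A ≤ X := by
  classical
  have uu := mem_zpowers u
  have e0 : y * u * y⁻¹ = u := by rw [← uy.eq, mul_inv_cancel_right]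
  have n1 : ∀ v ∈ zpowers u, y * a * y⁻¹ ≠ v * a := fun v hv e =>
    na (hc a (le aX) (g2_cube hy u2 uy (by rwa [e, mul_inv_cancel_right])))
  have n2 : ∀ v ∈ zpowers u, y * a * y⁻¹ ≠ v := fun v hv e => na (by
    rcases g2_zp u2 hv with rfl | rfl
    · rw [conj_eq_one_iff.1 e]; exact one_mem _
    · rw [mul_left_cancel (mul_right_cancel (e.trans e0.symm))]; exact uu)
  have c5 : ({1, u, a, u * a, y * a * y⁻¹} : Finset G).card = 5 := by
    have a1 : a ≠ 1 := fun e => na (e ▸ one_mem _)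
    have a2 : a ≠ u := fun e => na (e ▸ uu)
    have a3 : u * a ≠ 1 := fun e => na ((mul_mem_cancel_left uu).1 (e ▸ one_mem _))
    have a4 : y * a * y⁻¹ ≠ a := by simpa using n1 1 (one_mem _)
    rw [Finset.card_insert_of_notMem, Finset.card_insert_of_notMem, Finset.card_insert_of_notMem,
      Finset.card_pair (n1 u uu).symm]
    · simp [u1, a4.symm]
    · simp [a2.symm, a1, (n2 u uu).symm]
    · simp [u1.symm, a1.symm, a3.symm, (n2 1 (one_mem _)).symm]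
  have c6 : 5 ≤ Nat.card X := by
    rw [← c5, ← Set.ncard_coe_finset]
    refine Set.ncard_le_ncard (t := (X : Set G)) (fun x hx => ?_)
    simp only [Finset.coe_insert, Finset.coe_singleton, Set.mem_insert_iff, Set.mem_singleton_iff] at hx
    rcases hx with rfl | rfl | rfl | rfl | rfl
    exacts [one_mem X, uX, aX, mul_mem uX aX, conj_mem_of_mem_normalizer yX aX]
  have hd := card_dvd_of_le le
  rw [cA] at hd
  have := Nat.le_of_dvd (by norm_num) hd
  have c8 : Nat.card X = 8 := by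
    generalize Nat.card X = n at *
    interval_cases n <;> simp_all
  exact (eq_of_le_of_card_ge le (by rw [cA, c8])).ge

theorem g2_nm {N A : Subgroup G} {x y : G} (hxy : Commute x y) (hyN : y ∈ Nm N)
    (hA : ∀ n, n ∈ A ↔ n ∈ N ∧ Commute n x) : y ∈ Nm A := mem_normalizer_of_forall fun a ha => by
  obtain ⟨h1, h2⟩ := (hA a).1 ha
  exact (hA _).2 ⟨conj_mem_of_mem_normalizer hyN h1, (hxy.symm.mul_left h2).mul_left hxy.symm.inv_left⟩

theorem g2_phi {N A C : Subgroup G} {u x y : G} (hy : y ^ 3 = 1) (hxy : Commute x y)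
    (hyN : y ∈ Nm N) (u2 : u * u = 1) (u1 : u ≠ 1) (uy : Commute u y)
    (uA : u ∈ A) (uC : u ∈ C) (hA : ∀ n, n ∈ A ↔ n ∈ N ∧ Commute n x)
    (hC : ∀ n, n ∈ C ↔ n ∈ N ∧ Commute n y) (hc : ∀ a ∈ A, Commute a y → a ∈ zpowers u) (cA : Nat.card A = 8)
    (gen : N ≤ A ⊔ C) {q : G} (hq : q ∈ (frattini N).map N.subtype ⊔ zpowers u) (qA : q ∈ A) : q ∈ zpowers u := by
  by_contra nq
  have yu : y ∈ Nm (zpowers u) := (L72.Nm_zpowers u2 y).2 uy.symm
  have le := g2_irr (X := A ⊓ ((frattini N).map N.subtype ⊔ zpowers u)) cA hy u2 u1 uy hc inf_le_left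
    ⟨uA, mem_sup_right (mem_zpowers u)⟩ (inf_normalizer_le_normalizer_inf ⟨g2_nm hxy hyN hA,
      normalizer_inf_normalizer_le_normalizer_sup _ _ ⟨Core.normalizer_le_normalizer_map_frattini N hyN, yu⟩⟩)
    ⟨qA, hq⟩ nq
  have e : C = N := Core.eq_of_le_sup_map_frattini (fun c hc => ((hC c).1 hc).1) (gen.trans (sup_le
    ((le.trans inf_le_right).trans (sup_le le_sup_right ((zpowers_le.2 uC).trans le_sup_left))) le_sup_left))
  exact nq (hc q qA ((hC q).1 (e ▸ ((hA q).1 qA).1)).2)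

/-- two weight spaces of order 8 commute -/
theorem two {N A C : Subgroup G} {u x y : G} (hN : IsPGroup 2 N) (hx : x ^ 3 = 1) (hy : y ^ 3 = 1) (hxy : Commute x y)
    (hxN : x ∈ Nm N) (hyN : y ∈ Nm N) (u2 : u * u = 1) (u1 : u ≠ 1) (ux : Commute u x) (uy : Commute u y)
    (uN : ∀ n ∈ N, Commute u n) (uA : u ∈ A) (uC : u ∈ C) (hA : ∀ n, n ∈ A ↔ n ∈ N ∧ Commute n x)
    (hC : ∀ n, n ∈ C ↔ n ∈ N ∧ Commute n y) (h3 : ∀ n ∈ N, Commute n (x * y) → n ∈ zpowers u)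
    (h4 : ∀ n ∈ N, Commute n (x * y⁻¹) → n ∈ zpowers u) (cA : Nat.card A = 8) (cC : Nat.card C = 8) :
    ∀ a ∈ A, ∀ c ∈ C, Commute a c := by
  have := Fact.mk Nat.prime_two
  have AN : A ≤ N := fun a ha => ((hA a).1 ha).1
  have CN : C ≤ N := fun a ha => ((hC a).1 ha).1
  have hcA : ∀ a ∈ A, Commute a y → a ∈ zpowers u := fun a ha e => h3 a (AN ha) (((hA a).1 ha).2.mul_right e)
  have hcC : ∀ a ∈ C, Commute a x → a ∈ zpowers u := fun a ha e => h3 a (CN ha) (e.mul_right ((hC a).1 ha).2)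
  have uAC : zpowers u ≤ A ⊔ C := (zpowers_le.2 uA).trans le_sup_left
  have gen : N ≤ A ⊔ C := L72.gen9 hN hx hy hxy hxN hyN (fun q hq e => mem_sup_left ((hA q).2 ⟨hq, e⟩))
    (fun q hq e => mem_sup_right ((hC q).2 ⟨hq, e⟩)) (fun q hq e => uAC (h3 q hq e)) fun q hq e => uAC (h4 q hq e)
  have MN : (frattini N).map N.subtype ⊔ zpowers u ≤ N := sup_le (map_subtype_le _) (zpowers_le.2 (AN uA))
  have nM : ∀ g ∈ Nm N, Commute u g → g ∈ Nm ((frattini N).map N.subtype ⊔ zpowers u) := fun g hg e =>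
    normalizer_inf_normalizer_le_normalizer_sup _ _
      ⟨Core.normalizer_le_normalizer_map_frattini N hg, (L72.Nm_zpowers u2 g).2 e.symm⟩
  have hM : (frattini N).map N.subtype ⊔ zpowers u ≤ zpowers u :=
    L72.gen9 (hN.to_le MN) hx hy hxy (nM x hxN ux) (nM y hyN uy)
      (fun q hq e => g2_phi hy hxy hyN u2 u1 uy uA uC hA hC hcA cA gen hq ((hA q).2 ⟨MN hq, e⟩))
      (fun q hq e => g2_phi hx hxy.symm hxN u2 u1 ux uC uA hC hA hcC cC (sup_comm A C ▸ gen) hq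
        ((hC q).2 ⟨MN hq, e⟩))
      (fun q hq e => h3 q (MN hq) e) fun q hq e => h4 q (MN hq) e
  intro a ha c hc
  have cm : ∀ a ∈ A, ¬ Commute a c → c * a * c⁻¹ = u * a := fun a ha hn => by
    have h1 : c * a * c⁻¹ * a⁻¹ ∈ zpowers u := hM (mem_sup_left ⟨_, PGroup.commutator_le_frattini hN 
      (commutator_mem_commutator (mem_top (⟨c, CN hc⟩ : N)) (mem_top (⟨a, AN ha⟩ : N))), rfl⟩)
    rcases g2_zp u2 h1 with e | e
    · rw [mul_inv_eq_one, mul_inv_eq_iff_eq_mul] at e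
      exact (hn e.symm).elim
    · exact mul_inv_eq_iff_eq_mul.1 e
  have cy : Commute c y := ((hC c).1 hc).2
  have yA := g2_nm hxy hyN hA
  by_contra hn
  have ha' := conj_mem_of_mem_normalizer yA ha
  have hn' : ¬ Commute (y * a * y⁻¹) c := fun e => hn (by
    have := (cy.symm.inv_left.mul_left e).mul_left cy.symm
    rwa [show y⁻¹ * (y * a * y⁻¹) * y = a by group] at this)
  have e1 : Commute (a * (y * a * y⁻¹)) c := by
    refine (mul_inv_eq_iff_eq_mul.1 ?_).symm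
    rw [← conj_mul, cm a ha hn, cm _ ha' hn', mul_assoc, ← mul_assoc a, ← (uN a (AN ha)).eq, mul_assoc, ← mul_assoc u,
      u2, one_mul]
  by_cases e2 : a * (y * a * y⁻¹) ∈ zpowers u
  · have e0 : y * (a * (y * a * y⁻¹)) * y⁻¹ = a * (y * a * y⁻¹) := by
      rcases g2_zp u2 e2 with e | e <;> rw [e]
      · group
      · rw [← uy.eq, mul_inv_cancel_right]
    have e3 : Commute (a * (y * a * y⁻¹)) a := by
      rcases g2_zp u2 e2 with e | e <;> rw [e]
      exacts [Commute.one_left a, uN a (AN ha)]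
    have e4 : y * a * y⁻¹ * a = a * (y * a * y⁻¹) := mul_left_cancel (a := a) (by rw [← mul_assoc, e3.eq])
    rw [← conj_mul, ← e4, mul_right_inj] at e0
    have e5 : y * a * y⁻¹ = a := by
      calc y * a * y⁻¹ = y * (y * (y * a * y⁻¹) * y⁻¹) * y⁻¹ := by rw [e0]
        _ = y ^ 3 * a * (y ^ 3)⁻¹ := by simp only [pow_succ, pow_zero, one_mul]; group
        _ = a := by rw [hy]; group
    rcases g2_zp u2 (hcA a ha (mul_inv_eq_iff_eq_mul.1 e5).symm) with e | e <;> rw [e] at hn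
    exacts [hn (Commute.one_left c), hn (uN c (CN hc))]
  · exact hn (mem_Cx.1 (g2_irr (X := A ⊓ Cx c) cA hy u2 u1 uy hcA inf_le_left ⟨uA, mem_Cx.2 (uN c (CN hc))⟩
      (inf_normalizer_le_normalizer_inf ⟨yA, le_normalizer (mem_Cx.2 cy.symm)⟩)
      ⟨mul_mem ha ha', mem_Cx.2 e1⟩ e2 ha).2)

theorem g2_act {D : Subgroup G} (hD : Nat.card D = 8) {u : G} (uD : u ∈ D) (u2 : u * u = 1) (u1 : u ≠ 1) :
    ∃ σ : ↥(Nm D ⊓ Cx u) →* Equiv.Perm (Fin 4), ∀ g, σ g = 1 → ∀ d ∈ D, g * d * (g : G)⁻¹ * d⁻¹ ∈ zpowers u := by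
  let _ : MulAction ↥(Nm D ⊓ Cx u) D :=
    MulAction.compHom D (D.normalizerMonoidHom.comp (inclusion inf_le_left))
  have hs : ∀ (g : ↥(Nm D ⊓ Cx u)) (d : D), ((g • d : D) : G) = g * d * (g : G)⁻¹ := fun _ _ => rfl
  have : MulAction.QuotientAction ↥(Nm D ⊓ Cx u) ((zpowers u).subgroupOf D) := ⟨fun g a a' h => by
    rw [mem_subgroupOf] at h ⊢
    have := conj_mem_of_mem_normalizer ((L72.Nm_zpowers u2 g).2 (mem_Cx.1 g.2.2)) h
    simp only [coe_mul, coe_inv, hs] at this ⊢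
    rwa [show ((g : G) * (a : G) * (g : G)⁻¹)⁻¹ * ((g : G) * (a' : G) * (g : G)⁻¹) =
      g * ((a : G)⁻¹ * (a' : G)) * (g : G)⁻¹ by group]⟩
  have c4 : Nat.card (D ⧸ (zpowers u).subgroupOf D) = 4 := by
    have := card_eq_card_quotient_mul_card_subgroup ((zpowers u).subgroupOf D)
    rw [hD, Nat.card_congr (subgroupOfEquivOfLe (zpowers_le.2 uD)).toEquiv, Nat.card_zpowers, ord_two u2 u1] at this
    omega
  let e := Finite.equivFinOfCardEq c4
  refine ⟨e.permCongrHom.toMonoidHom.comp (MulAction.toPermHom _ _), fun g hg d hd => ?_⟩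
  have h1 : MulAction.toPermHom ↥(Nm D ⊓ Cx u) (D ⧸ (zpowers u).subgroupOf D) g = 1 :=
    e.permCongrHom.injective (hg.trans (map_one _).symm)
  have h2 : g • ((⟨d⁻¹, inv_mem hd⟩ : D) : D ⧸ (zpowers u).subgroupOf D) = (⟨d⁻¹, inv_mem hd⟩ : D) :=
    DFunLike.congr_fun h1 ((⟨d⁻¹, inv_mem hd⟩ : D) : D ⧸ (zpowers u).subgroupOf D)
  rw [MulAction.Quotient.smul_coe, QuotientGroup.eq, mem_subgroupOf] at h2
  simp only [coe_mul, coe_inv, hs] at h2
  rwa [show ((g : G) * d⁻¹ * (g : G)⁻¹)⁻¹ * d⁻¹ = g * d * (g : G)⁻¹ * d⁻¹ by group] at h2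

set_option synthInstance.maxSize 2000 in
theorem g2_s4 : ∀ X : Equiv.Perm (Fin 4), X ^ 3 = 1 → X ≠ 1 → ∀ S, S * X = X * S → ∀ W, W ^ 3 = 1 →
    S * W * S⁻¹ = W⁻¹ → W = 1 := by decide +kernel

theorem aut8 {D : Subgroup G} (hD : Nat.card D = 8) {u x w s : G} (uD : u ∈ D) (u2 : u * u = 1) (u1 : u ≠ 1)
    (uc : ∀ d ∈ D, Commute u d) (ux : Commute u x) (uw : Commute u w) (us : Commute u s) (hx : x ∈ Nm D)
    (hw : w ∈ Nm D) (hs : s ∈ Nm D) (x3 : x ^ 3 = 1) (w3 : w ^ 3 = 1) (sx : Commute s x) (sw : s * w * s⁻¹ = w⁻¹)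
    (hn : ¬ ∀ d ∈ D, Commute d x) : ∀ d ∈ D, Commute d w := by
  have _ := uc
  obtain ⟨σ, hσ⟩ := g2_act hD uD u2 u1
  let x' : ↥(Nm D ⊓ Cx u) := ⟨x, hx, mem_Cx.2 ux.symm⟩
  let w' : ↥(Nm D ⊓ Cx u) := ⟨w, hw, mem_Cx.2 uw.symm⟩
  let s' : ↥(Nm D ⊓ Cx u) := ⟨s, hs, mem_Cx.2 us.symm⟩
  refine fun d hd => g2_cube w3 u2 uw (hσ w' (g2_s4 (σ x') ?_ (fun e => hn fun d hd => ?_) (σ s') ?_ (σ w') ?_ ?_) d hd)
  · rw [← map_pow, show x' ^ 3 = 1 from Subtype.ext x3, map_one]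
  · exact g2_cube x3 u2 ux (hσ x' e d hd)
  · rw [← map_mul, ← map_mul, show s' * x' = x' * s' from Subtype.ext sx]
  · rw [← map_pow, show w' ^ 3 = 1 from Subtype.ext w3, map_one]
  · rw [← map_inv, ← map_mul, ← map_mul, ← map_inv, show s' * w' * s'⁻¹ = w'⁻¹ from Subtype.ext sw]

/-- a group `r × r` (`r ≥ 5`) does not act faithfully on a group of order `3⁵` with a fixed point -/
theorem cnt {Q : Subgroup G} (hQ : Nat.card Q = 243) {r : ℕ} (hr : r.Prime) (h5 : 5 ≤ r) {g k z : G}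
    (hg : orderOf g = r) (hk : orderOf k = r) (hgk : Commute g k) (hn : k ∉ zpowers g) (gQ : g ∈ Nm Q) (kQ : k ∈ Nm Q)
    (zQ : z ∈ Q) (z1 : z ≠ 1) (gz : Commute g z) (kz : Commute k z) :
    ∃ h ∈ closure ({g, k} : Set G), h ≠ 1 ∧ ∀ q ∈ Q, Commute h q := by
  have := Fact.mk hr
  have := Fact.mk Nat.prime_three
  have g1 : g ≠ 1 := fun e => by rw [e, orderOf_one] at hg; omega
  have cm : ∀ a ∈ closure ({g, k} : Set G), ∀ b ∈ closure ({g, k} : Set G), Commute a b := fun a ha b hb => by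
    refine closure_induction₂ (p := fun a b _ _ => Commute a b) ?_ (fun _ _ => Commute.one_left _)
      (fun _ _ => Commute.one_right _) (fun _ _ _ _ _ _ h1 h2 => h1.mul_left h2)
      (fun _ _ _ _ _ _ h1 h2 => h1.mul_right h2) (fun _ _ _ _ h => h.inv_left) (fun _ _ _ _ h => h.inv_right) ha hb
    rintro a b (rfl | rfl) (rfl | rfl)
    exacts [Commute.refl _, hgk, hgk.symm, Commute.refl _]
  have gA : g ∈ closure ({g, k} : Set G) := subset_closure (by simp)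
  have kA : k ∈ closure ({g, k} : Set G) := subset_closure (by simp)
  have ex : ∀ a ∈ closure ({g, k} : Set G), a ^ r = 1 ∧ Commute a z := fun a ha => by
    induction ha using closure_induction with
    | mem a ha =>
      rcases ha with rfl | rfl
      · exact ⟨hg ▸ pow_orderOf_eq_one _, gz⟩
      · exact ⟨hk ▸ pow_orderOf_eq_one _, kz⟩
    | one => exact ⟨one_pow _, Commute.one_left _⟩
    | mul a b ha hb h1 h2 => exact ⟨by rw [(cm a ha b hb).mul_pow, h1.1, h2.1, one_mul], h1.2.mul_left h2.2⟩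
    | inv a _ h => exact ⟨by rw [inv_pow, h.1, inv_one], h.2.inv_left⟩
  have nQ : closure ({g, k} : Set G) ≤ Nm Q := (closure_le _).2 (by rintro _ (rfl | rfl) <;> assumption)
  have : IsMulCommutative (closure ({g, k} : Set G)) := ⟨⟨fun a b => Subtype.ext (cm _ a.2 _ b.2)⟩⟩
  by_contra hne
  push Not at hne
  have pw : ∀ X : Subgroup G, X ≤ Q → ∃ i ≤ 5, Nat.card X = 3 ^ i := fun X hX =>
    (Nat.dvd_prime_pow Nat.prime_three).1 (by have := card_dvd_of_le hX; rwa [hQ] at this)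
  have le : Q ≤ Cx g := Coprime.le_of_forall_centralizer_le (A := closure {g, k}) (fun hc => hn ?_) nQ ?_
    fun a ha a1 => ?_
  · obtain ⟨q, hq, e⟩ := hne g gA g1
    exact e (mem_Cx.1 (le hq)).symm
  · obtain ⟨⟨c, hc⟩, e⟩ := isCyclic_iff_exists_zpowers_eq_top.1 hc
    have e1 : closure ({g, k} : Set G) = zpowers c := by
      rw [← range_subtype (closure _), MonoidHom.range_eq_map, ← e, MonoidHom.map_zpowers]; rfl
    have e2 : zpowers g = zpowers c := eq_of_le_of_card_ge (zpowers_le.2 (e1 ▸ gA)) (by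
      rw [Nat.card_zpowers, Nat.card_zpowers, hg]
      exact Nat.le_of_dvd hr.pos (orderOf_dvd_of_pow_eq_one (ex c hc).1))
    exact e2 ▸ e1 ▸ kA
  · obtain ⟨n, hn⟩ := IsPGroup.iff_card.1 (show IsPGroup r (closure ({g, k} : Set G)) from fun a =>
      ⟨1, Subtype.ext (by simpa using (ex a a.2).1)⟩)
    rw [hn, hQ]
    exact Nat.Coprime.pow n 5 ((Nat.coprime_primes hr Nat.prime_three).2 (by omega))
  · have m1 := C3.card_modEq_cent hr (ex a ha).1 (nQ ha)
    have m2 := C3.card_modEq_cent (R := Q ⊓ Cx a) hr (ex g gA).1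
      (inf_normalizer_le_normalizer_inf ⟨gQ, le_normalizer (mem_Cx.2 (cm g gA a ha))⟩)
    obtain ⟨i, hi, ei⟩ := pw (Q ⊓ Cx a) inf_le_left
    obtain ⟨j, -, ej⟩ := pw (Q ⊓ Cx a ⊓ Cx g) (inf_le_left.trans inf_le_left)
    have i5 : i ≠ 5 := by
      rintro rfl
      obtain ⟨q, hq, e⟩ := hne a ha a1
      exact e (mem_Cx.1 ((eq_of_le_of_card_ge (inf_le_left (a := Q) (b := Cx a)) (by rw [hQ, ei]; rfl)).ge hq).2).symm
    have j0 : j ≠ 0 := by
      rintro rfl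
      exact z1 (mem_bot.1 (card_eq_one.1 ej ▸ (⟨⟨zQ, mem_Cx.2 (ex a ha).2.symm⟩, mem_Cx.2 gz.symm⟩ :
        z ∈ Q ⊓ Cx a ⊓ Cx g)))
    have ji : j ≤ i := (Nat.pow_le_pow_iff_right (by norm_num)).1 (ei ▸ ej ▸ card_le_of_le inf_le_left)
    have e : j = i := by
      change Nat.card Q ≡ Nat.card ↥(Q ⊓ Cx a) [MOD r] at m1
      change Nat.card ↥(Q ⊓ Cx a) ≡ Nat.card ↥(Q ⊓ Cx a ⊓ Cx g) [MOD r] at m2
      rw [hQ, ei] at m1
      rw [ei, ej] at m2
      by_contra hne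
      have d1 := (Nat.modEq_iff_dvd' (show 3 ^ i ≤ 243 from Nat.pow_le_pow_right (by norm_num) hi)).1 m1.symm
      have d2 := (Nat.modEq_iff_dvd' (Nat.pow_le_pow_right (by norm_num) ji)).1 m2.symm
      have d3 : r ∣ 2 ^ 4 * 3 ^ 4 := by
        have i4 : i ≤ 4 := by omega
        have j1 : 1 ≤ j := by omega
        interval_cases i <;> interval_cases j <;> first
          | exact (hne rfl).elim
          | (refine d1.trans ?_; decide)
          | (refine d2.trans ?_; decide)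
      rcases (Nat.Prime.dvd_mul hr).1 d3 with d | d <;> have := Nat.le_of_dvd (by norm_num) (hr.dvd_of_dvd_pow d) <;>
        omega
    exact (eq_of_le_of_card_ge (inf_le_left (a := Q ⊓ Cx a) (b := Cx g)) (by rw [ei, ej, e])).ge.trans inf_le_right

/-- `O(G) = 1` -/
theorem Hy.odd_bot (hy : Hy G) {a b : G} (ha : orderOf a = 2) (hb : orderOf b = 2) (hab : a ≠ b) (hc : Commute a b) :
    Cfsg.oddCore G = ⊥ := by
  have := Fact.mk Nat.prime_two
  have cop := Core.coprime_card_pPrimeCore 2 G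
  have key : ∀ c : G, orderOf c = 2 → Cfsg.oddCore G ⊓ Cx c ≤ ⊥ := fun c hc o ho => by
    obtain ⟨Q, hQ, -, -, nQ, cQ⟩ := hy.exQ (sq_of_ord hc) (ne_one_of_ord hc)
    have dis : ∀ x ∈ Cfsg.oddCore G, x ∈ Q → x = 1 := fun x h1 h2 => by
      obtain ⟨n, hn⟩ := isPGroup_iff_mem.1 hQ x h2
      exact orderOf_eq_one_iff.1 (Nat.eq_one_of_dvd_coprimes (cop.pow_right n) (orderOf_dvd_natCard _ h1)
        (orderOf_dvd_of_pow_eq_one hn))
    refine mem_bot.2 (dis o ho.1 (cQ o ho.2 fun q hq => ?_))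
    have := dis (o * q * o⁻¹ * q⁻¹) (by
      rw [mul_assoc, mul_assoc, ← mul_assoc q]
      exact mul_mem ho.1 (Normal.conj_mem inferInstance _ (inv_mem ho.1) q))
      (mul_mem (conj_mem_of_mem_normalizer (nQ ho.2) hq) (inv_mem hq))
    rwa [mul_inv_eq_one, mul_inv_eq_iff_eq_mul] at this
  refine le_bot_iff.1 (le_of_four (Nat.coprime_two_right.1 cop) ha hb hab hc (by simp [normalizer_eq_top])
    (by simp [normalizer_eq_top]) (key a ha) (key b hb) (key _ (ord_two ?_ fun e => hab ?_)))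
  · rw [mul_assoc, ← mul_assoc b, ← hc.eq, mul_assoc, sq_of_ord hb, mul_one, sq_of_ord ha]
  · rw [← mul_one a, ← sq_of_ord hb, ← mul_assoc, e, one_mul]

end CfsgLib.S86
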