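import Cfsg.Agent.Lib.S86.Fis
import Cfsg.Agent.Lib.S86.Fus
import Cfsg.Agent.Lib.S86.Gen2
import Cfsg.Agent.S2902
import Cfsg.Agent.Lib.Comp.FStar
import Cfsg.Agent.Lib.Symp.Basic

/-! Case `Sp₈(2)`: the end (project S86, see plans/S86.md). -/

set_option autoImplicit false
set_option maxRecDepth 100000
set_option Elab.async false
set_option linter.unusedSectionVars false

namespace CfsgLib.S86

open Subgroup CfsgLib.W2 CfsgLib.Tech CfsgLib.PComp CfsgLib.Rec3C CfsgLib.Rec3C.V4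
open CfsgLib.Rec3B (V81)
open CfsgLib.L72 (Nm IsQ Oc)

variable {G : Type*} [Group G] [Finite G]

theorem holt_card_alt (k : ℕ) :
    Nat.card (alternatingGroup (Fin k)) ≤ 1814400 ∨ 11 ∣ Nat.card (alternatingGroup (Fin k)) := by
  by_cases h2 : k < 2
  · left
    have h1 : Nat.card (alternatingGroup (Fin k)) ≤ Nat.card (Equiv.Perm (Fin k)) :=
      Nat.card_le_card_of_injective _ Subtype.val_injective
    rw [Nat.card_perm, Nat.card_eq_fintype_card (α := Fin k), Fintype.card_fin] at h1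
    have h3 : k.factorial ≤ Nat.factorial 1 := Nat.factorial_le (by omega)
    have h4 : Nat.factorial 1 = 1 := rfl
    omega
  · have : Nontrivial (Fin k) := Fin.nontrivial_iff_two_le.2 (by omega)
    have h1 := two_mul_nat_card_alternatingGroup (α := Fin k)
    rw [Nat.card_perm, Nat.card_eq_fintype_card (α := Fin k), Fintype.card_fin] at h1
    by_cases h11 : k ≤ 10
    · left
      have h3 : k.factorial ≤ Nat.factorial 10 := Nat.factorial_le h11
      have h4 : Nat.factorial 10 = 3628800 := rfl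
      omega
    · right
      have h3 : 11 ∣ k.factorial := Nat.dvd_factorial (by norm_num) (by omega)
      rw [← h1] at h3
      exact (Nat.Coprime.dvd_of_dvd_mul_left (by norm_num) h3)

theorem holt_sp : Nonempty (Matrix.symplecticGroup (Fin 4) (ZMod 2) ≃* Cfsg.PSp 4 (ZMod 2)) :=
  ⟨((QuotientGroup.quotientMulEquivOfEq
    (CfsgLib.Symp.center_eq_bot_of_two_eq_zero (m := 4) (F := ZMod 2) (by decide))).trans
    QuotientGroup.quotientBot).symm⟩

theorem holt_r : r3 * r3 = 1 ∧ r3 ≠ 1 ∧ r4 * r4 = 1 ∧ r4 ≠ 1 ∧ r3 * r4 = r4 * r3 ∧ r3 * r4 * (r3 * r4) = 1 ∧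
    r3 * r4 ≠ 1 := by decide +kernel

theorem case_one (hy : Hy G) {ι : N4 → G} {φ : SM →* G} {T : Subgroup G} {ψ : E64 →* G} {ρ : G → SM}
    (h : CI ι φ T ψ ρ) : Nonempty (G ≃* Cfsg.PSp 4 (ZMod 2)) := by
  obtain ⟨e0⟩ := iso_G0 hy h
  obtain ⟨e1⟩ := holt_sp
  obtain ⟨a1, a2, a3, a4, a5, a6, a7⟩ := holt_r
  obtain ⟨-, -, m3, m4, -⟩ := mem_M4
  have o3 := h.toFr.ord_nl m3 a1 a2
  have o4 := h.toFr.ord_nl m4 a3 a4
  have o34 := h.toFr.ord_nl (mul_mem m3 m4) a6 a7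
  rw [h.toFr.nl_mul m3 m4] at o34
  have hne : ι (nl r3) ≠ ι (nl r4) := by
    intro e
    rw [e, ← pow_two, ← o4, pow_orderOf_eq_one, orderOf_one] at o34
    omega
  have hO := hy.odd_bot o3 o4 hne ((h.toFr.comm_nl m3 m4).2 a5)
  have cG := card_G0 h
  have cH := card_H h
  have hle := (H_le_G0 h).1
  have hfus := fun d => @fus_H G _ _ ι φ T ψ ρ h d
  have hDL := fun d => @DL_iff G _ _ ι φ T ψ ρ h d
  generalize ι (nl r4) = t at *
  generalize G0 ι = P at *
  have tH : t ∈ Cx t := mem_Cx.2 rfl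
  have e : P ≃* Cfsg.PSp 4 (ZMod 2) := e0.trans e1
  have hs0 : IsSimpleGroup (Cfsg.PSp 4 (ZMod 2)) := CfsgLib.Symp.isSimpleGroup_PSp (by omega) (by omega)
  have hs : IsSimpleGroup P := e.isSimpleGroup
  have hna : ¬ IsMulCommutative P := by
    intro hc
    have h1 : P ≤ Cx t := fun g hg => mem_Cx.2
      (congrArg Subtype.val (hc.is_comm.comm (⟨g, hg⟩ : P) ⟨t, hle tH⟩))
    have := card_le_of_le h1
    omega
  have hF : Cfsg.generalizedFittingSubgroup P = ⊤ :=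
    eq_top_iff.2 ((Comp.layer_eq_top_of_qs (Comp.qs_of_isSimpleGroup hna)).ge.trans le_sup_left)
  have eT : (⊤ : Subgroup P) ≃* P := topEquiv
  have hi : (Cx t).relIndex P = 255 := by
    have := card_mul_relIndex' hle
    rw [cH, cG] at this
    omega
  have p2 : ∀ d : G, orderOf d = 2 → IsPGroup 2 (zpowers d) := fun d hd =>
    IsPGroup.of_card (n := 1) (by rw [Nat.card_zpowers, hd, pow_one])
  obtain ⟨S, hS, htS⟩ := exists_isSylowIn_ge (p2 t o4) (zpowers_le.2 tH)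
  have hSP : IsSylowIn 2 S P := hS.trans hle (by rw [hi]; norm_num)
  have key := Cfsg.Agent.S2902.result hO P (hF ▸ eT.isSimpleGroup) ?_ ?_ ⟨t, hle tH⟩ (hF ▸ mem_top _) ?_ hle ?_
  · rw [hF, ← MonoidHom.range_eq_map, range_subtype] at key
    have hN : P.Normal := key ▸ Comp.fstar_normal
    have hP : P = ⊤ := by
      refine eq_top_iff.2 fun g _ => ?_
      have h1 : g * t * g⁻¹ ∈ P := hN.conj_mem t (hle tH) g
      obtain ⟨k, hk, hk'⟩ := hSP.exists_conj_mem h1 (p2 _ (by rw [← o4]; exact (MulAut.conj g).orderOf_eq t))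
      have h2 := hfus (k * (g * t * g⁻¹) * k⁻¹) (isConj_iff.2 ⟨k * g, by group⟩) (hS.le hk')
      obtain ⟨l, hl, hl'⟩ := (hDL _).1 h2
      have h3 : l⁻¹ * k * g ∈ Cx t := mem_Cx'.2 (by
        calc l⁻¹ * k * g * t * (l⁻¹ * k * g)⁻¹ = l⁻¹ * (k * (g * t * g⁻¹) * k⁻¹) * l := by group
          _ = t := by rw [← hl']; group)
      have h4 : k⁻¹ * l * (l⁻¹ * k * g) ∈ P := mul_mem (mul_mem (inv_mem hk) hl) (hle h3)
      have h5 : k⁻¹ * l * (l⁻¹ * k * g) = g := by group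
      rwa [h5] at h4
    subst hP
    exact ⟨topEquiv.symm.trans e⟩
  · rw [hF]
    intro hc
    refine hna ⟨⟨fun a b => ?_⟩⟩
    exact congrArg Subtype.val (hc.is_comm.comm (⟨a, mem_top _⟩ : (⊤ : Subgroup P)) ⟨b, mem_top _⟩)
  · rw [hF]
    rintro k ⟨f⟩
    have h1 : Nat.card P = Nat.card (alternatingGroup (Fin k)) := Nat.card_congr (eT.symm.trans f).toEquiv
    rcases holt_card_alt k with h2 | h2
    · omega
    · rw [← h1, cG] at h2
      norm_num at h2
  · refine ⟨?_, hSP.toSylow, htS (mem_zpowers t), fun x hx => Subtype.ext (mem_Cx.1 (hS.le hx))⟩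
    rw [← o4]
    exact (orderOf_injective P.subtype P.subtype_injective _).symm
  · intro g hg
    obtain ⟨k, hk, hk'⟩ := hSP.exists_conj_mem hg (p2 _ (by rw [← o4]; exact (MulAut.conj g).orderOf_eq t))
    have h2 := hfus (k * (g * t * g⁻¹) * k⁻¹) (isConj_iff.2 ⟨k * g, by group⟩) (hS.le hk')
    obtain ⟨l, hl, hl'⟩ := (hDL _).1 h2
    refine ⟨⟨k⁻¹ * l, mul_mem (inv_mem hk) hl⟩, hF ▸ mem_top _, ?_⟩
    show k⁻¹ * l * t * (k⁻¹ * l)⁻¹ = g * t * g⁻¹
    calc k⁻¹ * l * t * (k⁻¹ * l)⁻¹ = k⁻¹ * (l * t * l⁻¹) * k := by group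
      _ = _ := by rw [hl']; group

end CfsgLib.S86
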