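import Cfsg.Agent.Lib.S86.FrA
import Cfsg.Agent.Lib.S86.MD
import Cfsg.Agent.Lib.S86.Gen2

/-! Case `F₄(2)`: `O₂(C(t12))` (project S86, see plans/S86.md). -/

set_option autoImplicit false
set_option maxRecDepth 100000
set_option Elab.async false
set_option linter.unusedSectionVars false

namespace CfsgLib.S86

open Subgroup CfsgLib.W2 CfsgLib.Tech CfsgLib.PComp CfsgLib.Rec3C CfsgLib.Rec3C.V4
open CfsgLib.Rec3B (V81)
open CfsgLib.L72 (Nm IsQ Oc)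

variable {G : Type*} [Group G] [Finite G]

variable {Γ : Subgroup GO} {ι : N4 → G} {φ : SM →* G}

namespace II1

theorem nm_cm {N : Subgroup G} {k m : SM} (hk : φ k ∈ Nm N) (hc : Commute k m) : k ∈ Nm (N.comap φ ⊓ Cx m) :=
  mem_normalizer_of_forall fun x hx => ⟨by
    have := conj_mem_of_mem_normalizer hk hx.1
    rwa [← map_inv, ← map_mul, ← map_mul] at this,
    (Cx m).mul_mem ((Cx m).mul_mem (mem_Cx.2 hc) hx.2) ((Cx m).inv_mem (mem_Cx.2 hc))⟩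

theorem nm_cm' {N : Subgroup G} {K : Subgroup SM} {k : SM} (hk : φ k ∈ Nm N) (hc : k ∈ Nm K) :
    k ∈ Nm (N.comap φ ⊓ K) :=
  mem_normalizer_of_forall fun x hx => ⟨by
    have := conj_mem_of_mem_normalizer hk hx.1
    rwa [← map_inv, ← map_mul, ← map_mul] at this, conj_mem_of_mem_normalizer hc hx.2⟩

theorem nm_map {K : Subgroup SM} {k : SM} (hc : k ∈ Nm K) : φ k ∈ Nm (K.map φ) :=
  mem_normalizer_of_forall (by
    rintro _ ⟨x, hx, rfl⟩
    exact ⟨_, conj_mem_of_mem_normalizer hc hx, by rw [map_mul, map_mul, map_inv]⟩)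

theorem nm_of_comm {N : Subgroup G} {g : G} (h : ∀ n ∈ N, Commute n g) : g ∈ Nm N :=
  mem_normalizer_of_forall fun n hn => by rwa [← (h n hn).eq, mul_inv_cancel_right]

/-- `v` lies in the span of `p` and `q` -/
def Sp (p q v : V81) : Prop := ∃ i j : Fin 3, v = p ^ i.1 * q ^ j.1

noncomputable instance (p q v : V81) : Decidable (Sp p q v) := by unfold Sp; infer_instance

/-- `w` lies in `C(t12) ∩ W(F₄)` -/
def CW (w : GO) : Prop := w ∈ WF4 ∧ w * t12 = t12 * w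

noncomputable instance (w : GO) : Decidable (CW w) := by unfold CW; infer_instance

/-- the planes with trivial signalizer -/
def T2 (p q : V81) : Prop :=
  ∃ w ∈ [1, t34, sb, sc, sb * t34, sc * t34], CW w ∧ Sp p q (act w x4) ∧ Sp p q (act w cc)

noncomputable instance (p q : V81) : Decidable (T2 p q) := by unfold T2; infer_instance

theorem sp_comm (h : Fr Γ ι φ) {g : G} {p q v : V81} (hp : Commute g (ι (nv p))) (hq : Commute g (ι (nv q)))
    (hv : Sp p q v) : Commute g (ι (nv v)) := by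
  obtain ⟨i, j, rfl⟩ := hv
  rw [← h.ev_apply, map_mul, map_pow, map_pow]
  exact (hp.pow_right _).mul_right (hq.pow_right _)

theorem vmul (h : Fr Γ ι φ) (u v : V81) : ι (nv (u * v)) = ι (nv u) * ι (nv v) := h.ev.map_mul u v

theorem vinv (h : Fr Γ ι φ) (u : V81) : ι (nv u⁻¹) = (ι (nv u))⁻¹ := h.ev.map_inv u

theorem vcomm (h : Fr Γ ι φ) (u v : V81) : Commute (ι (nv u)) (ι (nv v)) :=
  Commute.map (show Commute u v from Rec3B.W4.V_comm u v) h.ev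

theorem vcube (h : Fr Γ ι φ) (u : V81) : ι (nv u) ^ 3 = 1 := by
  rw [← h.ev_apply, ← map_pow, pow_succ, pow_two, Rec3B.W4.V_cube, map_one]

theorem nmE (h : Fr Γ ι φ) {N : Subgroup G} (hc : ι (nv cc) ∈ Nm N) (h3 : ι (nv x3) ∈ Nm N) (h4 : ι (nv x4) ∈ Nm N)
    {v : V81} (hv : act t12 v = v) : ι (nv v) ∈ Nm N := by
  obtain ⟨i, j, k, rfl⟩ := (by decide +kernel : ∀ v : V81, act t12 v = v →
    ∃ i j k : Fin 3, v = cc ^ i.1 * x3 ^ j.1 * x4 ^ k.1) v hv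
  rw [← h.ev_apply, map_mul, map_mul, map_pow, map_pow, map_pow]
  exact mul_mem (mul_mem (pow_mem hc _) (pow_mem h3 _)) (pow_mem h4 _)

theorem fixE {w : GO} (hw : CW w) {v : V81} (hv : act t12 v = v) : act t12 (act w v) = act w v := by
  rw [← mul_act, ← hw.2, mul_act, hv]

theorem map_cjh (g : G) (K : Subgroup SM) : K.map (cjh g φ) = cj g (K.map φ) := (map_map _ _ _).symm

theorem s12V : s12 ∈ Vs := subset_closure (by simp)

theorem πF (h : Fr Γ ι φ) : zpowers (ι (nl t12)) ≤ Vs.map φ :=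
  zpowers_le.2 (h.w12 ▸ mem_map_of_mem φ s12V)

theorem cwπ (h : Fr Γ ι φ) (wf : WF4 ≤ Γ) {w : GO} (hw : CW w) : ι (nl w) ∈ Cx (ι (nl t12)) :=
  mem_Cx.2 ((h.comm_nl (wf hw.1) (h.m4 mem_M4.2.2.2.2.1)).2 hw.2)

theorem cwv (h : Fr Γ ι φ) {v : V81} (hv : act t12 v = v) : ι (nv v) ∈ Cx (ι (nl t12)) :=
  mem_Cx.2 ((h.comm_ev (h.m4 mem_M4.2.2.2.2.1) v).2 hv).symm

end II1

open II1

/-- the bounds for the planes through `x4` -/
theorem Fr.plane (h : Fr Γ ι φ) {N : Subgroup G} (hN : (Nat.card N).Coprime 3) (hπ : N ≤ Cx (ι (nl t12)))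
    (hc : ι (nv cc) ∈ Nm N) (h3 : ι (nv x3) ∈ Nm N) (h4 : ι (nv x4) ∈ Nm N) {q : G} (hq : q ∈ N)
    (hb : Commute q (ι (nv x4))) : (Commute q (ι (nv x3)) → q ∈ Vs.map φ) ∧
      (Commute q (ι (nv cc)) → q ∈ zpowers (ι (nl t12))) ∧ (Commute q (ι (nv zz)) → q ∈ Q0.map φ) := by
  have _ := h4
  obtain ⟨m, rfl⟩ := h.cent' hb (hN.coprime_dvd_left (orderOf_dvd_natCard N hq))
  obtain ⟨-, -, -, -, ec, -, ez, -⟩ := h.vals
  have inj := h.ch.inj
  have cp : ∀ k, (Nat.card (N.comap φ ⊓ Cx k : Subgroup SM)).Coprime 3 := fun k =>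
    hN.coprime_dvd_left ((card_dvd_of_le inf_le_left).trans (card_comap_dvd_of_injective N φ inj))
  have le : ∀ k, N.comap φ ⊓ Cx k ≤ Cx s12 ⊓ Cx k := fun k => inf_le_inf_right _ fun x hx =>
    mem_Cx.2 (inj (by rw [map_mul, map_mul, ← h.w12]; exact mem_Cx.1 (hπ hx)))
  have mem : ∀ k, Commute (φ m) (φ k) → m ∈ N.comap φ ⊓ Cx k := fun k e =>
    ⟨hq, mem_Cx.2 (inj (by rw [map_mul, map_mul]; exact e))⟩
  rw [ec] at hc
  rw [h.v3] at h3
  rw [h.v3, ec, ez, h.w12]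
  refine ⟨fun e => mem_map_of_mem φ (mw1 (cp _) (le _) (nm_cm hc (by decide +kernel)) (mem _ e)), fun e => ?_,
    fun e => mem_map_of_mem φ (mw3 (cp _) (le _) (mem _ e))⟩
  rw [← MonoidHom.map_zpowers]
  exact mem_map_of_mem φ (mw2 (cp _) (le _) (nm_cm h3 (by decide +kernel)) (mem _ e))

namespace II1

section
variable (h : Fr Γ ι φ) (wf : WF4 ≤ Γ) {N : Subgroup G} (hN : (Nat.card N).Coprime 3) (hπ : N ≤ Cx (ι (nl t12)))
  (hc : ι (nv cc) ∈ Nm N) (h3 : ι (nv x3) ∈ Nm N) (h4 : ι (nv x4) ∈ Nm N)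
include h wf hN hπ hc h3 h4

theorem planeW {w : GO} (hw : CW w) {q : G} (hq : q ∈ N) (hb : Commute q (ι (nv (act w x4)))) :
    (Commute q (ι (nv (act w x3))) → q ∈ cj (ι (nl w)) (Vs.map φ)) ∧
      (Commute q (ι (nv (act w cc))) → q ∈ zpowers (ι (nl t12))) ∧
      (Commute q (ι (nv (act w zz))) → q ∈ cj (ι (nl w)) (Q0.map φ)) := by
  have e : Rec3C.twb ι w (nl t12) = ι (nl t12) := by rw [twb_nl, hw.2, mul_inv_cancel_right]
  have k : ∀ v, act t12 v = v → Rec3C.twb ι w (nv v) ∈ Nm N := fun v hv => by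
    rw [twb_nv]; exact nmE h hc h3 h4 (fixE hw hv)
  have := (h.twb (wf hw.1)).plane hN (e ▸ hπ) (k _ (by decide +kernel)) (k _ (by decide +kernel))
    (k _ (by decide +kernel)) hq (by rwa [twb_nv])
  rwa [e, twb_nv, twb_nv, twb_nv, map_cjh, map_cjh] at this

theorem ty2 {p r : V81} (ht : T2 p r) {q : G} (hq : q ∈ N) (hp : Commute q (ι (nv p))) (hr : Commute q (ι (nv r))) :
    q ∈ zpowers (ι (nl t12)) := by
  obtain ⟨w, -, hw, a, b⟩ := ht
  exact (planeW h wf hN hπ hc h3 h4 hw hq (sp_comm h hp hr a)).2.1 (sp_comm h hp hr b)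

end

end II1

theorem genII (h : Fr Γ ι φ) (wf : WF4 ≤ Γ) {N D : Subgroup G} (hN : (Nat.card N).Coprime 3) (hπ : N ≤ Cx (ι (nl t12)))
    (hc : ι (nv cc) ∈ Nm N) (h3 : ι (nv x3) ∈ Nm N) (h4 : ι (nv x4) ∈ Nm N)
    (hF : ∀ w ∈ [1, sb, sc], N ⊓ cj (ι (nl w)) (Vs.map φ) ≤ D)
    (hD : ∀ w ∈ [1, r3, t34, r4 * t34], N ⊓ cj (ι (nl w)) (Q0.map φ) ≤ D) : N ≤ D := by
  refine gen27 hN (vcube h cc) (vcube h x3) (vcube h x4) (vcomm h _ _) (vcomm h _ _) (vcomm h _ _) hc h3 h4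
    fun p hp q hq q1 q2 => ?_
  have e : pl13 (ι (nv cc)) (ι (nv x3)) (ι (nv x4)) = (pl13 cc x3 x4).map fun p => (ι (nv p.1), ι (nv p.2)) := by
    simp only [pl13, List.map_cons, List.map_nil, vmul h, vinv h]
  rw [e, List.mem_map] at hp
  obtain ⟨p, hp, rfl⟩ := hp
  rcases (by decide +kernel : ∀ p ∈ pl13 cc x3 x4,
      (∃ w ∈ [1, sb, sc], CW w ∧ Sp p.1 p.2 (act w x4) ∧ Sp p.1 p.2 (act w x3)) ∨
      (∃ w ∈ [1, r3, t34, r4 * t34], CW w ∧ Sp p.1 p.2 (act w x4) ∧ Sp p.1 p.2 (act w zz)) ∨ T2 p.1 p.2) p hp with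
    ⟨w, hw, cw, a, b⟩ | ⟨w, hw, cw, a, b⟩ | ht
  · exact hF w hw ⟨hq, (planeW h wf hN hπ hc h3 h4 cw hq (sp_comm h q1 q2 a)).1 (sp_comm h q1 q2 b)⟩
  · exact hD w hw ⟨hq, (planeW h wf hN hπ hc h3 h4 cw hq (sp_comm h q1 q2 a)).2.2 (sp_comm h q1 q2 b)⟩
  · refine hF 1 (by simp) ⟨hq, ?_⟩
    rw [map_one, h.one, cj_one]
    exact πF h (ty2 h wf hN hπ hc h3 h4 ht hq q1 q2)

theorem cz_le (h : Fr Γ ι φ) {N : Subgroup G} (wf : WF4 ≤ Γ) (hN : (Nat.card N).Coprime 3)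
    (hπ : N ≤ Cx (ι (nl t12)) ⊓ Cx (ι (nv zz))) (h3 : ι (nv x3) ∈ Nm N) (h4 : ι (nv x4) ∈ Nm N) : N ≤ Q0.map φ := by
  have hz : ∀ q ∈ N, Commute q (ι (nv zz)) := fun q hq => mem_Cx.1 (hπ hq).2
  have hc : ι (nv cc) ∈ Nm N := by
    rw [show cc = zz * x3⁻¹ by decide +kernel, vmul h, vinv h]
    exact mul_mem (nm_of_comm hz) (inv_mem h3)
  have hπ' := hπ.trans inf_le_left
  have πQ : zpowers (ι (nl t12)) ≤ Q0.map φ := zpowers_le.2 (h.w12 ▸ mem_map_of_mem φ (mem_Q0.2 (by simp)))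
  refine gen9' hN (vcube h x4) (vcube h x3) (vcomm h _ _) h4 h3
    (fun q hq e => (h.plane hN hπ' hc h3 h4 hq e).2.2 (hz q hq)) (fun q hq e => ?_) (fun q hq e => ?_) fun q hq e => ?_
  · exact πQ (ty2 h wf hN hπ' hc h3 h4 (by decide +kernel) hq e (hz q hq))
  · rw [← vmul h] at e
    exact πQ (ty2 h wf hN hπ' hc h3 h4 (by decide +kernel) hq e (hz q hq))
  · rw [← vinv h, ← vmul h] at e
    exact πQ (ty2 h wf hN hπ' hc h3 h4 (by decide +kernel) hq e (hz q hq))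

namespace II1

theorem cj_comm {g a c : G} (h : Commute (g⁻¹ * a * g) c) : Commute a (g * c * g⁻¹) := by
  have := h.map (MulAut.conj g)
  simpa [mul_assoc] using this

/-- `F` centralises the four quaternion groups -/
theorem cFD (h : Fr Γ ι φ) {w : GO} (hw : w ∈ [1, r3, t34, r4 * t34]) {d : G} (hd : d ∈ cj (ι (nl w)) (Q0.map φ))
    {f : G} (hf : f ∈ Vs.map φ) : Commute d f := by
  obtain ⟨m, hm, rfl⟩ := hf
  have e : Commute (ι (nl w)) (φ m) := by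
    obtain ⟨p, -, rfl⟩ := mem_Vs.1 hm
    obtain ⟨-, -, a3, a4, a34⟩ := h.ks.ce p
    simp only [List.mem_cons, List.not_mem_nil, or_false] at hw
    rcases hw with rfl | rfl | rfl | rfl
    · rw [map_one, h.one]; exact Commute.one_left _
    · exact (mem_Cx.1 a3).symm
    · exact (mem_Cx.1 a34).symm
    · rw [h.nl_mul (h.m4 mem_M4.2.2.2.1) (h.m4 mem_M4.2.2.2.2.2.2.2.1)]
      exact Commute.mul_left (mem_Cx.1 a4).symm (mem_Cx.1 a34).symm
  obtain ⟨q, hq, eq⟩ := mem_cj.1 hd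
  have := cj_comm (eq ▸ (((Vs_facts m hm).2.2.2.2.2.2 q hq).map φ).symm)
  rwa [e.eq, mul_inv_cancel_right] at this

theorem cπ (h : Fr Γ ι φ) {g : G} (hg : g ∈ zpowers (ι (nl t12))) {c : G} (hc : c ∈ Cx (ι (nl t12))) : Commute g c := by
  have _ := h
  obtain ⟨n, rfl⟩ := hg
  exact (Commute.zpow_right (mem_Cx.1 hc) n).symm

/-- transport of a bound along an element of `C(π)` -/
theorem cj_bd {π c : G} {Q K : Subgroup G} (hc : c ∈ Cx π) (hQ : c ∈ Nm Q) (hb : Q ⊓ K ≤ zpowers π) :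
    Q ⊓ cj c K ≤ zpowers π := fun g hg => by
  obtain ⟨n, hn⟩ := hb ⟨conj_mem_of_mem_normalizer' hQ hg.1, mem_cj.1 hg.2⟩
  refine ⟨n, ?_⟩
  have e := (Commute.zpow_right (mem_Cx.1 hc) n).eq
  simp only at hn ⊢
  calc π ^ n = c * π ^ n * c⁻¹ := by rw [e, mul_inv_cancel_right]
    _ = g := by rw [hn]; group

theorem cj_le {c : G} {Q K : Subgroup G} (hQ : c ∈ Nm Q) (hK : K ≤ Q) : cj c K ≤ Q :=
  cj_le_iff.2 fun _ hx => conj_mem_of_mem_normalizer hQ (hK hx)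

end II1

/-- the structure of `O₂(C(t12))` -/
theorem exists_QII (hy : Hy G) (h : Fr Γ ι φ) (wf : WF4 ≤ Γ) : ∃ Q : Subgroup G, IsPGroup 2 Q ∧ Q ≤ Cx (ι (nl t12)) ∧
    Cx (ι (nl t12)) ≤ Nm Q ∧ Q0.map φ ≤ Q ∧
    (∀ g, (g ∈ Q ∧ ∀ q ∈ Q, Commute g q) ↔
      g ∈ Vs.map φ ⊔ cj (ι (nl sb)) (Vs.map φ) ⊔ cj (ι (nl sc)) (Vs.map φ)) ∧
    ∀ N : Subgroup G, (Nat.card N).Coprime 3 → N ≤ Cx (ι (nl t12)) → ι (nv cc) ∈ Nm N → ι (nv x3) ∈ Nm N →
      ι (nv x4) ∈ Nm N → N ≤ Q := by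
  have inj := h.ch.inj
  have π2 : ι (nl t12) * ι (nl t12) = 1 := by rw [h.w12, ← map_mul, Q0_vals.2.2.2.2.1, map_one]
  have π1 : ι (nl t12) ≠ 1 := by rw [h.w12]; exact fun e => Q0_vals.2.2.2.2.2 (inj (e.trans φ.map_one.symm))
  obtain ⟨Q, Q2, πQ, Qπ, nQ, cQ⟩ := hy.exQ π2 π1
  obtain ⟨-, -, -, -, ec, -, ez, -⟩ := h.vals
  have hQ := cop_two Q2
  have nv' : ∀ v, act t12 v = v → ι (nv v) ∈ Nm Q := fun v hv => nQ (cwv h hv)
  have hc := nv' cc (by decide +kernel)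
  have h3 := nv' x3 (by decide +kernel)
  have h4 := nv' x4 (by decide +kernel)
  have cF : ∀ w ∈ [1, sb, sc], CW w := by decide +kernel
  have cD : ∀ w ∈ [1, r3, t34, r4 * t34], CW w := by decide +kernel
  have c1 : ∀ K : Subgroup G, cj (ι (nl 1)) K = K := fun K => by rw [map_one, h.one, cj_one]
  have Fπ : Vs.map φ ≤ Cx (ι (nl t12)) := by
    rintro _ ⟨m, hm, rfl⟩
    rw [h.w12]; exact mem_Cx.2 ((Vs_facts m hm).2.1.map φ)
  have Dπ : Q0.map φ ≤ Cx (ι (nl t12)) := by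
    rintro _ ⟨m, hm, rfl⟩
    rw [h.w12]; exact mem_Cx.2 ((Q0_facts m hm).2.1.map φ)
  have bd : ∀ K : Subgroup SM, Q.comap φ ⊓ K ≤ zpowers s12 → Q ⊓ K.map φ ≤ zpowers (ι (nl t12)) := by
    rintro K hK _ ⟨a, m, hm, rfl⟩
    rw [h.w12, ← MonoidHom.map_zpowers]
    exact mem_map_of_mem φ (hK ⟨a, hm⟩)
  have mc : ∀ {K : Subgroup G} {g : G}, g ∈ centralizer (K : Set G) ↔ ∀ k ∈ K, Commute g k := fun {K g} =>
    mem_centralizer_iff.trans ⟨fun a k hk => (a k hk).symm, fun a k hk => (a k hk).symm⟩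
  have FQ : Vs.map φ ≤ Q := by
    rcases irr_Vs (N := Q.comap φ ⊓ Vs) inf_le_right (nm_cm' (ec ▸ hc) c0_nVs) with e | e
    · have := genII h wf (D := centralizer (Vs.map φ : Set G)) hQ Qπ hc h3 h4
        (fun w hw g hg => mc.2 fun f hf =>
          cπ h (cj_bd (cwπ h wf (cF w hw)) (nQ (cwπ h wf (cF w hw))) (bd _ e) hg) (Fπ hf))
        fun w hw g hg => mc.2 fun f hf => cFD h hw hg.2 hf
      exact fun f hf => cQ f (Fπ hf) fun q hq => (mc.1 (this hq) f hf).symm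
    · exact map_le_iff_le_comap.2 (e.trans (sup_le inf_le_left (zpowers_le.2 (show φ s12 ∈ Q from h.w12 ▸ πQ))))
  have memF : ∀ w, CW w → ∀ u v : V81, Sp u v (act w x3) → Sp u v (act w x4) → Sp (act w x3) (act w x4) u →
      Sp (act w x3) (act w x4) v → ∀ g, g ∈ cj (ι (nl w)) (Vs.map φ) ↔
        g ∈ Q ⊓ Cx (ι (nv u)) ∧ Commute g (ι (nv v)) := by
    intro w cw u v s1 s2 s3 s4 g
    refine ⟨fun hg => ?_, fun ⟨⟨a, b⟩, c⟩ => (planeW h wf hQ Qπ hc h3 h4 cw a (sp_comm h (mem_Cx.1 b) c s2)).1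
      (sp_comm h (mem_Cx.1 b) c s1)⟩
    obtain ⟨m, hm, em⟩ := mem_cj.1 hg
    have a3 : Commute g (ι (nv (act w x3))) := by
      rw [← show _ = ι (nv (act w x3)) from h.conj_ev (nl_mem (wf cw.1)) x3]
      exact cj_comm (by rw [← em, h.v3]; exact (Vs_facts m hm).2.2.1.map φ)
    have a4 : Commute g (ι (nv (act w x4))) := by
      rw [← show _ = ι (nv (act w x4)) from h.conj_ev (nl_mem (wf cw.1)) x4]
      exact cj_comm (by rw [← em]; exact (h.ch.comm m).symm)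
    exact ⟨⟨cj_le (nQ (cwπ h wf cw)) FQ hg, mem_Cx.2 (sp_comm h a3 a4 s3)⟩, sp_comm h a3 a4 s4⟩
  have cardF : ∀ c, Nat.card (cj c (Vs.map φ)) = 8 := fun c => by
    rw [card_cj, card_map_of_injective inj, card_Vs]
  have πcj : ∀ w, CW w → ι (nl t12) ∈ cj (ι (nl w)) (Vs.map φ) := fun w cw => by
    rw [← mem_Cx'.1 (cwπ h wf cw), conj_mem_cj]; exact πF h (mem_zpowers _)
  have tw : ∀ w, CW w → ∀ u v : V81, act t12 u = u → act t12 v = v → (Sp u v (act 1 x3) ∧ Sp u v (act 1 x4) ∧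
      Sp (act 1 x3) (act 1 x4) u ∧ Sp (act 1 x3) (act 1 x4) v) → (Sp u cc (act w x3) ∧ Sp u cc (act w x4) ∧
      Sp (act w x3) (act w x4) u ∧ Sp (act w x3) (act w x4) cc) → T2 u (v * cc) → T2 u (v * cc⁻¹) →
      ∀ a ∈ Vs.map φ, ∀ c ∈ cj (ι (nl w)) (Vs.map φ), Commute a c := by
    intro w cw u v hu hv s s' u1 u2
    have nm : ∀ y, act t12 y = y → ι (nv y) ∈ Nm (Q ⊓ Cx (ι (nv u))) := fun y hy =>
      mem_normalizer_of_forall fun x hx => ⟨conj_mem_of_mem_normalizer (nv' y hy) hx.1,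
        (Cx _).mul_mem ((Cx _).mul_mem (mem_Cx.2 (vcomm h y u)) hx.2) ((Cx _).inv_mem (mem_Cx.2 (vcomm h y u)))⟩
    have := two (N := Q ⊓ Cx (ι (nv u))) (Q2.to_le inf_le_left) (vcube h v) (vcube h cc) (vcomm h v cc) (nm v hv)
      (nm cc (by decide +kernel)) π2 π1 (mem_Cx.1 (cwv h hv)).symm (mem_Cx.1 (cwv h (by decide +kernel))).symm
      (fun n hn => (mem_Cx.1 (Qπ hn.1)).symm) (πcj 1 (cF 1 (by simp))) (πcj w cw)
      (memF 1 (cF 1 (by simp)) u v s.1 s.2.1 s.2.2.1 s.2.2.2) (memF w cw u cc s'.1 s'.2.1 s'.2.2.1 s'.2.2.2)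
      (fun n hn e => ty2 h wf hQ Qπ hc h3 h4 u1 hn.1 (mem_Cx.1 hn.2) (by rwa [vmul h]))
      (fun n hn e => ty2 h wf hQ Qπ hc h3 h4 u2 hn.1 (mem_Cx.1 hn.2) (by rwa [vmul h, vinv h])) (cardF _) (cardF _)
    rwa [c1] at this
  have QF : Q ≤ centralizer (Vs.map φ : Set G) := by
    refine genII h wf hQ Qπ hc h3 h4 (fun w hw g hg => mc.2 fun f hf => ?_)
      fun w hw g hg => mc.2 fun f hf => cFD h hw hg.2 hf
    simp only [List.mem_cons, List.not_mem_nil, or_false] at hw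
    rcases hw with rfl | rfl | rfl
    · rw [c1] at hg
      obtain ⟨-, m, hm, rfl⟩ := hg
      obtain ⟨k, hk, rfl⟩ := hf
      exact ((Vs_facts m hm).2.2.2.2.2.1 k hk).map φ
    · exact (tw sb (by decide +kernel) a1 a2 (by decide +kernel) (by decide +kernel) (by decide +kernel)
        (by decide +kernel) (by decide +kernel) (by decide +kernel) f hf g hg.2).symm
    · exact (tw sc (by decide +kernel) a2 a1 (by decide +kernel) (by decide +kernel) (by decide +kernel)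
        (by decide +kernel) (by decide +kernel) (by decide +kernel) f hf g hg.2).symm
  have FZ : ∀ w, CW w → cj (ι (nl w)) (Vs.map φ) ≤ Q ⊓ centralizer (Q : Set G) := fun w cw g hg =>
    ⟨cj_le (nQ (cwπ h wf cw)) FQ hg, mc.2 fun q hq => by
      have e := mc.1 (QF (conj_mem_of_mem_normalizer' (nQ (cwπ h wf cw)) hq)) _ (mem_cj.1 hg)
      have := cj_comm e
      rw [show ι (nl w) * ((ι (nl w))⁻¹ * g * ι (nl w)) * (ι (nl w))⁻¹ = g by group] at this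
      exact this.symm⟩
  have DQ : Q0.map φ ≤ Q := by
    rcases irr_Q0 (N := Q.comap φ ⊓ Q0) inf_le_right (nm_cm' (h.v3 ▸ h3) β3_nQ0) with e | e
    · have cp : (Nat.card (Q0.map φ)).Coprime 3 := by rw [card_map_of_injective inj, card_Q0]; norm_num
      have dz : ∀ d ∈ Q0.map φ, Commute d (ι (nv zz)) := by
        rintro _ ⟨m, hm, rfl⟩
        rw [ez]; exact (Q0_facts m hm).1.map φ
      have d4 : ∀ d ∈ Q0.map φ, Commute d (ι (nv x4)) := by
        rintro _ ⟨m, -, rfl⟩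
        exact (h.ch.comm m).symm
      have d3 : ι (nv x3) ∈ Nm (Q0.map φ) := h.v3 ▸ nm_map β3_nQ0
      have dc : ι (nv cc) ∈ Nm (Q0.map φ) := by
        rw [show cc = zz * x3⁻¹ by decide +kernel, vmul h, vinv h]
        exact mul_mem (nm_of_comm dz) (inv_mem d3)
      have := genII h wf (D := centralizer (Q0.map φ : Set G)) hQ Qπ hc h3 h4
        (fun s hs g hg => mc.2 fun d hd => ?_)
        fun w hw g hg => mc.2 fun d hd =>
          cπ h (cj_bd (cwπ h wf (cD w hw)) (nQ (cwπ h wf (cD w hw))) (bd _ e) hg) (Dπ hd)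
      · exact fun d hd => cQ d (Dπ hd) fun q hq => (mc.1 (this hq) d hd).symm
      obtain ⟨w, hw, cw, s1, s2⟩ := (by decide +kernel : ∀ s ∈ [1, sb, sc], ∃ w ∈ [1, r3, t34, r4 * t34], CW (s * w) ∧
        Sp x4 zz (act (s * w) x4) ∧ Sp x4 zz (act (s * w) zz)) s hs
      have hd' := (planeW h wf cp Dπ dc d3 (nm_of_comm d4) cw hd (sp_comm h (d4 d hd) (dz d hd) s1)).2.2
        (sp_comm h (d4 d hd) (dz d hd) s2)
      rw [h.nl_mul (wf (cF s hs).1) (wf (cD w hw).1), cj_mul] at hd'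
      have := cj_comm (cFD h hw (mem_cj.1 hd') (mem_cj.1 hg.2))
      rw [show ι (nl s) * ((ι (nl s))⁻¹ * g * ι (nl s)) * (ι (nl s))⁻¹ = g by group] at this
      exact this.symm
    · exact map_le_iff_le_comap.2 (e.ge.trans inf_le_left)
  refine ⟨Q, Q2, Qπ, nQ, DQ, fun g => ⟨fun hg => ?_, fun hg => ?_⟩, fun N hN hπ n1 n3 n4 =>
    genII h wf hN hπ n1 n3 n4 (fun w hw => inf_le_right.trans (cj_le (nQ (cwπ h wf (cF w hw))) FQ))
      fun w hw => inf_le_right.trans (cj_le (nQ (cwπ h wf (cD w hw))) DQ)⟩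
  · have nZ : ∀ c ∈ Nm Q, c ∈ Nm (Q ⊓ centralizer (Q : Set G)) := fun c hc =>
      mem_normalizer_of_forall fun x hx => ⟨conj_mem_of_mem_normalizer hc hx.1, mc.2 fun q hq =>
        (cj_comm (mc.1 hx.2 _ (conj_mem_of_mem_normalizer' hc hq)).symm).symm⟩
    have b1 : Q ⊓ centralizer (Q : Set G) ⊓ Q0.map φ ≤ zpowers (ι (nl t12)) := by
      rintro _ ⟨⟨-, a⟩, m, hm, rfl⟩
      have k : ∀ q ∈ Q0, Commute m q := fun q hq => inj (by
        rw [map_mul, map_mul]; exact mc.1 a _ (DQ (mem_map_of_mem φ hq)))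
      rcases (by decide +kernel : ∀ m ∈ [1, s12, q1, q1⁻¹, q2, q2⁻¹, q1 * q2, q2 * q1], Commute m q1 → Commute m q2 →
        m = 1 ∨ m = s12) m (mem_Q0.1 hm) (k _ (mem_Q0.2 (by simp))) (k _ (mem_Q0.2 (by simp))) with rfl | rfl
      · rw [map_one]; exact one_mem _
      · rw [h.w12]; exact mem_zpowers _
    refine genII h wf (N := Q ⊓ centralizer (Q : Set G)) (cop_two (Q2.to_le inf_le_left)) (inf_le_left.trans Qπ)
      (nZ _ hc) (nZ _ h3) (nZ _ h4) (fun w hw => inf_le_right.trans ?_) (fun w hw =>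
        ((cj_bd (cwπ h wf (cD w hw)) (nZ _ (nQ (cwπ h wf (cD w hw)))) b1).trans (πF h)).trans
          (le_sup_left.trans le_sup_left)) ⟨hg.1, mc.2 hg.2⟩
    simp only [List.mem_cons, List.not_mem_nil, or_false] at hw
    rcases hw with rfl | rfl | rfl
    · rw [c1]; exact le_sup_left.trans le_sup_left
    · exact le_sup_right.trans le_sup_left
    · exact le_sup_right
  · have := sup_le (sup_le ((c1 _).ge.trans (FZ 1 (cF 1 (by simp)))) (FZ sb (cF sb (by simp)))) (FZ sc (cF sc (by simp))) hg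
    exact ⟨this.1, mc.1 this.2⟩

end CfsgLib.S86
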