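import Cfsg.Agent.Lib.S86.II1
import Cfsg.Agent.Lib.S86.Lin2
import Cfsg.Agent.Lib.Core.MinNormal
import Cfsg.Agent.Lib.Tech.Invol

/-! Case `F₄(2)`: the centraliser of `t12` (project S86, see plans/S86.md). -/

set_option autoImplicit false
set_option maxRecDepth 100000
set_option Elab.async false
set_option linter.unusedSectionVars false

namespace CfsgLib.S86

open Subgroup CfsgLib.W2 CfsgLib.Tech CfsgLib.PComp CfsgLib.Rec3C CfsgLib.Rec3C.V4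
open CfsgLib.Rec3B (V81)
open CfsgLib.L72 (Nm IsQ Oc)

variable {G : Type*} [Group G] [Finite G]

/-- `(0 3)(1 4)` -/
noncomputable def ii2p : SM := κ (PG.pl [3, 4, 2, 0, 1, 5])

theorem ii2_v : ii2p = s12 * κ (PG.pl [3, 1, 2, 0, 4, 5]) * (s12 * κ (PG.pl [0, 4, 2, 3, 1, 5])) ∧
    c0 * ii2p * c0⁻¹ = s12 * κ (PG.pl [3, 1, 2, 0, 4, 5]) ∧
    ii2p * (c0 * ii2p * c0⁻¹) = s12 * κ (PG.pl [0, 4, 2, 3, 1, 5]) := by decide +kernel

theorem ii2_mem : s12 ∈ Vs ∧ ii2p ∈ Vs ∧ c0 * ii2p * c0⁻¹ ∈ Vs := by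
  have h1 : s12 ∈ Vs := subset_closure (by simp)
  have h2 : s12 * κ (PG.pl [3, 1, 2, 0, 4, 5]) ∈ Vs := subset_closure (by simp)
  have h3 : s12 * κ (PG.pl [0, 4, 2, 3, 1, 5]) ∈ Vs := subset_closure (by simp)
  exact ⟨h1, by rw [ii2_v.1]; exact mul_mem h2 h3, by rw [ii2_v.2.1]; exact h2⟩

theorem ii2_le {K : Subgroup SM} (h1 : s12 ∈ K) (h2 : ii2p ∈ K) (h3 : c0 * ii2p * c0⁻¹ ∈ K) : Vs ≤ K := by
  refine (closure_le _).2 ?_
  rintro _ (rfl | rfl | rfl)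
  exacts [h1, ii2_v.2.1 ▸ h3, ii2_v.2.2 ▸ mul_mem h2 h3]

theorem ii2_W : sb ∈ WF4 ∧ sc ∈ WF4 ∧ sb * sb = 1 ∧ sc * sc = 1 ∧ sb * t12 = t12 * sb ∧ sc * t12 = t12 * sc ∧
    act sc cc = a1 ∧ act sb cc = a2 ∧ act sc a1 = cc ∧ act sb a2 = cc ∧ act sc a2 = a2 ∧ act sb a1 = a1 ∧
    r4 * sc = sb * r4 ∧ sc * (t12 * r1 * r2) * sc⁻¹ = ra := by decide +kernel

theorem ii2_ind1 : ∀ k l : Fin 3, ∃ j' k' l' : Fin 3,
    act sb (cc ^ 0 * x3 ^ k.1 * x4 ^ l.1) = cc ^ j'.1 * x3 ^ k'.1 * x4 ^ l'.1 ∧ (j' = 0 → k = l) := by decide +kernel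

theorem ii2_ind2 : ∀ k : Fin 3, ∃ j' k' l' : Fin 3,
    act sc (cc ^ 0 * x3 ^ k.1 * x4 ^ k.1) = cc ^ j'.1 * x3 ^ k'.1 * x4 ^ l'.1 ∧ (j' = 0 → k = 0) := by decide +kernel

theorem ii2_cj {a x : G} (h : Commute a x) (g : G) : Commute (g * a * g⁻¹) (g * x * g⁻¹) := h.map (MulAut.conj g)

variable {Γ : Subgroup GO} {ι : N4 → G} {φ : SM →* G}

theorem ii2_c (h : Fr Γ ι φ) : Commute (φ ii2p) (ι (nv x3)) ∧ Commute (φ ii2p) (ι (nv x4)) ∧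
    Commute (φ ii2p) (ι (nl r4)) :=
  ⟨mem_Cx.1 (h.ks.ce _).1, mem_Cx.1 (h.ks.ce _).2.1, mem_Cx.1 (h.ks.ce _).2.2.2.1⟩

theorem ii2_a (h : Fr Γ ι φ) : ι (nv a1) = (ι (nv x3) * ι (nv x4))⁻¹ ∧ ι (nv a2) = (ι (nv x3))⁻¹ * ι (nv x4) ∧
    ι (nv cc) = ι (nv x1) * ι (nv x2) ∧ ι (nv x3) = ι (nv a1) * ι (nv a2) ∧ ι (nv x4) = ι (nv a1) * (ι (nv a2))⁻¹ := by
  simp only [← h.ev_apply, ← map_mul, ← map_inv]
  exact ⟨congrArg _ vals4.2.1, congrArg _ vals4.2.2.1, congrArg _ vals4.1, congrArg _ (by decide +kernel),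
    congrArg _ (by decide +kernel)⟩

theorem ii2_vals (h : Fr Γ ι φ) (wf : WF4 ≤ Γ) :
    ι (nv a1) * (ι (nl sc) * φ ii2p * (ι (nl sc))⁻¹) * (ι (nv a1))⁻¹ =
      ι (nl sc) * φ (c0 * ii2p * c0⁻¹) * (ι (nl sc))⁻¹ ∧
    ι (nl r4) * (ι (nl sc) * φ ii2p * (ι (nl sc))⁻¹) * (ι (nl r4))⁻¹ = ι (nl sb) * φ ii2p * (ι (nl sb))⁻¹ ∧
    ι (nv a2) * (ι (nl sb) * φ ii2p * (ι (nl sb))⁻¹) * (ι (nv a2))⁻¹ =
      ι (nl sb) * φ (c0 * ii2p * c0⁻¹) * (ι (nl sb))⁻¹ ∧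
    ι (nl sb) * (ι (nl sb) * φ ii2p * (ι (nl sb))⁻¹) * (ι (nl sb))⁻¹ = φ ii2p ∧
    ι (nv cc) * φ ii2p * (ι (nv cc))⁻¹ = φ (c0 * ii2p * c0⁻¹) := by
  obtain ⟨wb, wc, b2, -, -, -, ec, eb, -, -, -, -, er, -⟩ := ii2_W
  have k : ι (nv cc) * φ ii2p * (ι (nv cc))⁻¹ = φ (c0 * ii2p * c0⁻¹) := by
    rw [h.vals.2.2.2.2.1, map_mul, map_mul, map_inv]
  have r : ι (nl r4) * ι (nl sc) = ι (nl sb) * ι (nl r4) := by
    rw [← h.nl_mul (h.m4 mem_M4.2.2.2.1) (wf wc), ← h.nl_mul (wf wb) (h.m4 mem_M4.2.2.2.1), er]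
  have b : ι (nl sb) * ι (nl sb) = 1 := by rw [← h.nl_mul (wf wb) (wf wb), b2, map_one, h.one]
  refine ⟨?_, ?_, ?_, ?_, k⟩
  · rw [← k, ← ec, ← show _ = ι (nv (act sc cc)) from h.conj_ev (a := nl sc) (nl_mem (wf wc)) cc]; group
  · calc _ = ι (nl r4) * ι (nl sc) * φ ii2p * (ι (nl r4) * ι (nl sc))⁻¹ := by group
      _ = ι (nl sb) * (ι (nl r4) * φ ii2p * (ι (nl r4))⁻¹) * (ι (nl sb))⁻¹ := by rw [r]; group
      _ = _ := by rw [← (ii2_c h).2.2.eq, mul_inv_cancel_right]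
  · rw [← k, ← eb, ← show _ = ι (nv (act sb cc)) from h.conj_ev (a := nl sb) (nl_mem (wf wb)) cc]; group
  · calc _ = ι (nl sb) * ι (nl sb) * φ ii2p * (ι (nl sb) * ι (nl sb))⁻¹ := by group
      _ = _ := by rw [b]; group

/-- the abelian group of order `2⁷` -/
noncomputable abbrev AII (ι : N4 → G) (φ : SM →* G) : Subgroup G :=
  AA (ι (nl t12)) (ι (nl sc) * φ ii2p * (ι (nl sc))⁻¹) (ι (nv a1)) (ι (nv a2)) (ι (nv cc)) (ι (nl r4)) (ι (nl sb))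

theorem ii2_AA (h : Fr Γ ι φ) (wf : WF4 ≤ Γ) :
    AII ι φ = Vs.map φ ⊔ cj (ι (nl sb)) (Vs.map φ) ⊔ cj (ι (nl sc)) (Vs.map φ) := by
  obtain ⟨v1, v2, v3, v4, v5⟩ := ii2_vals h wf
  obtain ⟨m1, m2, m3⟩ := ii2_mem
  obtain ⟨wb, wc, -, -, cb, cc', -⟩ := ii2_W
  have t := h.m4 mem_M4.2.2.2.2.1
  have k : ∀ (g : G) (K : Subgroup G), Commute g (ι (nl t12)) → ι (nl t12) ∈ K → g * φ ii2p * g⁻¹ ∈ K →
      g * φ (c0 * ii2p * c0⁻¹) * g⁻¹ ∈ K → cj g (Vs.map φ) ≤ K := fun g K c h1 h2 h3 => cj_le_iff.2 (by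
    rintro _ ⟨m, hm, rfl⟩
    exact ii2_le (K := K.comap (cjh g φ)) (by
      rw [mem_comap, cjh_apply, ← h.w12, c.eq, mul_inv_cancel_right]; exact h1) h2 h3 hm)
  rw [AII, AA, v1, v2, v3, v4, v5]
  refine le_antisymm ((closure_le _).2 ?_) (sup_le (sup_le ?_ ?_) ?_)
  · rintro _ (rfl | rfl | rfl | rfl | rfl | rfl | rfl)
    exacts [mem_sup_left (mem_sup_left ⟨_, m1, h.w12.symm⟩), mem_sup_right (conj_mem_cj.2 ⟨_, m2, rfl⟩),
      mem_sup_right (conj_mem_cj.2 ⟨_, m3, rfl⟩), mem_sup_left (mem_sup_right (conj_mem_cj.2 ⟨_, m2, rfl⟩)),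
      mem_sup_left (mem_sup_right (conj_mem_cj.2 ⟨_, m3, rfl⟩)), mem_sup_left (mem_sup_left ⟨_, m2, rfl⟩),
      mem_sup_left (mem_sup_left ⟨_, m3, rfl⟩)]
  · refine (cj_one _).ge.trans (k 1 _ (Commute.one_left _) ?_ ?_ ?_) <;> exact subset_closure (by simp)
  · refine k _ _ ((h.comm_nl (wf wb) t).2 cb) ?_ ?_ ?_ <;> exact subset_closure (by simp)
  · refine k _ _ ((h.comm_nl (wf wc) t).2 cc') ?_ ?_ ?_ <;> exact subset_closure (by simp)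

/-- the elements of `C(u)` that act trivially on `A / ⟨u⟩` -/
def ii2N (u : G) (A : Subgroup G) : Subgroup G where
  carrier := {g | g ∈ Cx u ∧ ∀ p ∈ A, g * p * g⁻¹ * p⁻¹ ∈ zpowers u}
  one_mem' := ⟨one_mem _, fun p _ => by simp⟩
  mul_mem' := fun {a b} ha hb => ⟨mul_mem ha.1 hb.1, fun p hp => by
    obtain ⟨i, hi⟩ := hb.2 p hp
    have c : Commute a (b * p * b⁻¹ * p⁻¹) := hi ▸ (show Commute a u from mem_Cx.1 ha.1).zpow_right i
    have : a * b * p * (a * b)⁻¹ * p⁻¹ = a * (b * p * b⁻¹ * p⁻¹) * a⁻¹ * (a * p * a⁻¹ * p⁻¹) := by group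
    rw [this, c.eq, mul_inv_cancel_right]
    exact mul_mem (hb.2 p hp) (ha.2 p hp)⟩
  inv_mem' := fun {a} ha => ⟨inv_mem ha.1, fun p hp => by
    obtain ⟨i, hi⟩ := ha.2 p hp
    have c : Commute a⁻¹ (a * p * a⁻¹ * p⁻¹)⁻¹ := hi ▸ ((show Commute a u from mem_Cx.1 ha.1).zpow_right i).inv_inv
    have : a⁻¹ * p * a⁻¹⁻¹ * p⁻¹ = a⁻¹ * (a * p * a⁻¹ * p⁻¹)⁻¹ * a⁻¹⁻¹ := by group
    rw [this, c.eq, mul_inv_cancel_right]
    exact inv_mem (ha.2 p hp)⟩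

theorem ii2N_conj {u : G} {A : Subgroup G} (hA : Cx u ≤ Nm A) {g n : G} (hg : g ∈ Cx u) (hn : n ∈ ii2N u A) :
    g * n * g⁻¹ ∈ ii2N u A := ⟨mul_mem (mul_mem hg hn.1) (inv_mem hg), fun p hp => by
  obtain ⟨i, hi⟩ := hn.2 _ (conj_mem_of_mem_normalizer' (hA hg) hp)
  have c : Commute g (u ^ i) := (show Commute g u from mem_Cx.1 hg).zpow_right i
  have : g * n * g⁻¹ * p * (g * n * g⁻¹)⁻¹ * p⁻¹ = g * (n * (g⁻¹ * p * g) * n⁻¹ * (g⁻¹ * p * g)⁻¹) * g⁻¹ := by group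
  rw [this, ← show u ^ i = _ from hi, c.eq, mul_inv_cancel_right]
  exact ⟨i, rfl⟩⟩

theorem ii2_H (h : Fr Γ ι φ) {v : V81} (e : act t12 v = v) : ι (nv v) ∈ Cx (ι (nl t12)) :=
  mem_Cx.2 ((h.comm_ev (h.m4 mem_M4.2.2.2.2.1) v).2 e).symm

theorem ii2_t (h : Fr Γ ι φ) : orderOf (ι (nl t12)) = 2 :=
  h.ord_nl (h.m4 mem_M4.2.2.2.2.1) (by decide +kernel) (by decide +kernel)

theorem ii2_cop (hy : Hy G) (h : Fr Γ ι φ) (wf : WF4 ≤ Γ) (hA : Cx (ι (nl t12)) ≤ Nm (AII ι φ)) :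
    (Nat.card (ii2N (ι (nl t12)) (AII ι φ))).Coprime 3 := by
  have := Fact.mk Nat.prime_three
  obtain ⟨wb, wc, -, -, cb, cc', -⟩ := ii2_W
  have t := h.m4 mem_M4.2.2.2.2.1
  have t2 : ι (nl t12) * ι (nl t12) = 1 := by rw [← pow_two, ← ii2_t h, pow_orderOf_eq_one]
  have cube : ∀ v, ι (nv v) ^ 3 = 1 := fun v => by
    rw [← h.ev_apply, ← map_pow, show v ^ 3 = 1 by rw [pow_succ, pow_two, Rec3B.W4.V_cube], map_one]
  have cm : ∀ u v, Commute (ι (nv u)) (ι (nv v)) := fun u v => (show Commute u v from Rec3B.W4.V_comm u v).map h.ev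
  have key : ∀ j k l : Fin 3, ι (nv (cc ^ j.1 * x3 ^ k.1 * x4 ^ l.1)) ∈ ii2N (ι (nl t12)) (AII ι φ) → j = 0 :=
    fun j k l m => by
    have e := m.2 (φ ii2p) ((ii2_AA h wf).ge (mem_sup_left (mem_sup_left ⟨_, ii2_mem.2.1, rfl⟩)))
    have c := ((ii2_c h).1.pow_right k).mul_right ((ii2_c h).2.1.pow_right l)
    rw [← h.ev_apply, map_mul, map_mul, map_pow, map_pow, map_pow, h.ev_apply, h.ev_apply, h.ev_apply,
      h.vals.2.2.2.2.1, mul_assoc (φ c0 ^ j.1), mul_assoc (φ c0 ^ j.1), ← c.eq, mul_inv_rev (φ c0 ^ j.1), ← mul_assoc,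
      ← mul_assoc, mul_inv_cancel_right, ← map_pow, ← map_mul, ← map_inv, ← map_inv, ← map_mul, ← map_mul,
      ExtraTwo.mem_zpowers_iff_of_mul_self t2, h.w12, h.ch.inj.eq_iff, map_eq_one_iff _ h.ch.inj] at e
    clear m
    revert j
    decide +kernel
  refine (Nat.coprime_comm.1 ((Nat.Prime.coprime_iff_not_dvd Nat.prime_three).2 fun d => ?_))
  obtain ⟨n, hn, on⟩ := Core.exists_mem_orderOf_eq_of_dvd_card Nat.prime_three d
  obtain ⟨P, hP, EP⟩ := exists_isSylowIn_ge (p := 3) (Q := Cx (ι (nl t12)) ⊓ h.ev.range) (H := Cx (ι (nl t12)))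
    (Core.isPGroup_of_forall_pow_eq_one (by rintro _ ⟨-, v, rfl⟩; exact cube v)) inf_le_left
  obtain ⟨g, hg, gP⟩ := hP.exists_conj_mem hn.1 (IsPGroup.of_card (n := 1) (by rw [Nat.card_zpowers, on]; rfl))
  obtain ⟨w, hw, ow, cw⟩ := exists_mem_center_of_normalized (N := ii2N (ι (nl t12)) (AII ι φ) ⊓ P) hP.pgroup
    inf_le_right (fun p hp => mem_normalizer_of_forall fun x hx =>
      ⟨ii2N_conj hA (hP.le hp) hx.1, P.mul_mem (P.mul_mem hp hx.2) (P.inv_mem hp)⟩) fun e => by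
        have : g * n * g⁻¹ = 1 := e.le ⟨ii2N_conj hA hg hn, gP⟩
        rw [conj_eq_one_iff.1 this, orderOf_one] at on
        omega
  have H1 := ii2_H h (v := cc) (by decide +kernel)
  have H3 := ii2_H h (v := x3) (by decide +kernel)
  have H4 := ii2_H h (v := x4) (by decide +kernel)
  have nm : ∀ g ∈ Cx (ι (nl t12)), g ∈ Nm (zpowers (ι (nl t12))) := fun g hg => (L72.Nm_zpowers t2 g).2 (mem_Cx.1 hg)
  have := hy.rk4 (T := zpowers (ι (nl t12))) (IsPGroup.of_card (n := 1) (by rw [Nat.card_zpowers, ii2_t h]; rfl))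
    (ow ▸ pow_orderOf_eq_one w) (cube cc) (cube x3) (cube x4) (cw _ (EP ⟨H1, _, rfl⟩)).symm
    (cw _ (EP ⟨H3, _, rfl⟩)).symm (cw _ (EP ⟨H4, _, rfl⟩)).symm (cm _ _) (cm _ _) (cm _ _) (fun i j k l e => ?_)
    (nm _ hw.1.1) (nm _ H1) (nm _ H3) (nm _ H4)
  · have o := ii2_t h
    rw [zpowers_eq_bot.1 this, orderOf_one] at o
    omega
  have m : ι (nv (cc ^ j.1 * x3 ^ k.1 * x4 ^ l.1)) ∈ ii2N (ι (nl t12)) (AII ι φ) := by
    rw [← h.ev_apply, map_mul, map_mul, map_pow, map_pow, map_pow, h.ev_apply, h.ev_apply, h.ev_apply,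
      eq_inv_of_mul_eq_one_right (a := w ^ i.1) (b := _ * _ * _) (by rwa [← mul_assoc, ← mul_assoc])]
    exact inv_mem (pow_mem hw.1 _)
  have m1 := ii2N_conj hA (mem_Cx.2 ((h.comm_nl (wf wb) t).2 cb)) m
  have m2 := ii2N_conj hA (mem_Cx.2 ((h.comm_nl (wf wc) t).2 cc')) m
  rw [h.conj_ev (nl_mem (wf wb))] at m1
  rw [h.conj_ev (nl_mem (wf wc))] at m2
  obtain rfl := key j k l m
  obtain ⟨j', k', l', e1, e3⟩ := ii2_ind1 k l
  obtain rfl := e3 (key j' k' l' (e1 ▸ m1))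
  obtain ⟨j', k', l', e1, e3⟩ := ii2_ind2 k
  obtain rfl := e3 (key j' k' l' (e1 ▸ m2))
  have d : orderOf w ∣ i.1 := orderOf_dvd_of_pow_eq_one (by simpa using e)
  exact ⟨Fin.ext (Nat.eq_zero_of_dvd_of_lt (ow.symm.dvd.trans d) i.2), rfl, rfl, rfl⟩

theorem exists_cii (hy : Hy G) {Γ : Subgroup GO} {ι : N4 → G} {φ : SM →* G} (h : Fr Γ ι φ) (wf : WF4 ≤ Γ) :
    ∃ Q ψ ρ, CII Γ ι φ Q ψ ρ := by
  obtain ⟨Q, Q2, QH, nQ, DQ, hZ, hM⟩ := exists_QII hy h wf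
  rw [← ii2_AA h wf] at hZ
  obtain ⟨wb, wc, b2, c2, cb, cc', ec, eb, ec', eb', fc, fb, -, er⟩ := ii2_W
  obtain ⟨k1, k2, -, k4, mt, -, -, -, -, -, -, -, -, ka⟩ := mem_M4
  replace k1 := h.m4 k1
  replace k2 := h.m4 k2
  replace k4 := h.m4 k4
  replace mt := h.m4 mt
  replace ka := h.m4 ka
  obtain ⟨κi, κ3, κ4, ρ3, ρ4, κt⟩ := h.κ34_vals
  obtain ⟨A1, A2, A3, A4, A5⟩ := ii2_a h
  obtain ⟨c3, c4, -⟩ := ii2_c h
  have nA : Cx (ι (nl t12)) ≤ Nm (AII ι φ) := fun g hg => mem_normalizer_of_forall fun p hp =>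
    (hZ _).1 ⟨conj_mem_of_mem_normalizer (nQ hg) ((hZ p).2 hp).1, fun q hq => by
      have := ii2_cj (((hZ p).2 hp).2 _ (conj_mem_of_mem_normalizer' (nQ hg) hq)) g
      rwa [show g * (g⁻¹ * q * g) * g⁻¹ = q by group] at this⟩
  have H1 := ii2_H h (v := cc) (by decide +kernel)
  have H3 := ii2_H h (v := x3) (by decide +kernel)
  have H4 := ii2_H h (v := x4) (by decide +kernel)
  have cm : ∀ u v, Commute (ι (nv u)) (ι (nv v)) := fun u v => (show Commute u v from Rec3B.W4.V_comm u v).map h.ev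
  have sq : ∀ w ∈ Γ, w * w = 1 → ι (nl w) * ι (nl w) = 1 := fun w hw e => by rw [← h.nl_mul hw hw, e, map_one, h.one]
  have cv : ∀ w ∈ Γ, ∀ u v, act w u = v → ι (nl w) * ι (nv u) * (ι (nl w))⁻¹ = ι (nv v) := fun w hw u v e =>
    e ▸ h.conj_ev (nl_mem hw) u
  have B1 : ι (nv a1) = κ34 ι φ (PG.pl [2, 0, 1, 5, 3, 4]) := by
    rw [A1, ← κ3, ← κ4, ← map_mul, ← map_inv]; exact congrArg _ (by decide +kernel)
  have B2 : ι (nv a2) = κ34 ι φ (PG.pl [2, 0, 1, 4, 5, 3]) := by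
    rw [A2, ← κ3, ← κ4, ← map_inv, ← map_mul]; exact congrArg _ (by decide +kernel)
  have B3 : ι (nl ra) = κ34 ι φ (PG.pl [4, 3, 5, 1, 0, 2]) := by
    rw [vals4.2.2.2.2.1, h.nl_mul (mul_mem (h.m4 mem_M4.2.2.1) k4) (h.m4 mem_M4.2.2.2.2.2.2.2.1),
      h.nl_mul (h.m4 mem_M4.2.2.1) k4, ← ρ3, ← ρ4, ← κt, ← map_mul, ← map_mul]
    exact congrArg _ (by decide +kernel)
  have L : LinD (Cx (ι (nl t12))) Q (ι (nl t12)) (ι (nl sc) * φ ii2p * (ι (nl sc))⁻¹) (ι (nv a1)) (ι (nv a2))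
      (ι (nv cc)) (ι (nl ra)) (ι (nl r4)) (ι (nl sb)) (κ34 ι φ (PG.pl [1, 0, 5, 4, 3, 2])) :=
    { u2 := sq _ mt (by decide +kernel)
      u1 := fun e => by have := ii2_t h; rw [e, orderOf_one] at this; omega
      uH := fun g hg => mem_Cx.1 hg
      xH := ii2_H h (by decide +kernel)
      yH := ii2_H h (by decide +kernel)
      zH := H1
      rH := mem_Cx.2 ((h.comm_nl ka mt).2 (by decide +kernel))
      SH := mem_Cx.2 ((h.comm_nl k4 mt).2 (by decide +kernel))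
      SH' := mem_Cx.2 ((h.comm_nl (wf wb) mt).2 cb)
      aH := mem_Cx.2 (h.κ34_comm _).2.2.2.2
      nA := nA
      cA := fun p hp q hq => ((hZ p).2 hp).2 q ((hZ q).2 hq).1
      f2 := by rw [conj_mul, ← map_mul, show ii2p * ii2p = 1 by decide +kernel, map_one, mul_one, mul_inv_cancel]
      f1 := fun e => absurd ((map_eq_one_iff _ h.ch.inj).1 (conj_eq_one_iff.1 e)) (by decide +kernel)
      tr := by
        have e : φ ii2p * (φ c0 * φ ii2p * (φ c0)⁻¹) * ((φ c0)⁻¹ * φ ii2p * φ c0) = 1 := by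
          simp only [← map_mul, ← map_inv]
          exact (congrArg φ (by decide +kernel)).trans φ.map_one
        rw [← cv _ (wf wc) _ _ ec, h.vals.2.2.2.2.1]
        calc _ = ι (nl sc) * (φ ii2p * (φ c0 * φ ii2p * (φ c0)⁻¹) * ((φ c0)⁻¹ * φ ii2p * φ c0)) * (ι (nl sc))⁻¹ := by
              group
          _ = 1 := by rw [e, mul_one, mul_inv_cancel]
      fy := by
        rw [← cv _ (wf wc) _ _ fc, A2]
        exact ii2_cj (c3.inv_right.mul_right c4) _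
      fz := by
        rw [← cv _ (wf wc) _ _ ec', A1]
        exact ii2_cj (c3.mul_right c4).inv_right _
      fr := by
        rw [← er, ← h.conj_nl (wf wc) (mul_mem (mul_mem mt k1) k2), h.nl_mul (mul_mem mt k1) k2, h.nl_mul mt k1,
          h.w12, h.w1, h.vals.1, ← map_mul, ← map_mul]
        exact ii2_cj (Commute.map (by decide +kernel) φ) _
      x3 := by rw [← h.ev_apply, ← map_pow, show a1 ^ 3 = 1 by decide +kernel, map_one]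
      xy := cm _ _
      xz := cm _ _
      yz := cm _ _
      r2 := sq _ ka (by decide +kernel)
      rx := (cv _ ka _ a1⁻¹ (by decide +kernel)).trans (h.ev.map_inv _)
      ry := (h.comm_ev ka _).2 (by decide +kernel)
      rz := (h.comm_ev ka _).2 (by decide +kernel)
      S2 := sq _ k4 (by decide +kernel)
      Sx := cv _ k4 _ _ (by decide +kernel)
      Sz := (h.comm_ev k4 _).2 (by decide +kernel)
      S2' := sq _ (wf wb) b2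
      Sy' := cv _ (wf wb) _ _ eb'
      Sx' := (h.comm_ev (wf wb) _).2 fb
      a2 := by rw [← map_mul]; exact (congrArg _ (by decide +kernel)).trans (map_one _)
      az := A3 ▸ (h.κ34_comm _).1.mul_right (h.κ34_comm _).2.1
      ar := B3 ▸ Commute.map (show _ * _ = _ * _ by decide +kernel) _
      aS := ρ4 ▸ Commute.map (show _ * _ = _ * _ by decide +kernel) _
      a4 := by rw [B1, ← map_mul, ← map_pow]; exact (congrArg _ (by decide +kernel)).trans (map_one _)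
      ao := by
        have := Fact.mk Nat.prime_three
        rw [B1, B2, ← map_mul, ← map_pow, ← map_inv, ← map_mul, ← map_mul, ← map_mul, orderOf_injective _ κi]
        exact orderOf_eq_prime (by decide +kernel) (by decide +kernel)
      Q2 := Q2
      QH := QH
      QA := fun q hq p hp => (((hZ p).2 hp).2 q hq).symm
      ker := fun g hg e => hM _ (ii2_cop hy h wf nA) (fun _ m => m.1)
        (mem_normalizer_of_forall fun _ => ii2N_conj nA H1) (mem_normalizer_of_forall fun _ => ii2N_conj nA H3)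
        (mem_normalizer_of_forall fun _ => ii2N_conj nA H4) ⟨hg, e⟩
      max := fun R hR hH n1 n2 n3 => hM R (cop_two hR) hH n3 (A4 ▸ mul_mem n1 n2) (A5 ▸ mul_mem n1 (inv_mem n2)) }
  obtain ⟨ψ, ρ, hρ, -, -, -, -, -, -, -, p1, p2, p3, -, p4, -⟩ := lin_rho L
  have nm : ∀ v, ι (nv v) ∈ Cx (ι (nl t12)) → ι (nv v) ∈ Nm (Q ⊓ Cx (ι (nv zz))) := fun v hv =>
    mem_normalizer_of_forall fun q hq => ⟨conj_mem_of_mem_normalizer (nQ hv) hq.1,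
      (Cx _).mul_mem ((Cx _).mul_mem (mem_Cx.2 (cm _ _)) hq.2) ((Cx _).inv_mem (mem_Cx.2 (cm _ _)))⟩
  refine ⟨Q, ψ, ρ, h, wf, hρ, p1, p2, p3, p4, fun q => ⟨fun hq => cz_le h wf (cop_two (Q2.to_le inf_le_left))
    (inf_le_inf_right _ QH) (nm _ H3) (nm _ H4) hq, fun hq => ⟨DQ hq, ?_⟩⟩⟩
  obtain ⟨m, hm, rfl⟩ := hq
  rw [h.vals.2.2.2.2.2.2.1]
  exact mem_Cx.2 ((Q0_facts m hm).1.map φ)

end CfsgLib.S86
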