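import Cfsg.Agent.Lib.S86.Defs

/-! The natural module: coordinates (project S86, see plans/S86.md). -/

set_option autoImplicit false
set_option maxRecDepth 100000
set_option Elab.async false
set_option linter.unusedSectionVars false

namespace CfsgLib.S86

open Subgroup CfsgLib.W2 CfsgLib.Tech CfsgLib.PComp CfsgLib.Rec3C CfsgLib.Rec3C.V4
open CfsgLib.Rec3B (V81)
open CfsgLib.L72 (Nm IsQ Oc)

variable {G : Type*} [Group G] [Finite G]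

namespace Lin1

/-- the homomorphism given by one bit -/
noncomputable def bh {K : Type*} [Group K] (i : Fin 6) (a : K) (ha : a * a = 1) : E64 →* K :=
  MonoidHom.mk' (fun v => if bt v i = 0 then 1 else a) fun u v => by
    have k : ∀ i : Fin 6, ∀ u v : E64, bt (u * v) i = 0 ↔ (bt u i = 0 ↔ bt v i = 0) := by decide +kernel
    have := k i u v
    by_cases h1 : bt u i = 0 <;> by_cases h2 : bt v i = 0 <;> simp_all

theorem hom6 {K : Type*} [CommGroup K] {a b c d e f : K} (ha : a * a = 1) (hb : b * b = 1) (hc : c * c = 1)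
    (hd : d * d = 1) (he : e * e = 1) (hf : f * f = 1) :
    ∃ ψ : E64 →* K, ψ e1 = a ∧ ψ f1 = b ∧ ψ e2 = c ∧ ψ f2 = d ∧ ψ e3 = e ∧ ψ f3 = f :=
  ⟨bh 0 a ha * bh 1 b hb * bh 2 c hc * bh 3 d hd * bh 4 e he * bh 5 f hf,
    show a * 1 * 1 * 1 * 1 * 1 = a by simp, show 1 * b * 1 * 1 * 1 * 1 = b by simp,
    show 1 * 1 * c * 1 * 1 * 1 = c by simp, show 1 * 1 * 1 * d * 1 * 1 = d by simp,
    show 1 * 1 * 1 * 1 * e * 1 = e by simp, show 1 * 1 * 1 * 1 * 1 * f = f by simp⟩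

theorem hom6' {A : Subgroup G} (hA : ∀ p ∈ A, ∀ q ∈ A, Commute p q) {a b c d e f : G} (ma : a ∈ A) (mb : b ∈ A)
    (mc : c ∈ A) (md : d ∈ A) (me : e ∈ A) (mf : f ∈ A) (ha : a * a = 1) (hb : b * b = 1) (hc : c * c = 1)
    (hd : d * d = 1) (he : e * e = 1) (hf : f * f = 1) :
    ∃ ψ : E64 →* G, (∀ v, ψ v ∈ A) ∧ ψ e1 = a ∧ ψ f1 = b ∧ ψ e2 = c ∧ ψ f2 = d ∧ ψ e3 = e ∧ ψ f3 = f := by
  let _ : CommGroup A := { (inferInstance : Group A) with mul_comm := fun p q => Subtype.ext (hA _ p.2 _ q.2) }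
  obtain ⟨ψ, h1, h2, h3, h4, h5, h6⟩ := hom6 (K := A) (a := ⟨a, ma⟩) (b := ⟨b, mb⟩) (c := ⟨c, mc⟩) (d := ⟨d, md⟩)
    (e := ⟨e, me⟩) (f := ⟨f, mf⟩) (Subtype.ext ha) (Subtype.ext hb) (Subtype.ext hc) (Subtype.ext hd) (Subtype.ext he)
    (Subtype.ext hf)
  exact ⟨A.subtype.comp ψ, fun v => (ψ v).2, congrArg Subtype.val h1, congrArg Subtype.val h2, congrArg Subtype.val h3,
    congrArg Subtype.val h4, congrArg Subtype.val h5, congrArg Subtype.val h6⟩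

theorem cj2 {a : G} (h : a * a = 1) (g : G) : g * a * g⁻¹ * (g * a * g⁻¹) = 1 := by
  rw [conj_mul, h, mul_one, mul_inv_cancel]

theorem cj1 {a : G} (h : a ≠ 1) (g : G) : g * a * g⁻¹ ≠ 1 := fun e => h (by
  rwa [mul_inv_eq_one, mul_eq_left] at e)

theorem fx {a x : G} (h : Commute a x) : a * x * a⁻¹ = x := by rw [h.eq, mul_inv_cancel_right]

theorem cjc {a x : G} (h : Commute a x) (g : G) : Commute (g * a * g⁻¹) (g * x * g⁻¹) := by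
  rw [Commute, SemiconjBy, conj_mul, conj_mul, h.eq]

theorem cjr {a g x : G} (h1 : Commute a g) (h2 : Commute a x) : Commute a (g * x * g⁻¹) :=
  (h1.mul_right h2).mul_right h1.inv_right

theorem back {S x y : G} (h : S * S = 1) (e : S * x * S⁻¹ = y) : S * y * S⁻¹ = x := by
  calc S * y * S⁻¹ = S * S * x * (S * S)⁻¹ := by rw [← e]; group
    _ = x := by rw [h]; group

/-- the relation `1 + x + x² = 0` -/
def Tri (x f : G) : Prop := x * (x * f * x⁻¹) * x⁻¹ = f * (x * f * x⁻¹)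

theorem Tri.cj {x f : G} (h : Tri x f) (g : G) : Tri (g * x * g⁻¹) (g * f * g⁻¹) := by
  calc _ = g * (x * (x * f * x⁻¹) * x⁻¹) * g⁻¹ := by group
    _ = _ := by rw [h]; group

theorem act_of {ψ : E64 →* G} {g : G} {m : SM} (h1 : g * ψ e1 * g⁻¹ = ψ (sa m e1)) (h2 : g * ψ f1 * g⁻¹ = ψ (sa m f1))
    (h3 : g * ψ e2 * g⁻¹ = ψ (sa m e2)) (h4 : g * ψ f2 * g⁻¹ = ψ (sa m f2)) (h5 : g * ψ e3 * g⁻¹ = ψ (sa m e3))
    (h6 : g * ψ f3 * g⁻¹ = ψ (sa m f3)) (v : E64) : g * ψ v * g⁻¹ = ψ (sa m v) :=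
  DFunLike.congr_fun (hom_extE (f := (MulAut.conj g).toMonoidHom.comp ψ) (g := ψ.comp (saH m)) h1 h2 h3 h4 h5 h6) v

theorem vβ1 : sa β1 e1 = f1 ∧ sa β1 f1 = e1 * f1 ∧ sa β1 e2 = e2 ∧ sa β1 f2 = f2 ∧ sa β1 e3 = e3 ∧ sa β1 f3 = f3 := by
  decide +kernel
theorem vβ2 : sa β2 e1 = e1 ∧ sa β2 f1 = f1 ∧ sa β2 e2 = f2 ∧ sa β2 f2 = e2 * f2 ∧ sa β2 e3 = e3 ∧ sa β2 f3 = f3 := by
  decide +kernel
theorem vβ3 : sa β3 e1 = e1 ∧ sa β3 f1 = f1 ∧ sa β3 e2 = e2 ∧ sa β3 f2 = f2 ∧ sa β3 e3 = f3 ∧ sa β3 f3 = e3 * f3 := by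
  decide +kernel
theorem vt1 : sa t1 e1 = e1 ∧ sa t1 f1 = e1 * f1 ∧ sa t1 e2 = e2 ∧ sa t1 f2 = f2 ∧ sa t1 e3 = e3 ∧ sa t1 f3 = f3 := by
  decide +kernel
theorem vs12 : sa s12 e1 = e2 ∧ sa s12 f1 = f2 ∧ sa s12 e2 = e1 ∧ sa s12 f2 = f1 ∧ sa s12 e3 = e3 ∧ sa s12 f3 = f3 := by
  decide +kernel
theorem vs23 : sa s23 e1 = e1 ∧ sa s23 f1 = f1 ∧ sa s23 e2 = e3 ∧ sa s23 f2 = f3 ∧ sa s23 e3 = e2 ∧ sa s23 f3 = f2 := by
  decide +kernel

/-- the facts on `β` and the plane `⟨e, f⟩` -/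
def Pl (β : SM) (e f : E64) : Prop := sa β e = f ∧ sa β f = e * f ∧ e ≠ 1 ∧ e * f ≠ e ∧ e * f * sa β (e * f) ≠ e ∧
  (∀ p, p * sa β p * sa β (sa β p) = 1 → p = 1 ∨ p = e ∨ p = f ∨ p = e * f) ∧
  ∀ v, v * sa β v = 1 ∨ v * sa β v = e ∨ sa β (v * sa β v) = e ∨ sa β (sa β (v * sa β v)) = e

theorem pl1 : Pl β1 e1 f1 := by unfold Pl; decide +kernel
theorem pl2 : Pl β2 e2 f2 := by unfold Pl; decide +kernel
theorem pl3 : Pl β3 e3 f3 := by unfold Pl; decide +kernel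

theorem Pl.fix {β : SM} {e f : E64} (h : Pl β e f) {l : E64 →* E64} (h2 : ∀ v, l (l v) = v)
    (hc : ∀ v, l (sa β v) = sa β (l v)) : l e = e ∧ l f = f := by
  obtain ⟨k1, k2, k3, k4, k5, k6, -⟩ := h
  have e1 : l f = sa β (l e) := by rw [← k1, hc]
  have e2 := h2 e
  suffices l e = e from ⟨this, by rw [e1, this, k1]⟩
  rcases k6 (l e) (by rw [← hc, ← hc, ← map_mul, ← map_mul, k1, k2, E_sq, map_one]) with p | p | p | p
  · rw [p, map_one] at e2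
    exact absurd e2.symm k3
  · exact p
  · rw [p, e1, p, k2] at e2
    exact absurd e2 k4
  · rw [p, map_mul, e1, p] at e2
    exact absurd e2 k5

theorem Pl.ind {β : SM} {e f : E64} (h : Pl β e f) {ψ : E64 →* G} {g : G} (ha : ∀ v, g * ψ v * g⁻¹ = ψ (sa β v))
    (h1 : ψ e ≠ 1) {v : E64} (hv : Commute g (ψ v)) : v * sa β v = 1 := by
  have k : ∀ w, ψ w = 1 → ψ (sa β w) = 1 := fun w e => by rw [← ha, e, mul_one, mul_inv_cancel]
  have e0 : ψ (v * sa β v) = 1 := by rw [map_mul, ← ha, fx hv, ← map_mul, E_sq, map_one]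
  rcases h.2.2.2.2.2.2 v with p | p | p | p
  · exact p
  · exact absurd (p ▸ e0) h1
  · exact absurd (p ▸ k _ e0) h1
  · exact absurd (p ▸ k _ (k _ e0)) h1

theorem fix3 : ∀ v : E64, v * sa β1 v = 1 → v * sa β2 v = 1 → v * sa β3 v = 1 → v = 1 := by decide +kernel

theorem solve : ∀ p : E64, sa β3 p = p → sa t1 p = p → ∀ q : E64, sa β3 q = q → sa t1 q = p * q →
    ap6 p q (sa s12 p) (sa s12 q) e3 f3 p = e1 → ap6 p q (sa s12 p) (sa s12 q) e3 f3 q = f1 →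
    ap6 p q (sa s12 p) (sa s12 q) e3 f3 (sa β1 (ap6 p q (sa s12 p) (sa s12 q) e3 f3 (sa β1
      (ap6 p q (sa s12 p) (sa s12 q) e3 f3 (sa β1 q))))) = e1 →
    (∀ v, ap6 p q (sa s12 p) (sa s12 q) e3 f3 v = sa (tv (e1 * e2)) v) ∨
      ∀ v, ap6 p q (sa s12 p) (sa s12 q) e3 f3 (sa β1 (ap6 p q (sa s12 p) (sa s12 q) e3 f3 (sa β1 v))) = v := by
  decide +kernel

theorem mem_z {u g : G} (h : u * u = 1) : g ∈ zpowers u ↔ g = 1 ∨ g = u := ExtraTwo.mem_zpowers_iff_of_mul_self h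

end Lin1

open Lin1

/-- the coordinates of the module -/
theorem lin_coord {H Q : Subgroup G} {u f x y z r S S' a : G} (h : LinD H Q u f x y z r S S' a) :
    ∃ (ψ : E64 →* G) (l : G → E64 →* E64), ψ e1 = f ∧ ψ f1 = x * f * x⁻¹ ∧ ψ e2 = S * f * S⁻¹ ∧
      ψ f2 = y * (S * f * S⁻¹) * y⁻¹ ∧ ψ e3 = S' * (S * f * S⁻¹) * S'⁻¹ ∧ ψ f3 = z * (S' * (S * f * S⁻¹) * S'⁻¹) * z⁻¹ ∧
      (∀ g, g ∈ AA u f x y z S S' ↔ ∃ v, g = ψ v ∨ g = u * ψ v) ∧ (∀ v, ψ v ∈ zpowers u → v = 1) ∧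
      (∀ g ∈ H, ∀ v, g * ψ v * g⁻¹ = ψ (l g v) ∨ g * ψ v * g⁻¹ = u * ψ (l g v)) ∧
      (∀ g ∈ H, ∀ k ∈ H, ∀ v, l (g * k) v = l g (l k v)) ∧ (∀ g ∈ H, (∀ v, l g v = v) ↔ g ∈ Q) ∧
      l x = saH β1 ∧ l y = saH β2 ∧ l z = saH β3 ∧ l r = saH t1 ∧ l S = saH s12 ∧ l S' = saH s23 ∧
      l a = saH (tv (e1 * e2)) := by
  have m0 : u ∈ AA u f x y z S S' := subset_closure (by simp)
  obtain ⟨ψ, mψ, p1, p2, p3, p4, p5, p6⟩ := hom6' h.cA (a := f) (b := x * f * x⁻¹) (c := S * f * S⁻¹)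
    (d := y * (S * f * S⁻¹) * y⁻¹) (e := S' * (S * f * S⁻¹) * S'⁻¹) (f := z * (S' * (S * f * S⁻¹) * S'⁻¹) * z⁻¹)
    (subset_closure (by simp)) (subset_closure (by simp)) (subset_closure (by simp)) (subset_closure (by simp))
    (subset_closure (by simp)) (subset_closure (by simp)) h.f2 (cj2 h.f2 _) (cj2 h.f2 _) (cj2 (cj2 h.f2 _) _)
    (cj2 (cj2 h.f2 _) _) (cj2 (cj2 (cj2 h.f2 _) _) _)
  have ψ2 : ∀ v, ψ v * ψ v = 1 := fun v => by rw [← map_mul, E_sq, map_one]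
  have ψi : ∀ v, (ψ v)⁻¹ = ψ v := fun v => inv_eq_of_mul_eq_one_right (ψ2 v)
  have T1 : Tri x f := by
    have e : f * (x * f * x⁻¹) = ψ (e1 * f1) := by rw [map_mul, p1, p2]
    have x2 : x * x = x⁻¹ := eq_inv_of_mul_eq_one_left (by rw [← h.x3, pow_three'])
    rw [Tri, ← inv_inj, e, ψi, ← e, eq_inv_of_mul_eq_one_left h.tr, inv_inj]
    calc _ = x * x * f * (x * x)⁻¹ := by group
      _ = _ := by rw [x2, inv_inv]
  have T2 : Tri y (S * f * S⁻¹) := h.Sx ▸ T1.cj S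
  have T3 : Tri z (S' * (S * f * S⁻¹) * S'⁻¹) := h.Sy' ▸ T2.cj S'
  have x2 : Commute x (S * f * S⁻¹) := back h.S2 h.Sx ▸ cjc h.fy.symm S
  have x3 : Commute x (S' * (S * f * S⁻¹) * S'⁻¹) := cjr h.Sx'.symm x2
  have z2 : Commute z (S * f * S⁻¹) := cjr h.Sz.symm h.fz.symm
  have y3 : Commute y (S' * (S * f * S⁻¹) * S'⁻¹) := back h.S2' h.Sy' ▸ cjc z2 S'
  have ax : ∀ v, x * ψ v * x⁻¹ = ψ (sa β1 v) := by
    obtain ⟨k1, k2, k3, k4, k5, k6⟩ := vβ1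
    exact act_of (by rw [k1, p1, p2]) (by rw [k2, map_mul, p1, p2]; exact T1) (by rw [k3, p3, fx x2])
      (by rw [k4, p4, fx (cjr h.xy x2)]) (by rw [k5, p5, fx x3]) (by rw [k6, p6, fx (cjr h.xz x3)])
  have ay : ∀ v, y * ψ v * y⁻¹ = ψ (sa β2 v) := by
    obtain ⟨k1, k2, k3, k4, k5, k6⟩ := vβ2
    exact act_of (by rw [k1, p1, fx h.fy.symm]) (by rw [k2, p2, fx (cjr h.xy.symm h.fy.symm)]) (by rw [k3, p3, p4])
      (by rw [k4, map_mul, p3, p4]; exact T2) (by rw [k5, p5, fx y3]) (by rw [k6, p6, fx (cjr h.yz y3)])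
  have az : ∀ v, z * ψ v * z⁻¹ = ψ (sa β3 v) := by
    obtain ⟨k1, k2, k3, k4, k5, k6⟩ := vβ3
    exact act_of (by rw [k1, p1, fx h.fz.symm]) (by rw [k2, p2, fx (cjr h.xz.symm h.fz.symm)]) (by rw [k3, p3, fx z2])
      (by rw [k4, p4, fx (cjr h.yz.symm z2)]) (by rw [k5, p5, p6]) (by rw [k6, map_mul, p5, p6]; exact T3)
  have cz : ∀ g ∈ H, ∀ w ∈ zpowers u, Commute g w := fun g hg w hw => by
    rcases (mem_z h.u2).1 hw with rfl | rfl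
    exacts [Commute.one_right g, h.uH g hg]
  have ind : ∀ v, ψ v ∈ zpowers u → v = 1 := fun v hv =>
    fix3 v (pl1.ind ax (p1 ▸ h.f1) (cz x h.xH _ hv)) (pl2.ind ay (p3 ▸ cj1 h.f1 S) (cz y h.yH _ hv))
      (pl3.ind az (p5 ▸ cj1 (cj1 h.f1 S) S') (cz z h.zH _ hv))
  have rz : ∀ g v, g * ψ v ∈ zpowers u ↔ g = ψ v ∨ g = u * ψ v := fun g v => by
    rw [mem_z h.u2, mul_eq_one_iff_eq_inv, ← eq_mul_inv_iff_mul_eq, ψi]
  have rmul : ∀ p ∈ AA u f x y z S S', ∀ q ∈ AA u f x y z S S', ∀ v w, p * ψ v ∈ zpowers u → q * ψ w ∈ zpowers u →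
      p * q * ψ (v * w) ∈ zpowers u := fun p _ q hq v w h1 h2 => by
    have := mul_mem h1 h2
    rwa [mul_assoc, ← mul_assoc (ψ v), (h.cA _ (mψ v) q hq).eq, mul_assoc, ← mul_assoc, ← map_mul] at this
  have memA : ∀ g ∈ AA u f x y z S S', ∃ v, g * ψ v ∈ zpowers u := fun g hg => by
    have k : ∀ v, ∃ w, ψ v * ψ w ∈ zpowers u := fun v => ⟨v, by rw [ψ2]; exact one_mem _⟩
    induction hg using closure_induction with
    | mem g hg =>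
      simp only [Set.mem_insert_iff, Set.mem_singleton_iff] at hg
      rcases hg with rfl | rfl | rfl | rfl | rfl | rfl | rfl
      exacts [⟨1, by simp⟩, p1 ▸ k _, p2 ▸ k _, p3 ▸ k _, p4 ▸ k _, p5 ▸ k _, p6 ▸ k _]
    | one => exact ⟨1, by simp⟩
    | mul p q hp hq h1 h2 => exact h1.elim fun v h1 => h2.elim fun w h2 => ⟨_, rmul p hp q hq v w h1 h2⟩
    | inv p hp h1 =>
      obtain ⟨v, h1⟩ := h1
      exact ⟨v, by rw [← ψi, ← mul_inv_rev, ← (h.cA p hp _ (mψ v)).eq]; exact inv_mem h1⟩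
  have uniq : ∀ p v w, p * ψ v ∈ zpowers u → p * ψ w ∈ zpowers u → v = w := fun p v w h1 h2 => by
    have := mul_mem (inv_mem h1) h2
    rw [mul_inv_rev, mul_assoc, inv_mul_cancel_left, ← map_inv, ← map_mul] at this
    exact inv_mul_eq_one.1 (ind _ this)
  have cjA : ∀ g ∈ H, ∀ v, g * ψ v * g⁻¹ ∈ AA u f x y z S S' := fun g hg v =>
    conj_mem_of_mem_normalizer (h.nA hg) (mψ v)
  obtain ⟨l, hl⟩ : ∃ l : G → E64 →* E64, ∀ g ∈ H, ∀ v, g * ψ v * g⁻¹ * ψ (l g v) ∈ zpowers u := by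
    refine (Classical.skolem (p := fun g (l : E64 →* E64) => g ∈ H → ∀ v, g * ψ v * g⁻¹ * ψ (l v) ∈ zpowers u)).1
      fun g => ?_
    by_cases hg : g ∈ H
    · choose w hw using fun v => memA _ (cjA g hg v)
      refine ⟨MonoidHom.mk' w fun v v' => uniq _ _ _ (hw _) ?_, fun _ => hw⟩
      rw [map_mul ψ v, ← conj_mul]
      exact rmul _ (cjA g hg v) _ (cjA g hg v') _ _ (hw v) (hw v')
    · exact ⟨1, fun e => absurd e hg⟩
  have lex : ∀ g ∈ H, ∀ v w, g * ψ v * g⁻¹ = ψ w → l g v = w := fun g hg v w e =>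
    uniq _ _ _ (hl g hg v) (by rw [e, ψ2]; exact one_mem _)
  have lmul : ∀ g ∈ H, ∀ k ∈ H, ∀ v, l (g * k) v = l g (l k v) := fun g hg k hk v => by
    refine uniq _ _ _ (hl _ (mul_mem hg hk) v) ?_
    have := mul_mem ((fx (cz g hg _ (hl k hk v))).symm ▸ hl k hk v : g * (k * ψ v * k⁻¹ * ψ (l k v)) * g⁻¹ ∈ zpowers u)
      (hl g hg (l k v))
    convert this using 1
    calc _ = g * (k * ψ v * k⁻¹ * (ψ (l k v) * ψ (l k v))) * g⁻¹ * ψ (l g (l k v)) := by rw [ψ2]; group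
      _ = _ := by group
  have lker : ∀ g ∈ H, (∀ v, l g v = v) ↔ g ∈ Q := fun g hg => by
    refine ⟨fun e => h.ker g hg fun p hp => ?_, fun hq v => lex g hg v v (fx (h.QA g hq _ (mψ v)))⟩
    obtain ⟨v, hv⟩ := memA p hp
    have h1 := hl g hg v
    rw [e] at h1
    have := mul_mem (mul_mem ((fx (cz g hg _ hv)).symm ▸ hv : g * (p * ψ v) * g⁻¹ ∈ zpowers u) h1) (inv_mem hv)
    convert this using 1
    calc _ = g * (p * (ψ v * ψ v)) * g⁻¹ * p⁻¹ := by rw [ψ2]; group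
      _ = _ := by group
  have l1 : ∀ v, l 1 v = v := (lker 1 (one_mem _)).2 (one_mem _)
  have rel : ∀ {g k g' k' : G}, g ∈ H → k ∈ H → g' ∈ H → k' ∈ H → g * k = g' * k' → ∀ v, l g (l k v) = l g' (l k' v) :=
    fun hg hk hg' hk' e v => by rw [← lmul _ hg _ hk, ← lmul _ hg' _ hk', e]
  have inv2 : ∀ {g : G}, g ∈ H → g * g = 1 → ∀ v, l g (l g v) = v := fun hg e v => by rw [← lmul _ hg _ hg, e, l1]
  have lx : ∀ v, l x v = sa β1 v := fun v => lex x h.xH v _ (ax v)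
  have ly : ∀ v, l y v = sa β2 v := fun v => lex y h.yH v _ (ay v)
  have lz : ∀ v, l z v = sa β3 v := fun v => lex z h.zH v _ (az v)
  have cx : ∀ {g : G}, g ∈ H → g * g = 1 → Commute g x → l g e1 = e1 ∧ l g f1 = f1 := fun hg e c =>
    pl1.fix (inv2 hg e) fun v => by rw [← lx, ← lx, rel hg h.xH h.xH hg c]
  have cy : ∀ {g : G}, g ∈ H → g * g = 1 → Commute g y → l g e2 = e2 ∧ l g f2 = f2 := fun hg e c =>
    pl2.fix (inv2 hg e) fun v => by rw [← ly, ← ly, rel hg h.yH h.yH hg c]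
  have cz' : ∀ {g : G}, g ∈ H → g * g = 1 → Commute g z → l g e3 = e3 ∧ l g f3 = f3 := fun hg e c =>
    pl3.fix (inv2 hg e) fun v => by rw [← lz, ← lz, rel hg h.zH h.zH hg c]
  have lr : l r = saH t1 := by
    obtain ⟨k1, k2, k3, k4, k5, k6⟩ := vt1
    have e0 : l r e1 = e1 := lex r h.rH _ _ (by rw [p1, fx h.fr.symm])
    refine hom_extE (e0.trans k1.symm) (Eq.trans ?_ k2.symm) ((cy h.rH h.r2 h.ry).1.trans k3.symm)
      ((cy h.rH h.r2 h.ry).2.trans k4.symm) ((cz' h.rH h.r2 h.rz).1.trans k5.symm) ((cz' h.rH h.r2 h.rz).2.trans k6.symm)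
    have := rel h.rH h.xH (mul_mem h.xH h.xH) h.rH (by
      rw [eq_inv_of_mul_eq_one_left (show x * x * x = 1 by rw [← h.x3, pow_three']), ← h.rx, inv_mul_cancel_right]) e1
    rwa [lmul _ h.xH _ h.xH, e0, lx, lx, vβ1.1, vβ1.2.1] at this
  have lS : l S = saH s12 := by
    obtain ⟨k1, k2, k3, k4, k5, k6⟩ := vs12
    have e0 : l S e1 = e2 := lex S h.SH _ _ (by rw [p1, p3])
    have e1 : l S f1 = f2 := by
      have := rel h.SH h.xH h.yH h.SH (mul_inv_eq_iff_eq_mul.1 h.Sx) e1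
      rwa [e0, lx, ly, vβ1.1, vβ2.2.2.1] at this
    exact hom_extE (e0.trans k1.symm) (e1.trans k2.symm) ((e0 ▸ inv2 h.SH h.S2 _).trans k3.symm)
      ((e1 ▸ inv2 h.SH h.S2 _).trans k4.symm) ((cz' h.SH h.S2 h.Sz).1.trans k5.symm) ((cz' h.SH h.S2 h.Sz).2.trans k6.symm)
  have lS' : l S' = saH s23 := by
    obtain ⟨k1, k2, k3, k4, k5, k6⟩ := vs23
    have e0 : l S' e2 = e3 := lex S' h.SH' _ _ (by rw [p3, p5])
    have e1 : l S' f2 = f3 := by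
      have := rel h.SH' h.yH h.zH h.SH' (mul_inv_eq_iff_eq_mul.1 h.Sy') e2
      rwa [e0, ly, lz, vβ2.2.2.1, vβ3.2.2.2.2.1] at this
    exact hom_extE ((cx h.SH' h.S2' h.Sx').1.trans k1.symm) ((cx h.SH' h.S2' h.Sx').2.trans k2.symm) (e0.trans k3.symm)
      (e1.trans k4.symm) ((e0 ▸ inv2 h.SH' h.S2' _).trans k5.symm) ((e1 ▸ inv2 h.SH' h.S2' _).trans k6.symm)
  refine ⟨ψ, l, p1, p2, p3, p4, p5, p6, fun g => ⟨fun hg => (memA g hg).imp fun v => (rz g v).1, ?_⟩, ind,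
    fun g hg v => (rz _ _).1 (hl g hg v), lmul, lker, MonoidHom.ext lx, MonoidHom.ext ly, MonoidHom.ext lz, lr, lS,
    lS', ?_⟩
  · rintro ⟨v, rfl | rfl⟩
    exacts [mψ v, mul_mem m0 (mψ v)]
  have c3 : ∀ v, sa β3 (l a v) = l a (sa β3 v) := fun v => by rw [← lz, ← lz, rel h.aH h.zH h.zH h.aH h.az]
  have c1 : ∀ v, sa t1 (l a v) = l a (sa t1 v) := fun v => by
    have := rel h.aH h.rH h.rH h.aH h.ar v
    rw [lr] at this
    exact this.symm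
  have cs : ∀ v, sa s12 (l a v) = l a (sa s12 v) := fun v => by
    have := rel h.aH h.SH h.SH h.aH h.aS v
    rw [lS] at this
    exact this.symm
  have ea : ap6 (l a e1) (l a f1) (sa s12 (l a e1)) (sa s12 (l a f1)) e3 f3 = l a := by
    obtain ⟨k1, k2, k3, k4, k5, k6⟩ := ap6_vals (l a e1) (l a f1) (sa s12 (l a e1)) (sa s12 (l a f1)) e3 f3
    exact hom_extE k1 k2 (by rw [k3, cs, vs12.1]) (by rw [k4, cs, vs12.2.1]) (k5.trans (cz' h.aH h.a2 h.az).1.symm)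
      (k6.trans (cz' h.aH h.a2 h.az).2.symm)
  have axH := mul_mem h.aH h.xH
  have lax : ∀ v, l (a * x) v = l a (sa β1 v) := fun v => by rw [lmul _ h.aH _ h.xH, lx]
  have lax2 : ∀ v, l ((a * x) ^ 2) v = l a (sa β1 (l a (sa β1 v))) := fun v => by
    rw [pow_two, lmul _ axH _ axH, lax, lax]
  have := solve (l a e1) (by rw [c3, vβ3.1]) (by rw [c1, vt1.1]) (l a f1) (by rw [c3, vβ3.2.1])
    (by rw [c1, vt1.2.1, map_mul]) (by rw [ea, inv2 h.aH h.a2]) (by rw [ea, inv2 h.aH h.a2]) (by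
      have := inv2 (pow_mem axH 2) (by rw [← pow_add]; exact h.a4) e1
      rw [lax2, lax2, vβ1.1] at this
      rw [ea]
      exact this)
  rw [ea] at this
  refine MonoidHom.ext (this.resolve_right fun e => ?_)
  have q1 : ∀ v, l ((a * x) ^ 2) v = v := fun v => (lax2 v).trans (e v)
  have q2 : y * (a * x) ^ 2 * y⁻¹ ∈ Q := (lker _ (mul_mem (mul_mem h.yH (pow_mem axH 2)) (inv_mem h.yH))).1 fun v => by
    rw [lmul _ (mul_mem h.yH (pow_mem axH 2)) _ (inv_mem h.yH), lmul _ h.yH _ (pow_mem axH 2), q1,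
      ← lmul _ h.yH _ (inv_mem h.yH), mul_inv_cancel, l1]
  obtain ⟨k, hk⟩ := isPGroup_iff_mem.1 h.Q2 _ (mul_mem ((lker _ (pow_mem axH 2)).1 q1) q2)
  have := Nat.Prime.dvd_of_dvd_pow Nat.prime_three (h.ao ▸ orderOf_dvd_of_pow_eq_one hk)
  omega

end CfsgLib.S86
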