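import Cfsg.Agent.Lib.S86.MB

/-! The local structure of a chart (project S86, see plans/S86.md). -/

set_option autoImplicit false
set_option maxRecDepth 100000
set_option Elab.async false
set_option linter.unusedSectionVars false

namespace CfsgLib.S86

open Subgroup CfsgLib.W2 CfsgLib.Tech CfsgLib.PComp CfsgLib.Rec3C CfsgLib.Rec3C.V4
open CfsgLib.Rec3B (V81)
open CfsgLib.L72 (Nm IsQ Oc)

variable {G : Type*} [Group G] [Finite G]

variable {b : G} {φ : SM →* G} {ev : V81 →* G}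

omit [Finite G] in
theorem loc_cj {g x : G} (h : Commute g x) : g * x * g⁻¹ = x := by rw [h.eq, mul_inv_cancel_right]

omit [Finite G] in
theorem loc_cm {g x : G} (h : g * x * g⁻¹ = x) : Commute g x := mul_inv_eq_iff_eq_mul.1 h

theorem loc_nat {g x : G} (h : g ∈ zpowers x) : ∃ i : ℕ, x ^ i = g :=
  (Submonoid.mem_powers_iff _ _).1 (mem_powers_iff_mem_zpowers.2 h)

theorem loc_B0 (i j k : ℕ) : β1 ^ i * β2 ^ j * β3 ^ k ∈ B0 :=
  mul_mem (mul_mem (pow_mem (subset_closure (by simp)) _) (pow_mem (subset_closure (by simp)) _))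
    (pow_mem (subset_closure (by simp)) _)

theorem Ch0.loc_b3 (h : Ch0 b φ) : b ^ 3 = 1 := h.ord ▸ pow_orderOf_eq_one b

/-- the decomposition of an element of `N⟨x⟩` -/
theorem Ch0.dec (h : Ch0 b φ) {g : G} (hg : g * b * g⁻¹ = b ∨ g * b * g⁻¹ = b⁻¹) : ∃ (k : G) (M : SM), g = k * φ M ∧
    (∀ m, Commute k (φ m)) ∧ k * b * k⁻¹ = g * b * g⁻¹ ∧ (∀ m, g * φ m * g⁻¹ = φ (M * m * M⁻¹)) ∧
      ∀ n : ℕ, g ^ n = 1 → M ^ n = 1 ∧ k ^ n = 1 := by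
  obtain ⟨M, hM⟩ := h.nrm g hg
  have c : ∀ m, Commute (g * (φ M)⁻¹) (φ m) := fun m => by
    have e := hM (M⁻¹ * m * M)
    rw [show M * (M⁻¹ * m * M) * M⁻¹ = m by group, map_mul, map_mul, map_inv] at e
    show _ = _
    calc g * (φ M)⁻¹ * φ m = g * ((φ M)⁻¹ * φ m * φ M) * g⁻¹ * (g * (φ M)⁻¹) := by group
      _ = _ := by rw [e]
  refine ⟨g * (φ M)⁻¹, M, by group, c, ?_, hM, fun n hn => ?_⟩
  · rw [mul_assoc g, ← (h.comm M).inv_right.eq]; group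
  · have e : (g * (φ M)⁻¹) ^ n * φ (M ^ n) = 1 := by
      rw [map_pow, ← (c M).mul_pow, inv_mul_cancel_right, hn]
    have e1 : M ^ n = 1 := center_SM _ fun m => h.inj (by
      rw [map_mul, map_mul, eq_inv_of_mul_eq_one_right e]
      exact ((c m).pow_left n).inv_left.eq)
    exact ⟨e1, by rwa [e1, map_one, mul_one] at e⟩

theorem Ch0.three0 (h : Ch0 b φ) {k : G} (hk : Commute k b) (hc : ∀ m, Commute k (φ m)) (h3 : k ^ 3 = 1) :
    k ∈ zpowers b := by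
  have hx3 : b ^ 3 = 1 := h.loc_b3
  have hm : ∀ g ∈ closure ({b, k} : Set G), g ^ 3 = 1 ∧ ∀ m, Commute g (φ m) := fun g hg => by
    obtain ⟨i, j, -, -, rfl⟩ := L72.Gen_mem hx3 h3 hk.symm hg
    refine ⟨?_, fun m => ((h.comm m).pow_left i).mul_left ((hc m).pow_left j)⟩
    rw [(hk.symm.pow_pow i j).mul_pow, ← pow_mul, ← pow_mul, mul_comm i, mul_comm j, pow_mul, pow_mul, hx3, h3,
      one_pow, one_pow, mul_one]
  have hcy := h.cyc (closure {b, k}) (isPGroup_iff_mem.2 fun g hg => ⟨1, (hm g hg).1⟩) fun g hg => (hm g hg).2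
  obtain ⟨c, hc⟩ := IsCyclic.exists_ofOrder_eq_natCard (α := closure ({b, k} : Set G))
  have h1 : Nat.card (closure ({b, k} : Set G)) ≤ 3 := by
    rw [← hc]
    exact Nat.le_of_dvd (by norm_num) (orderOf_dvd_of_pow_eq_one (Subtype.ext (hm c c.2).1))
  have h2 : zpowers b = closure {b, k} :=
    eq_of_le_of_card_ge (zpowers_le.2 (subset_closure (by simp))) (by rwa [Nat.card_zpowers, h.ord])
  rw [h2]
  exact subset_closure (by simp)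

theorem Ch0.elt3 (h : Ch0 b φ) {g : G} (hg : Commute g b) (h3 : g ^ 3 = 1) :
    ∃ (i : ℕ) (m : SM), g = b ^ i * φ m ∧ m ^ 3 = 1 := by
  obtain ⟨k, M, e, k1, k2, -, k3⟩ := h.dec (.inl (loc_cj hg))
  obtain ⟨i, rfl⟩ := loc_nat (h.three0 (loc_cm (k2.trans (loc_cj hg))) k1 (k3 3 h3).2)
  exact ⟨i, M, e, (k3 3 h3).1⟩

theorem Ch0.pow_mem (h : Ch0 b φ) {g : G} (hg : g ∈ zpowers b) (hr : g ∈ φ.range) : g = 1 := by
  obtain ⟨i, rfl⟩ := loc_nat hg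
  obtain ⟨m, hm⟩ := hr
  rw [← hm, center_SM m fun k => h.inj (by
    rw [map_mul, map_mul, hm]
    exact ((h.comm k).pow_left i).eq), map_one]

theorem Bd0.ev_eq (h : Bd0 b φ ev) (v : V81) :
    ev v = φ (β1 ^ (v.v % 3) * β2 ^ (v.v / 3 % 3) * β3 ^ (v.v / 9 % 3)) * b ^ (v.v / 27) := by
  have k : ∀ v : V81, v = x1 ^ (v.v % 3) * x2 ^ (v.v / 3 % 3) * x3 ^ (v.v / 9 % 3) * x4 ^ (v.v / 27) := by
    decide +kernel
  conv_lhs => rw [k v]
  simp only [map_mul, map_pow, h.v1, h.v2, h.v3, h.v4]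

theorem Bd0.mem_ev (h : Bd0 b φ ev) {g : G} : g ∈ ev.range ↔ ∃ i : ℕ, ∃ m ∈ B0, g = b ^ i * φ m := by
  constructor
  · rintro ⟨v, rfl⟩
    exact ⟨_, _, loc_B0 _ _ _, (h.ev_eq v).trans ((h.comm _).pow_left _).eq.symm⟩
  · rintro ⟨i, m, hm, rfl⟩
    have k : B0 ≤ ev.range.comap φ := (closure_le _).2 (by
      rintro _ (rfl | rfl | rfl)
      exacts [⟨x1, h.v1⟩, ⟨x2, h.v2⟩, ⟨x3, h.v3⟩])
    exact mul_mem (pow_mem (MonoidHom.mem_range.2 ⟨x4, h.v4⟩) i) (k hm)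

theorem Bd0.mem_B0 (h : Bd0 b φ ev) {g : G} : g ∈ B0.map φ ↔ ∃ v : V81, v.v < 27 ∧ ev v = g := by
  constructor
  · rintro ⟨m, hm, rfl⟩
    obtain ⟨i, j, k, rfl⟩ := S86.mem_B0.1 hm
    refine ⟨x1 ^ i.1 * x2 ^ j.1 * x3 ^ k.1, ?_, by simp only [map_mul, map_pow, h.v1, h.v2, h.v3]⟩
    clear hm
    revert i j k
    decide +kernel
  · rintro ⟨v, hv, rfl⟩
    rw [h.ev_eq, Nat.div_eq_of_lt hv, pow_zero, mul_one]
    exact mem_map_of_mem _ (loc_B0 _ _ _)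

theorem Bd0.vals (h : Bd0 b φ ev) : ev cc = φ c0 ∧ ev yy = φ y0 ∧ ev zz = φ z0 := by
  obtain ⟨e1, -, -, -, -, -, -, e2, e3⟩ := vals4
  obtain ⟨-, -, -, d1, d2, d3, -⟩ := S86.vals
  rw [e2, e3, e1, d1, d2, d3]
  simp only [map_mul, map_inv, h.v1, h.v2, h.v3, and_self]

theorem Bd0.conj_into (h : Bd0 b φ ev) (R : Subgroup G) (hb : ∀ r ∈ R, Commute r b) (h3 : ∀ r ∈ R, r ^ 3 = 1)
    (hc : ∀ r ∈ R, ∀ s ∈ R, Commute r s) : ∃ m : SM, ∀ r ∈ R, φ m * r * (φ m)⁻¹ ∈ ev.range := by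
  let R' : Subgroup SM :=
    { carrier := {m | ∃ i : ℤ, b ^ i * φ m ∈ R}
      one_mem' := ⟨0, by simp⟩
      mul_mem' := fun {m n} ⟨i, hi⟩ ⟨j, hj⟩ => ⟨i + j, by
        rw [zpow_add, map_mul, ((h.comm m).zpow_left j).mul_mul_mul_comm]
        exact mul_mem hi hj⟩
      inv_mem' := fun {m} ⟨i, hi⟩ => ⟨-i, by
        rw [zpow_neg, map_inv, ← _root_.mul_inv_rev, ← ((h.comm m).zpow_left i).eq]
        exact inv_mem hi⟩ }
  obtain ⟨g, hg⟩ := into_B0 R' (fun m ⟨i, hi⟩ => h.inj (by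
      have e := h3 _ hi
      rwa [((h.comm m).zpow_left i).mul_pow, ← zpow_natCast, ← zpow_mul, mul_comm, zpow_mul, zpow_natCast,
        h.loc_b3, one_zpow, one_mul, ← map_pow, ← map_one φ] at e))
    fun m ⟨i, hi⟩ n ⟨j, hj⟩ => h.inj (by
      have c1 : Commute (b ^ i * φ m) (φ n) := by
        have := ((hb _ hi).zpow_right j).inv_right.mul_right (hc _ hi _ hj)
        rwa [inv_mul_cancel_left] at this
      have c2 := ((h.comm n).zpow_left i).inv_left.mul_left c1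
      rw [inv_mul_cancel_left] at c2
      rw [map_mul, map_mul, c2.eq])
  refine ⟨g, fun r hr => ?_⟩
  obtain ⟨i, m, e, -⟩ := h.elt3 (hb r hr) (h3 r hr)
  refine h.mem_ev.2 ⟨i, _, hg m ⟨i, by rw [zpow_natCast, ← e]; exact hr⟩, ?_⟩
  rw [e, map_mul, map_mul, map_inv, ← mul_assoc, ← ((h.comm g).pow_left i).eq]
  simp only [mul_assoc]

omit [Finite G] in
theorem act4_of_nm {g : G} (hg : g ∈ Nm ev.range) : ∃ p q r s, Act4 ev g p q r s := by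
  have k : ∀ v, ∃ p, g * ev v * g⁻¹ = ev p := fun v =>
    (conj_mem_of_mem_normalizer hg ⟨v, rfl⟩).imp fun _ e => e.symm
  obtain ⟨p, hp⟩ := k x1
  obtain ⟨q, hq⟩ := k x2
  obtain ⟨r, hr⟩ := k x3
  obtain ⟨s, hs⟩ := k x4
  exact ⟨p, q, r, s, hp, hq, hr, hs⟩

theorem nm_of_act4 {g : G} {p q r s : V81} (h : Act4 ev g p q r s) : g ∈ Nm ev.range := by
  refine mem_normalizer_of_forall ?_
  rintro _ ⟨v, rfl⟩
  exact ⟨_, (h.ap v).symm⟩

theorem Bd0.trans (h : Bd0 b φ ev) {v : V81} (hc : IsConj b (ev v)) : ∃ g p q r, Act4 ev g p q r v := by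
  obtain ⟨g, hg⟩ := isConj_iff.1 hc
  have cm : ∀ u w, Commute (ev u) (ev w) := fun u w => Commute.map (Rec3B.W4.V_comm u w) ev
  obtain ⟨c, c2⟩ := h.conj_into (cj g⁻¹ ev.range) (by
      rintro _ ⟨_, ⟨u, rfl⟩, rfl⟩
      simpa using comm_cj (hg ▸ cm u v))
    (by
      rintro _ ⟨_, ⟨u, rfl⟩, rfl⟩
      rw [← map_pow, ← map_pow, show u ^ 3 = 1 by rw [pow_succ, pow_two, Rec3B.W4.V_cube], map_one, map_one])
    (by
      rintro _ ⟨_, ⟨u, rfl⟩, rfl⟩ _ ⟨_, ⟨w, rfl⟩, rfl⟩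
      exact (cm u w).map _)
  have h1 : φ c * g⁻¹ ∈ Nm ev.range := mem_normalizer_of_forall fun y hy => by
    have := c2 _ (conj_mem_cj.2 hy)
    simpa [mul_assoc] using this
  obtain ⟨p, q, r, s, a⟩ := act4_of_nm (inv_mem h1)
  obtain rfl : s = v := h.einj (by
    rw [← a.2.2.2, h.v4, ← hg]
    calc _ = g * ((φ c)⁻¹ * b * φ c) * g⁻¹ := by group
      _ = _ := by rw [mul_assoc (φ c)⁻¹, (h.comm c).eq, inv_mul_cancel_left])
  exact ⟨_, p, q, r, a⟩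

/-- `N(B) ∩ N⟨b⟩` is monomial -/
theorem Bd0.viol (h : Bd0 b φ ev) {p q r s : V81} (hr : Re ev p q r s) (hs : s = x4 ∨ s = x4⁻¹) :
    p ∈ L6 ∧ q ∈ L6 ∧ r ∈ L6 := by
  obtain ⟨g, a1, a2, a3, a4⟩ := hr
  obtain ⟨M, hM⟩ := h.nrm g (by
    rw [h.v4] at a4
    rcases hs with rfl | rfl
    exacts [.inl (a4.trans h.v4), .inr (by rw [a4, map_inv, h.v4])])
  have key : ∀ {p : V81} {β : SM}, IsConj β1 β → g * φ β * g⁻¹ = ev p → p ∈ L6 := fun {p β} c e => by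
    rw [hM] at e
    obtain ⟨i, m, hm, e1⟩ := h.mem_ev.1 ⟨p, rfl⟩
    have e2 : b ^ i = 1 := h.pow_mem (pow_mem (mem_zpowers b) i)
      ⟨M * β * M⁻¹ * m⁻¹, by rw [map_mul, e, e1, map_inv, mul_inv_cancel_right]⟩
    rw [e2, one_mul] at e1
    have k := conj_β hm (c.trans (isConj_iff.2 ⟨M, h.inj (e.trans e1)⟩))
    simp only [List.mem_cons, List.not_mem_nil, or_false, L6] at k ⊢
    simp only [← h.einj.eq_iff, e1, map_inv ev, h.v1, h.v2, h.v3, ← map_inv φ, h.inj.eq_iff]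
    exact k
  exact ⟨key (IsConj.refl _) (h.v1 ▸ a1), key (isConj_iff.2 ⟨s12, by decide +kernel⟩) (h.v2 ▸ a2),
    key (isConj_iff.2 ⟨s13, by decide +kernel⟩) (h.v3 ▸ a3)⟩

theorem Bd0.act_M (h : Bd0 b φ ev) : Act4 ev (φ t1) x1⁻¹ x2 x3 x4 ∧ Act4 ev (φ t2) x1 x2⁻¹ x3 x4 ∧
    Act4 ev (φ t3) x1 x2 x3⁻¹ x4 ∧ Act4 ev (φ s12) x2 x1 x3 x4 ∧ Act4 ev (φ s13) x3 x2 x1 x4 ∧
    Act4 ev (φ s23) x1 x3 x2 x4 ∧ Act4 ev (φ α0) x2 x3 x1 x4 := by
  have k : ∀ {m : SM} {p q r : V81} {a c d : SM}, ev p = φ a → ev q = φ c → ev r = φ d →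
      m * β1 * m⁻¹ = a ∧ m * β2 * m⁻¹ = c ∧ m * β3 * m⁻¹ = d → Act4 ev (φ m) p q r x4 :=
    fun {m p q r a c d} e1 e2 e3 e => by
      rw [Act4, e1, e2, e3, h.v1, h.v2, h.v3, h.v4, ← e.1, ← e.2.1, ← e.2.2]
      simp only [map_mul, map_inv, true_and]
      exact loc_cj (h.comm m).symm
  have i1 : ev x1⁻¹ = φ β1⁻¹ := by rw [map_inv, map_inv, h.v1]
  have i2 : ev x2⁻¹ = φ β2⁻¹ := by rw [map_inv, map_inv, h.v2]
  have i3 : ev x3⁻¹ = φ β3⁻¹ := by rw [map_inv, map_inv, h.v3]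
  exact ⟨k i1 h.v2 h.v3 (by decide +kernel), k h.v1 i2 h.v3 (by decide +kernel), k h.v1 h.v2 i3 (by decide +kernel),
    k h.v2 h.v1 h.v3 (by decide +kernel), k h.v3 h.v2 h.v1 (by decide +kernel), k h.v1 h.v3 h.v2 (by decide +kernel),
    k h.v2 h.v3 h.v1 (by decide +kernel)⟩

theorem Bd0.loc_comm (h : Bd0 b φ ev) {k : G} (hk : Commute k b) (hc : ∀ m, Commute k (φ m)) (v : V81) :
    Commute k (ev v) := h.ev_eq v ▸ (hc _).mul_right (hk.pow_right _)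

/-- the decomposition of an element of `C(B)` -/
theorem Bd0.loc_dec (h : Bd0 b φ ev) {g : G} (hg : ∀ v, Commute g (ev v)) : ∃ (k : G) (M : SM), g = k * φ M ∧ M ∈ B0 ∧
    Commute k b ∧ (∀ m, Commute k (φ m)) ∧ ∀ n : ℕ, g ^ n = 1 → M ^ n = 1 ∧ k ^ n = 1 := by
  have e := loc_cj (h.v4 ▸ hg x4)
  obtain ⟨k, M, e1, k1, k2, k3, k4⟩ := h.dec (.inl e)
  have c : ∀ {m}, Commute g (φ m) → Commute M m := fun {m} c => loc_cm (h.inj ((k3 m).symm.trans (loc_cj c)))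
  exact ⟨k, M, e1, cB0 (c (h.v1 ▸ hg x1)) (c (h.v2 ▸ hg x2)) (c (h.v3 ▸ hg x3)), loc_cm (k2.trans e), k1, k4⟩

theorem Bd.loc_odd (h : Bd b φ ev) {k : G} (hk : Commute k b) (hc : ∀ m, Commute k (φ m)) : Odd (orderOf k) := by
  refine Nat.not_even_iff_odd.1 fun ⟨t, ht⟩ => ?_
  have h1 := orderOf_pos k
  have h2 := h.od (k ^ t) (hk.pow_left t) (fun m => (hc m).pow_left t) (by rw [← pow_add, ← ht, pow_orderOf_eq_one])
  have h3 := Nat.le_of_dvd (by omega) (orderOf_dvd_of_pow_eq_one h2)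
  omega

/-- a 2-element of `C(b)` lies in the component -/
theorem Bd.two (h : Bd b φ ev) {g : G} (hg : Commute g b) {n : ℕ} (h2 : g ^ 2 ^ n = 1) : g ∈ φ.range := by
  obtain ⟨k, M, e, k1, k2, -, k3⟩ := h.dec (.inl (loc_cj hg))
  have k4 : orderOf k = 1 := (Nat.coprime_self _).1 (Nat.Coprime.coprime_dvd_right
    (orderOf_dvd_of_pow_eq_one (k3 _ h2).2) ((h.loc_odd (loc_cm (k2.trans (loc_cj hg))) k1).coprime_two_right.pow_right n))
  rw [orderOf_eq_one_iff.1 k4, one_mul] at e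
  exact ⟨M, e.symm⟩

theorem Bd.elt3n (h : Bd b φ ev) {g : G} (hg : Commute g b) {n : ℕ} (h3 : g ^ 3 ^ n = 1) :
    ∃ (i : ℕ) (m : SM), g = b ^ i * φ m ∧ m ^ 3 ^ n = 1 := by
  obtain ⟨k, M, e, k1, k2, -, k3⟩ := h.dec (.inl (loc_cj hg))
  obtain ⟨i, rfl⟩ := loc_nat (h.three k (loc_cm (k2.trans (loc_cj hg))) k1 n (k3 _ h3).2)
  exact ⟨i, M, e, (k3 _ h3).1⟩

theorem Bd.cent_B (h : Bd b φ ev) {g : G} (hg : ∀ v, Commute g (ev v)) {n : ℕ} (h3 : g ^ 3 ^ n = 1) :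
    g ∈ ev.range := by
  obtain ⟨k, M, e, hM, k1, k2, k3⟩ := h.loc_dec hg
  obtain ⟨i, rfl⟩ := loc_nat (h.three k k1 k2 n (k3 _ h3).2)
  exact h.mem_ev.2 ⟨i, M, hM, e⟩

/-- the `3'`-elements of `C(B)` have odd order and centralise the component -/
theorem Bd.theta (h : Bd b φ ev) {k : G} (hk : ∀ v, Commute k (ev v)) (h3 : (orderOf k).Coprime 3) :
    (∀ m, Commute k (φ m)) ∧ Odd (orderOf k) := by
  obtain ⟨k', M, e, hM, k1, k2, k3⟩ := h.loc_dec hk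
  have e1 : M = 1 := by
    have := pow_gcd_eq_one.2 ⟨(k3 _ (pow_orderOf_eq_one k)).1, B0_facts.1 M hM⟩
    rwa [h3, pow_one] at this
  rw [e1, map_one, mul_one] at e
  subst e
  exact ⟨k2, h.loc_odd k1 k2⟩

theorem Bd.cent_dec (h : Bd b φ ev) {g : G} (hg : ∀ v, Commute g (ev v)) :
    ∃ k v, g = k * ev v ∧ (∀ v, Commute k (ev v)) ∧ (orderOf k).Coprime 3 := by
  obtain ⟨k, M, e, hM, k1, k2, -⟩ := h.loc_dec hg
  obtain ⟨a, n, hn, ho⟩ := Nat.exists_eq_pow_mul_and_not_dvd (orderOf_pos k).ne' 3 (by norm_num)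
  have cp : n.Coprime 3 := ((Nat.Prime.coprime_iff_not_dvd Nat.prime_three).2 hn).symm
  obtain ⟨j, l, hjl⟩ := Nat.Coprime.isCoprime (cp.symm.pow_left a)
  have h3 : k ^ n ∈ zpowers b := h.three _ (k1.pow_left n) (fun m => (k2 m).pow_left n) a
    (by rw [← pow_mul, mul_comm, ← ho, pow_orderOf_eq_one])
  obtain ⟨i, hi⟩ := loc_nat (zpow_mem h3 l)
  obtain ⟨v, hv⟩ := h.mem_ev.2 ⟨i, M, hM, rfl⟩
  refine ⟨(k ^ 3 ^ a) ^ j, v, ?_, fun u => ((h.loc_comm k1 k2 u).pow_left _).zpow_left j,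
    Nat.Coprime.coprime_dvd_left (orderOf_dvd_of_pow_eq_one ?_) cp⟩
  · rw [hv, hi, ← mul_assoc, ← zpow_natCast, ← zpow_natCast, ← zpow_mul, ← zpow_mul, ← zpow_add, mul_comm _ j,
      mul_comm _ l, hjl, zpow_one, e]
  · rw [← zpow_natCast, ← zpow_mul, mul_comm, zpow_mul, zpow_natCast, ← pow_mul, ← ho, pow_orderOf_eq_one, one_zpow]

/-- the `3'`-elements of `C(B)` centralise the 2-elements of `C(x)` for every conjugate `x` of `b` in `B` -/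
theorem Bd.theta_two (h : Bd b φ ev) {k : G} (hk : ∀ v, Commute k (ev v)) (h3 : (orderOf k).Coprime 3) {v : V81}
    (hv : Oc b (ev v)) {g : G} (hg : Commute g (ev v)) {n : ℕ} (h2 : g ^ 2 ^ n = 1) : Commute k g := by
  have key : ∀ v, IsConj b (ev v) → Commute g (ev v) → Commute k g := fun v c hg => by
    obtain ⟨c, p, q, r, a⟩ := h.trans c
    obtain ⟨m, hm⟩ := h.two (g := c⁻¹ * g * c) (n := n) (comm_cj (by rwa [← h.v4, a.2.2.2]))
      (by rw [← inv_inv c, inv_inv c⁻¹, conj_pow, h2, mul_one, mul_inv_cancel])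
    have k1 := (h.theta (k := c⁻¹ * k * c) (fun u => comm_cj (a.ap u ▸ hk _)) (by
      rwa [← (MulAut.conj c⁻¹).orderOf_eq k, MulAut.conj_apply, inv_inv] at h3)).1 m
    rw [hm] at k1
    simpa [mul_assoc] using k1.map (MulAut.conj c)
  rcases hv with c | c
  · exact key v c hg
  · exact key v⁻¹ (by rwa [map_inv]) (by rw [map_inv]; exact hg.inv_right)

theorem Bd.kt (h : Bd b φ ev) (th : Th ev) {k : G} (hk : Commute k b) (hc : ∀ m, Commute k (φ m)) : k ∈ zpowers b := by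
  obtain ⟨k', v, e, k1, k2⟩ := h.cent_dec (h.loc_comm hk hc)
  rw [th k' k1 k2, one_mul] at e
  exact h.three0 hk hc (by rw [e, ← map_pow, show v ^ 3 = 1 by rw [pow_succ, pow_two, Rec3B.W4.V_cube], map_one])

theorem Bd.exists_t0 (h : Bd b φ ev) (hr : Rw ev r4) :
    ∃ t : G, t * t = 1 ∧ t * b * t⁻¹ = b⁻¹ ∧ ∀ m, Commute t (φ m) := by
  obtain ⟨g, hg⟩ := hr
  have e : g * b * g⁻¹ = b⁻¹ := by
    rw [← h.v4, hg, show act r4 x4 = x4⁻¹ by decide +kernel, map_inv]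
  obtain ⟨k, M, -, k1, k2, -⟩ := h.dec (.inr e)
  rw [e] at k2
  have c : Commute (k * k) b := loc_cm (by
    rw [show k * k * b * (k * k)⁻¹ = k * (k * b * k⁻¹) * k⁻¹ by group, k2, ← conj_inv, k2, inv_inv])
  obtain ⟨j, hj⟩ := h.loc_odd c fun m => (k1 m).mul_left (k1 m)
  refine ⟨k ^ (2 * j + 1), ?_, ?_, fun m => (k1 m).pow_left _⟩
  · rw [← (Commute.refl k).mul_pow, ← hj, pow_orderOf_eq_one]
  · rw [pow_succ, pow_mul, pow_two, show (k * k) ^ j * k * b * ((k * k) ^ j * k)⁻¹ =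
      (k * k) ^ j * (k * b * k⁻¹) * ((k * k) ^ j)⁻¹ by group, k2, loc_cj (c.pow_left j).inv_right]

end CfsgLib.S86
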