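import Cfsg.Agent.Lib.S86.Witt

/-! The centraliser of `z0` (project S86, see plans/S86.md). -/

set_option autoImplicit false
set_option maxRecDepth 100000
set_option Elab.async false
set_option linter.unusedSectionVars false

namespace CfsgLib.S86

open Subgroup CfsgLib.W2 CfsgLib.Tech CfsgLib.PComp CfsgLib.Rec3C CfsgLib.Rec3C.V4
open CfsgLib.Rec3B (V81)
open CfsgLib.L72 (Nm IsQ Oc)

variable {G : Type*} [Group G] [Finite G]

/-- the subgroup with a given list of elements -/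
def mcSub (l : List SM) (h1 : 1 ∈ l) (h : ∀ a ∈ l, a⁻¹ ∈ l ∧ ∀ b ∈ l, a * b ∈ l) : Subgroup SM where
  carrier := {m | m ∈ l}
  one_mem' := h1
  mul_mem' := fun ha hb => (h _ ha).2 _ hb
  inv_mem' := fun ha => (h _ ha).1

theorem mc_card {H : Subgroup SM} {l : List SM} (h : ∀ m, m ∈ H ↔ m ∈ l) (hn : l.Nodup) : Nat.card H = l.length := by
  have : (H : Set SM) = (l.toFinset : Set SM) := Set.ext fun m => by simpa using h m
  rw [← SetLike.coe_sort_coe, this, Nat.card_coe_set_eq, Set.ncard_coe_finset, List.toFinset_card_of_nodup hn]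

/-- the elements of `Q0` -/
noncomputable abbrev mcQ : List SM := [1, s12, q1, q1⁻¹, q2, q2⁻¹, q1 * q2, q2 * q1]

/-- the elements of `R0` -/
noncomputable def mcR : List SM := [
  oc 34630287489, oc 2172715524, oc 8657573904, oc 34629271746, oc 3263234316, oc 4497090576, oc 34631352387,
  oc 1132528392, oc 13019396112, oc 52079657154, oc 3267494664, oc 13019917344, oc 52078592067,
  oc 1136787972, oc 8657320992, oc 52077576321, oc 2176975116, oc 4496825376, oc 17986273347, oc 1128464652,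
  oc 4496569392, oc 17988354177, oc 2168652552, oc 13019649072, oc 17987289282, oc 3259171332, oc 8657839152]

/-- the elements of `Q0 ⟨β3⟩` -/
noncomputable def mcS : List SM := [
  oc 34630287489, oc 17987289217, oc 52078592129, oc 34628702724, oc 17985704452, oc 52077007364,
  oc 45461387742, oc 28814325246, oc 62913953262, oc 45459827547, oc 28812765051, oc 62912393067,
  oc 40264711662, oc 23617452510, oc 57704691198, oc 40263151467, oc 23615892315, oc 57703131003,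
  oc 50909918718, oc 34275245550, oc 68362287582, oc 50908358523, oc 34273685355, oc 68360727387]

theorem Q0_vals : q1 * q1 = s12 ∧ β3 * q1 * β3⁻¹ = q2 ∧ β3 * q2 * β3⁻¹ = q1 * q2 ∧ q1 * q2 * q1⁻¹ * q2⁻¹ = s12 ∧
    s12 * s12 = 1 ∧ s12 ≠ 1 := by decide +kernel

theorem mc_q1 : q1 ∈ Q0 := subset_closure (by simp)
theorem mc_q2 : q2 ∈ Q0 := subset_closure (by simp)
theorem mc_s12 : s12 ∈ Q0 := Q0_vals.1 ▸ mul_mem mc_q1 mc_q1
theorem mc_z0 : z0 ∈ R0 := subset_closure (by simp)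
theorem mc_y0 : y0 ∈ R0 := subset_closure (by simp)
theorem mc_α0 : α0 ∈ R0 := subset_closure (by simp)

theorem mem_Q0 {m : SM} : m ∈ Q0 ↔ m ∈ [1, s12, q1, q1⁻¹, q2, q2⁻¹, q1 * q2, q2 * q1] := by
  refine ⟨fun hm => ?_, fun hm => ?_⟩
  · have : Q0 ≤ mcSub mcQ (by decide +kernel) (by decide +kernel) := by
      rw [Q0, closure_le]
      exact fun x hx => (by decide +kernel : ∀ x ∈ [q1, q2], x ∈ mcQ) x (by simpa using hx)
    exact this hm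
  · simp only [List.mem_cons, List.not_mem_nil, or_false] at hm
    rcases hm with e | e | e | e | e | e | e | e <;> rw [e]
    exacts [one_mem _, mc_s12, mc_q1, inv_mem mc_q1, mc_q2, inv_mem mc_q2, mul_mem mc_q1 mc_q2, mul_mem mc_q2 mc_q1]

theorem card_Q0 : Nat.card Q0 = 8 := mc_card (fun _ => mem_Q0) (by decide +kernel)

theorem Q0_facts : ∀ m ∈ Q0, Commute m z0 ∧ Commute m s12 ∧ (m * m = 1 → m = 1 ∨ m = s12) ∧
    (Commute m β3 → m = 1 ∨ m = s12) ∧ (Commute m y0 → m = 1) := fun m hm =>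
  (by decide +kernel : ∀ m ∈ mcQ, Commute m z0 ∧ Commute m s12 ∧ (m * m = 1 → m = 1 ∨ m = s12) ∧
    (Commute m β3 → m = 1 ∨ m = s12) ∧ (Commute m y0 → m = 1)) m (mem_Q0.1 hm)

theorem β3_nQ0 : β3 ∈ Nm Q0 := mem_normalizer_of_forall fun m hm =>
  mem_Q0.2 ((by decide +kernel : ∀ m ∈ mcQ, β3 * m * β3⁻¹ ∈ mcQ) m (mem_Q0.1 hm))

theorem irr_Q0 {N : Subgroup SM} (h : N ≤ Q0) (hn : β3 ∈ Nm N) : N ≤ zpowers s12 ∨ N = Q0 := by
  by_cases h1 : N ≤ zpowers s12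
  · exact Or.inl h1
  obtain ⟨m, hm, h2⟩ := SetLike.not_le_iff_exists.1 h1
  have k : ∀ m ∈ mcQ, m = 1 ∨ m = s12 ∨ ∀ q ∈ [q1, q2], ∃ x ∈ [m, β3 * m * β3⁻¹, β3 * (β3 * m * β3⁻¹) * β3⁻¹],
      q = x ∨ q = x⁻¹ := by decide +kernel
  rcases k m (mem_Q0.1 (h hm)) with e | e | e
  · exact absurd (e ▸ one_mem _) h2
  · exact absurd (e ▸ mem_zpowers _) h2
  refine Or.inr (le_antisymm h ((closure_le _).2 fun q hq => ?_))
  obtain ⟨x, hx, e'⟩ := e q (by simpa using hq)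
  have m1 := conj_mem_of_mem_normalizer hn hm
  have : x ∈ N := by
    simp only [List.mem_cons, List.not_mem_nil, or_false] at hx
    rcases hx with e | e | e <;> rw [e]
    exacts [hm, m1, conj_mem_of_mem_normalizer hn m1]
  rcases e' with e' | e' <;> rw [e']
  exacts [this, inv_mem this]

theorem mc_R3 : ∀ m ∈ mcR, ∃ i j k : Fin 3, m = z0 ^ i.1 * y0 ^ j.1 * α0 ^ k.1 := by decide +kernel

theorem mc_memR {m : SM} : m ∈ R0 ↔ m ∈ mcR := by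
  refine ⟨fun hm => ?_, fun hm => ?_⟩
  · have : R0 ≤ mcSub mcR (by decide +kernel) (by decide +kernel) := by
      rw [R0, closure_le]
      exact fun x hx => (by decide +kernel : ∀ x ∈ [z0, y0, α0], x ∈ mcR) x (by simpa using hx)
    exact this hm
  · obtain ⟨i, j, k, rfl⟩ := mc_R3 m hm
    exact mul_mem (mul_mem (pow_mem mc_z0 _) (pow_mem mc_y0 _)) (pow_mem mc_α0 _)

theorem mem_R0 {m : SM} : m ∈ R0 ↔ ∃ i j k : Fin 3, m = z0 ^ i.1 * y0 ^ j.1 * α0 ^ k.1 := by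
  refine ⟨fun hm => mc_R3 m (mc_memR.1 hm), ?_⟩
  rintro ⟨i, j, k, rfl⟩
  exact mul_mem (mul_mem (pow_mem mc_z0 _) (pow_mem mc_y0 _)) (pow_mem mc_α0 _)

theorem card_R0 : Nat.card R0 = 27 := mc_card (fun _ => mc_memR) (by decide +kernel)

theorem mc_zp {m : SM} (h : m ∈ [1, z0, z0 * z0]) : m ∈ zpowers z0 := by
  simp only [List.mem_cons, List.not_mem_nil, or_false] at h
  rcases h with e | e | e <;> rw [e]
  exacts [one_mem _, mem_zpowers _, mul_mem (mem_zpowers _) (mem_zpowers _)]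

theorem R0_facts : ∀ m ∈ R0, m ^ 3 = 1 ∧ Commute m z0 ∧ (Commute m s12 → m ∈ zpowers z0) := fun m hm => by
  obtain ⟨h1, h2, h3⟩ := (by decide +kernel : ∀ m ∈ mcR, m ^ 3 = 1 ∧ Commute m z0 ∧
    (Commute m s12 → m ∈ [1, z0, z0 * z0])) m (mc_memR.1 hm)
  exact ⟨h1, h2, fun h => mc_zp (h3 h)⟩

theorem R0_vals : α0 * y0 * α0⁻¹ * y0⁻¹ ∈ zpowers z0 ∧ s12 * α0 * s12⁻¹ = α0⁻¹ ∧ s12 * y0 * s12⁻¹ = y0⁻¹ ∧
    Commute s12 β3 ∧ Commute s12 z0 ∧ α0 = s12 * s23 ∧ s13 = α0 * s12 :=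
  ⟨mc_zp (by decide +kernel), by decide +kernel⟩

/-- `Q0` permutes the four points of `R0 / ⟨z0⟩` transitively -/
theorem Q0_trans : ∀ w ∈ [α0, y0 * α0, y0 * α0⁻¹], ∃ q ∈ Q0, ∃ i : ℕ,
    q * y0 * q⁻¹ = w * z0 ^ i ∨ q * y0 * q⁻¹ = w⁻¹ * z0 ^ i := fun w hw => by
  obtain ⟨q, hq, i, e⟩ := (by decide +kernel : ∀ w ∈ [α0, y0 * α0, y0 * α0⁻¹], ∃ q ∈ mcQ, ∃ i : Fin 3,
    q * y0 * q⁻¹ = w * z0 ^ i.1 ∨ q * y0 * q⁻¹ = w⁻¹ * z0 ^ i.1) w hw
  exact ⟨q, mem_Q0.2 hq, i, e⟩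

theorem R0_gen {r : SM} (hr : r ∈ R0) (hn : r ∉ closure ({z0, y0} : Set SM)) : R0 ≤ closure {z0, y0, r} := by
  obtain ⟨i, j, k, e⟩ := mem_R0.1 hr
  have hz : z0 ∈ closure ({z0, y0, r} : Set SM) := subset_closure (by simp)
  have hy : y0 ∈ closure ({z0, y0, r} : Set SM) := subset_closure (by simp)
  have h1 : α0 ^ k.1 ∈ closure ({z0, y0, r} : Set SM) := by
    have := mul_mem (inv_mem (mul_mem (pow_mem hz i.1) (pow_mem hy j.1)))
      (subset_closure (by simp) : r ∈ closure ({z0, y0, r} : Set SM))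
    rwa [show (z0 ^ i.1 * y0 ^ j.1)⁻¹ * r = α0 ^ k.1 by rw [e, inv_mul_cancel_left]] at this
  have h2 : α0 ∈ closure ({z0, y0, r} : Set SM) := by
    rcases (by decide +kernel : ∀ k : Fin 3, α0 ^ k.1 = 1 ∨ α0 = α0 ^ k.1 ∨ α0 = (α0 ^ k.1)⁻¹) k with e' | e' | e'
    · refine absurd ?_ hn
      rw [e, e', mul_one]
      exact mul_mem (pow_mem (subset_closure (by simp)) _) (pow_mem (subset_closure (by simp)) _)
    · rwa [e']
    · rw [e']; exact inv_mem h1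
  rw [R0, closure_le]
  rintro _ (rfl | rfl | rfl)
  exacts [hz, hy, h2]

theorem mc_core : ∀ a : E64, bf a (sa z0 a) = true → ∀ c : E64,
    (bf a c = false ∧ bf (sa z0 a) c = false ∧ bf c (sa z0 c) = true) → ∀ e : E64,
    (bf a e = false ∧ bf (sa z0 a) e = false ∧ bf c e = false ∧ bf (sa z0 c) e = false ∧ bf e (sa z0 e) = true) →
    ∃ s ∈ mcS, mk a (sa z0 a) c (sa z0 c) e (sa z0 e) * s ∈ mcR := by decide +kernel

theorem mc_S : ∀ s ∈ mcS, s⁻¹ ∈ mcS ∧ ∃ q ∈ mcQ, ∃ j : Fin 3, s = q * β3 ^ j.1 := by decide +kernel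

theorem mc_dec {m : SM} (h : Commute m z0) : ∃ r ∈ mcR, ∃ s ∈ mcS, m = r * s := by
  obtain ⟨v1, v2, v3⟩ : sa z0 e1 = f1 ∧ sa z0 e2 = f2 ∧ sa z0 e3 = f3 := by decide +kernel
  have k : ∀ v, sa z0 (sa m v) = sa m (sa z0 v) := fun v => by rw [← mul_sa, ← h.eq, mul_sa]
  obtain ⟨h1, h2, h3, -, -, h6, h7, h8, h9, h10, -, -, -, -, h15⟩ := sb_sa m
  have := mc_core (sa m e1) (by rwa [k, v1]) (sa m e2) (by rw [k, k, v1, v2]; exact ⟨h2, h3, h6⟩) (sa m e3)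
    (by rw [k, k, k, v1, v2, v3]; exact ⟨h7, h8, h9, h10, h15⟩)
  rw [k, k, k, v1, v2, v3, mk_sa] at this
  obtain ⟨s, hs, hr⟩ := this
  exact ⟨_, hr, s⁻¹, (mc_S s hs).1, by rw [mul_inv_cancel_right]⟩

theorem cz0 {m : SM} (h : Commute m z0) : ∃ r ∈ R0, ∃ q ∈ Q0, ∃ j : ℕ, m = r * q * β3 ^ j := by
  obtain ⟨r, hr, s, hs, e⟩ := mc_dec h
  obtain ⟨q, hq, j, e'⟩ := (mc_S s hs).2
  exact ⟨r, mc_memR.2 hr, q, mem_Q0.2 hq, j, by rw [e, e', mul_assoc]⟩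

theorem cz0s {m : SM} (h : Commute m z0) (h' : Commute m s12) : ∃ q ∈ Q0, ∃ i j : ℕ, m = q * z0 ^ i * β3 ^ j := by
  obtain ⟨r, hr, q, hq, j, e⟩ := cz0 h
  have h1 : Commute r s12 := by
    have := (h'.mul_left (R0_vals.2.2.2.1.symm.pow_left j).inv_left).mul_left (Q0_facts q hq).2.1.inv_left
    rwa [e, mul_inv_cancel_right, mul_inv_cancel_right] at this
  obtain ⟨i, rfl⟩ := mem_powers_iff_mem_zpowers.2 ((R0_facts r hr).2.2 h1)
  exact ⟨q, hq, i, j, by rw [e, ((Q0_facts q hq).1.pow_right i).eq]⟩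

theorem mc_QR : Q0 ≤ Nm R0 := by
  rw [Q0, closure_le]
  have k : ∀ q ∈ [q1, q2], ∀ m ∈ mcR, q * m * q⁻¹ ∈ mcR := by decide +kernel
  exact fun q hq => mem_normalizer_of_forall fun m hm => mc_memR.2 (k q (by simpa using hq) m (mc_memR.1 hm))

theorem nR0 : Cx z0 ≤ Nm R0 := by
  intro m hm
  obtain ⟨r, hr, q, hq, j, rfl⟩ := cz0 (mem_Cx.1 hm)
  refine mul_mem (mul_mem (le_normalizer hr) (mc_QR hq)) (pow_mem (mem_normalizer_of_forall fun m hm => ?_) j)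
  exact mc_memR.2 ((by decide +kernel : ∀ m ∈ mcR, β3 * m * β3⁻¹ ∈ mcR) m (mc_memR.1 hm))

theorem s12_R0 {m : SM} (h : Commute m z0) : m * s12 * m⁻¹ * s12 ∈ R0 := by
  obtain ⟨r, hr, q, hq, j, rfl⟩ := cz0 h
  have h1 : Commute (q * β3 ^ j) s12 := (Q0_facts q hq).2.1.mul_left (R0_vals.2.2.2.1.symm.pow_left j)
  have h2 := mul_mem hr (conj_mem_of_mem_normalizer (mc_QR mc_s12) (inv_mem hr))
  rw [inv_eq_of_mul_eq_one_right Q0_vals.2.2.2.2.1] at h2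
  have e : r * q * β3 ^ j * s12 * (r * q * β3 ^ j)⁻¹ * s12 = r * (q * β3 ^ j * s12 * (q * β3 ^ j)⁻¹ * r⁻¹ * s12) := by
    group
  rwa [e, h1.eq, mul_inv_cancel_right]

/-- `m ^ 4`, `m ^ 9` by few multiplications -/
noncomputable def mc4 (m : SM) : SM := (m ^ 2) ^ 2
noncomputable def mc9 (m : SM) : SM := (m ^ 3) ^ 3

theorem mc_exp {m : SM} (h : Commute m z0) : m ^ 36 = 1 := by
  obtain ⟨r, hr, s, hs, rfl⟩ := mc_dec h
  have := (by decide +kernel : ∀ r ∈ mcR, ∀ s ∈ mcS, mc4 (mc9 (r * s)) = 1) r hr s hs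
  simpa only [mc4, mc9, ← pow_mul] using this

theorem syl_Q0 : IsSylowIn 2 Q0 (Cx z0) := by
  refine isSylowIn_of_maximal (IsPGroup.of_card (n := 3) card_Q0) (fun m hm => mem_Cx.2 (Q0_facts m hm).1.eq)
    fun R hR h1 h2 m hm => ?_
  have k : ∀ x ∈ R, mc4 x = 1 := fun x hx => by
    obtain ⟨n, hn⟩ := isPGroup_iff_mem.1 hR x hx
    have e1 := orderOf_dvd_of_pow_eq_one (mc_exp (mem_Cx.1 (h2 hx)))
    have e2 : (orderOf x).Coprime 9 :=
      Nat.Coprime.coprime_dvd_left (orderOf_dvd_of_pow_eq_one hn) (Nat.Coprime.pow_left n (by norm_num))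
    rw [mc4, ← pow_mul]
    exact orderOf_dvd_iff_pow_eq_one.1 (e2.dvd_of_dvd_mul_left (show _ ∣ 9 * (2 * 2) from e1))
  obtain ⟨r, hr, s, hs, rfl⟩ := mc_dec (mem_Cx.1 (h2 hm))
  exact mem_Q0.2 ((by decide +kernel : ∀ r ∈ mcR, ∀ s ∈ mcS, (∀ q ∈ mcQ, mc4 (r * s * q) = 1) → r * s ∈ mcQ) r hr s hs
    fun q hq => k _ (mul_mem hm (h1 (mem_Q0.2 hq))))

theorem odd_R0 {N : Subgroup SM} (ho : Odd (Nat.card N)) (h : N ≤ Cx z0) (hn : Cx z0 ≤ Nm N) : N ≤ R0 := by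
  intro m hm
  have k : ∀ x ∈ N, mc9 x = 1 := fun x hx => by
    have e1 := orderOf_dvd_of_pow_eq_one (mc_exp (mem_Cx.1 (h hx)))
    have e2 : (orderOf x).Coprime (2 ^ 2) :=
      Nat.Coprime.pow_right 2 (Nat.coprime_two_right.2 (ho.of_dvd_nat (orderOf_dvd_natCard N hx)))
    rw [mc9, ← pow_mul]
    exact orderOf_dvd_iff_pow_eq_one.1 (e2.dvd_of_dvd_mul_left (show _ ∣ 2 ^ 2 * (3 * 3) from e1))
  have h1 := k _ (mul_mem hm (conj_mem_of_mem_normalizer (hn (mem_Cx.2 (Q0_facts _ mc_q1).1.eq)) (inv_mem hm)))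
  have h2 := k _ hm
  obtain ⟨r, hr, s, hs, rfl⟩ := mc_dec (mem_Cx.1 (h hm))
  exact mc_memR.2 ((by decide +kernel : ∀ r ∈ mcR, ∀ s ∈ mcS, mc9 (r * s) = 1 →
    mc9 (r * s * (q1 * (r * s)⁻¹ * q1⁻¹)) = 1 → r * s ∈ mcR) r hr s hs h2 h1)

theorem irr_R0 {N : Subgroup SM} (h : N ≤ R0) (hn : Q0 ≤ Nm N) : N ≤ zpowers z0 ∨ R0 ≤ N := by
  by_cases h1 : N ≤ zpowers z0
  · exact Or.inl h1
  obtain ⟨m, hm, h2⟩ := SetLike.not_le_iff_exists.1 h1
  have k : ∀ m ∈ mcR, m ∈ [1, z0, z0 * z0] ∨ ((∃ q ∈ mcQ, z0 = m * (q * m * q⁻¹) * m⁻¹ * (q * m * q⁻¹)⁻¹) ∧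
      ∀ w ∈ [y0, α0], ∃ q ∈ mcQ, (q * m * q⁻¹)⁻¹ * w ∈ [1, z0, z0 * z0]) := by decide +kernel
  obtain ⟨⟨q, hq, e⟩, k'⟩ := (k m (mc_memR.1 (h hm))).resolve_left fun e => h2 (mc_zp e)
  have c : ∀ q ∈ mcQ, q * m * q⁻¹ ∈ N := fun q hq => conj_mem_of_mem_normalizer (hn (mem_Q0.2 hq)) hm
  have hz : z0 ∈ N := e ▸ mul_mem (mul_mem (mul_mem hm (c q hq)) (inv_mem hm)) (inv_mem (c q hq))
  have hw : ∀ w ∈ [y0, α0], w ∈ N := fun w hw => by
    obtain ⟨q, hq, e⟩ := k' w hw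
    have := mul_mem (c q hq) (zpowers_le.2 hz (mc_zp e))
    rwa [mul_inv_cancel_left] at this
  refine Or.inr ?_
  rw [R0, closure_le]
  rintro _ (rfl | rfl | rfl)
  exacts [hz, hw _ (by simp), hw _ (by simp)]

end CfsgLib.S86
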