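import Cfsg.Agent.Lib.S86.PM1

/-! The patterns of minus type are impossible (project S86, see plans/S86.md). -/

set_option autoImplicit false
set_option maxRecDepth 100000
set_option Elab.async false
set_option linter.unusedSectionVars false

namespace CfsgLib.S86

open Subgroup CfsgLib.W2 CfsgLib.Tech CfsgLib.PComp CfsgLib.Rec3C CfsgLib.Rec3C.V4
open CfsgLib.Rec3B (V81)
open CfsgLib.L72 (Nm IsQ Oc)

variable {G : Type*} [Group G] [Finite G]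

theorem pm2_vals : (s13 * β1 * s13⁻¹ = β3 ∧ s13 * β2 * s13⁻¹ = β2 ∧ s23 * β1 * s23⁻¹ = β1 ∧ s23 * β2 * s23⁻¹ = β3) ∧
    (∀ p ∈ [(β1 * β2, β3), (β1 * β2⁻¹, β3), (β1 * β3, β2), (β1 * β3⁻¹, β2), (β2 * β3, β1), (β2 * β3⁻¹, β1)],
      ∃ m ∈ [1, t2, s23, t3 * s23, s13, t3 * s13], m * c0 * m⁻¹ = p.1 ∧ m * β3 * m⁻¹ = p.2) ∧
    c0 = β1 * β2 ∧ y0 = β1 * β2⁻¹ ∧ β1 ^ 3 = 1 ∧ β2 ^ 3 = 1 ∧ β3 ^ 3 = 1 ∧ Commute β1 β2 ∧ Commute β1 β3 ∧
    Commute β2 β3 ∧ z0 = (β1 * β2⁻¹)⁻¹ * (β1 * β3⁻¹)⁻¹ ∧ c0 * β3⁻¹ = (β1 * β2⁻¹)⁻¹ * (β1 * β3)⁻¹ ∧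
    κ (PG.pl [3, 4, 2, 0, 1, 5]) ≠ 1 ∧ κ (PG.pl [3, 4, 2, 0, 1, 5]) ≠ s12 ∧ t3 * β3⁻¹ * t3⁻¹ = β3 ∧ Commute t3 c0 ∧
    Commute s12 t3 := by
  decide +kernel

theorem pm2_Vs {m : SM} (hm : m ∈ Vs) : ∃ k ∈ Vs, m = k⁻¹ * c0 * k * c0⁻¹ ∨ m = k⁻¹ * c0 * k * c0⁻¹ * s12 := by
  obtain ⟨p, hp, rfl⟩ := mem_Vs.1 hm
  have k : ∀ p ∈ [PG.pl [0, 1, 2, 3, 4, 5], PG.pl [3, 1, 2, 0, 4, 5], PG.pl [0, 4, 2, 3, 1, 5],
      PG.pl [0, 1, 5, 3, 4, 2], PG.pl [3, 4, 2, 0, 1, 5], PG.pl [3, 1, 5, 0, 4, 2], PG.pl [0, 4, 5, 3, 1, 2],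
      (PG.pl [3, 4, 5, 0, 1, 2] : PG 6)], ∃ r ∈ [PG.pl [0, 1, 2, 3, 4, 5], PG.pl [3, 1, 2, 0, 4, 5],
      PG.pl [0, 4, 2, 3, 1, 5], PG.pl [0, 1, 5, 3, 4, 2], PG.pl [3, 4, 2, 0, 1, 5], PG.pl [3, 1, 5, 0, 4, 2],
      PG.pl [0, 4, 5, 3, 1, 2], (PG.pl [3, 4, 5, 0, 1, 2] : PG 6)],
      κ p = (κ r)⁻¹ * c0 * κ r * c0⁻¹ ∨ κ p = (κ r)⁻¹ * c0 * κ r * c0⁻¹ * s12 := by decide +kernel
  obtain ⟨r, hr, e⟩ := k p hp
  exact ⟨κ r, mem_Vs.2 ⟨r, hr, rfl⟩, e⟩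

theorem pm_false (hy : Hy G) {b : G} {φ : SM →* G} {ev : V81 →* G} (h : Bd b φ ev) (hp : PMm ev) : False := by
  obtain ⟨g, hg⟩ := hp
  have π2 : φ s12 * φ s12 = 1 := by rw [← map_mul, Q0_vals.2.2.2.2.1, map_one]
  obtain ⟨Q, hQ, hπ, hle, hn, hcQ⟩ := hy.exQ π2 fun e => Q0_vals.2.2.2.2.2 (h.inj (e.trans (map_one φ).symm))
  obtain ⟨e1, e2, e3, e4, e5, e6⟩ := pm_vals h hg
  obtain ⟨p4, p3, pc⟩ := pm1_π h
  obtain ⟨⟨u1, u2, u3, u4⟩, u5, u6, u7, c1, c2, c3, c12, c13, c23, u8, u9, u10, u11, u12, u13, u14⟩ := pm2_vals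
  obtain ⟨vc, -, vz⟩ := h.toBd0.vals
  have hc := pm_cent h hg
  have nψ : ∀ m, cjh g φ m ∈ Nm Q := fun m => hn (mem_Cx.2 (hc m).symm)
  have pl := fun (q : G) (hq : q ∈ Q) =>
    h.plane hQ hle (hn (mem_Cx.2 pc.symm)) (hn (mem_Cx.2 p3.symm)) (hn (mem_Cx.2 p4.symm)) hq
  -- transport along the second chart
  have tr : ∀ (m : SM) (q : G), (cjh g φ m)⁻¹ * q * cjh g φ m ∈ zpowers (φ s12) → q ∈ zpowers (φ s12) := by
    intro m q hq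
    obtain ⟨i, hi⟩ := mem_zpowers_iff.1 hq
    refine mem_zpowers_iff.2 ⟨i, ?_⟩
    calc _ = cjh g φ m * φ s12 ^ i * (cjh g φ m)⁻¹ := by rw [← ((hc m).zpow_left i).eq, mul_inv_cancel_right]
      _ = q := by rw [hi]; group
  have cm : ∀ (m a : SM) (q : G), Commute q (cjh g φ (m * a * m⁻¹)) →
      Commute ((cjh g φ m)⁻¹ * q * cjh g φ m) (cjh g φ a) := fun m a q e =>
    comm_cj (by rwa [map_mul, map_mul, map_inv] at e)
  have I0 : ∀ q ∈ Q, Commute q (cjh g φ β1) → Commute q (cjh g φ β2) → q ∈ zpowers (φ s12) := fun q hq a1 a2 => by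
    have a3 := (a1.mul_right a2).inv_right
    have a4 := (a1.mul_right a2.inv_right).inv_right
    rw [← map_mul, ← u6, e4, inv_inv] at a3
    rw [← map_inv, ← map_mul, ← u7, e5, inv_inv] at a4
    exact (pl q hq a3).2.1 a4
  have II : ∀ p ∈ [(β1 * β2, β3), (β1 * β2⁻¹, β3), (β1 * β3, β2), (β1 * β3⁻¹, β2), (β2 * β3, β1), (β2 * β3⁻¹, β1)],
      ∀ q ∈ Q, Commute q (cjh g φ p.1) → Commute q (cjh g φ p.2) → q ∈ zpowers (φ s12) := fun p hp q hq a1 a2 => by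
    obtain ⟨m, -, m1, m2⟩ := u5 p hp
    have a3 := (cm m c0 q (m1 ▸ a1)).inv_right
    have a4 := cm m β3 q (m2 ▸ a2)
    rw [e4, inv_inv] at a3
    rw [e3] at a4
    exact tr m q (pm_two h hg hQ hπ hle hn (pm1_nm' (nψ m) hq) a3 a4)
  let D : Subgroup G := centralizer (Vs.map φ : Set G)
  have mD : ∀ {q : G}, (∀ m ∈ Vs, Commute q (φ m)) → q ∈ D := fun {q} hq => by
    rintro _ ⟨m, hm, rfl⟩
    exact (hq m hm).symm
  have πD : ∀ {q : G}, q ∈ zpowers (φ s12) → q ∈ D := fun {q} hq => by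
    obtain ⟨i, rfl⟩ := mem_zpowers_iff.1 hq
    exact mD fun m hm => (((Vs_facts m hm).2.1.symm).map φ).zpow_left i
  have t3Q : φ t3 ∈ Nm Q := hn (mem_Cx.2 (u14.map φ).symm)
  have t3D : ∀ {q : G}, φ t3 * q * (φ t3)⁻¹ ∈ D → q ∈ D := fun {q} hq => mD fun m hm => by
    have a1 : Commute (φ t3 * q * (φ t3)⁻¹) (φ m) := (hq _ (mem_map_of_mem φ hm) : _ = _).symm
    have a2 : Commute (φ m) (φ t3) := (Vs_facts m hm).2.2.2.1.map φ
    have a3 := comm_cj (g := φ t3) (k := φ t3 * q * (φ t3)⁻¹) (a := φ m) (by rwa [← a2.eq, mul_inv_cancel_right])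
    simpa [mul_assoc] using a3
  have t3b : φ t3 * b * (φ t3)⁻¹ = b := by rw [← (h.comm t3).eq, mul_inv_cancel_right]
  have t33 : φ t3 * (ev x3)⁻¹ * (φ t3)⁻¹ = ev x3 := by
    rw [h.v3, ← map_inv, ← map_inv, ← map_mul, ← map_mul, u12]
  have t3c : φ t3 * ev cc * (φ t3)⁻¹ = ev cc := by rw [vc, (u13.map φ).eq, mul_inv_cancel_right]
  have III : ∀ q ∈ Q, Commute q b → Commute q (ev cc * ev x3) → q ∈ D := fun q hq a1 a2 => by
    rw [← map_mul, ← vals4.2.2.2.2.2.2.2.1] at a2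
    obtain ⟨k, hk, rfl⟩ := (pl q hq a1).2.2 a2
    exact mD fun m hm => (((Vs_facts m hm).2.2.2.2.2.2 k hk).symm).map φ
  have IV : ∀ q ∈ Q, Commute q (b⁻¹ * ev x3) → q ∈ D := fun q hq a1 => mD fun m hm => by
    obtain ⟨k, hk, e⟩ := pm2_Vs hm
    have kQ : φ k ∈ Nm Q := hn (mem_Cx.2 ((Vs_facts k hk).2.1.map φ))
    have kz : Commute (φ k) (b⁻¹ * ev x3) :=
      (h.comm k).symm.inv_right.mul_right (by rw [h.v3]; exact (Vs_facts k hk).2.2.1.map φ)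
    have a2 := pm_key h hg hQ hπ hle hn hq a1
    have a3 := pm_key h hg hQ hπ hle hn (pm1_nm kQ hq) (pm1_cj (by rwa [mul_assoc, ← kz.eq, inv_mul_cancel_left]))
    have a4 : Commute q ((φ k)⁻¹ * ev cc * φ k) := by
      simpa [mul_assoc] using a3.map (MulAut.conj (φ k)⁻¹)
    have a5 : Commute q (φ (k⁻¹ * c0 * k * c0⁻¹)) := by
      rw [map_mul, map_mul, map_mul, map_inv, map_inv, ← vc]
      exact a4.mul_right a2.inv_right
    rcases e with e | e <;> rw [e]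
    · exact a5
    · rw [map_mul]; exact a5.mul_right (mem_Cx.1 (hle hq))
  have hD : Q ≤ D := by
    refine gen27 (x := cjh g φ β1) (y := cjh g φ β2) (z := cjh g φ β3) (cop_two hQ) (by rw [← map_pow, c1, map_one])
      (by rw [← map_pow, c2, map_one]) (by rw [← map_pow, c3, map_one]) (c12.map _) (c13.map _) (c23.map _)
      (nψ _) (nψ _) (nψ _) ?_
    have II' := II
    simp only [List.mem_cons, List.not_mem_nil, or_false, forall_eq_or_imp, forall_eq, map_mul, map_inv] at II'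
    obtain ⟨i1, i2, i3, i4, i5, i6⟩ := II'
    simp only [pl13, List.mem_cons, List.not_mem_nil, or_false, forall_eq_or_imp, forall_eq]
    refine ⟨fun q hq a1 a2 => πD (tr s13 q (I0 _ (pm1_nm' (nψ _) hq) (cm _ _ _ (u1 ▸ a2)) (cm _ _ _ (u2 ▸ a1)))),
      fun q hq a1 a2 => πD (tr s23 q (I0 _ (pm1_nm' (nψ _) hq) (cm _ _ _ (u3 ▸ a1)) (cm _ _ _ (u4 ▸ a2)))),
      fun q hq a1 a2 => πD (I0 q hq a1 a2), fun q hq a1 a2 => πD (i1 q hq a1 a2), fun q hq a1 a2 => πD (i2 q hq a1 a2),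
      fun q hq a1 a2 => πD (i3 q hq a1 a2), fun q hq a1 a2 => πD (i4 q hq a1 a2), fun q hq a1 a2 => πD (i5 q hq a1 a2),
      fun q hq a1 a2 => πD (i6 q hq a1 a2), fun q hq a1 a2 => ?_, fun q hq a1 a2 => ?_, fun q hq a1 a2 => ?_,
      fun q hq a1 a2 => ?_⟩
    · rw [← map_mul, ← u6, e4] at a1
      rw [e1, e3, mul_assoc] at a2
      have a3 : Commute q b := by simpa using a1.inv_right
      exact III q hq a3 (by simpa using a1.mul_right a2)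
    · rw [← map_mul, ← u6, e4] at a1
      rw [e1, e3, mul_assoc] at a2
      have a3 : Commute q b := by simpa using a1.inv_right
      have a4 : Commute q (ev cc * (ev x3)⁻¹) := by simpa using a1.mul_right a2
      refine t3D (III _ (pm1_nm t3Q hq) (t3b ▸ a3.map (MulAut.conj (φ t3))) ?_)
      have a5 : Commute (φ t3 * q * (φ t3)⁻¹) (φ t3 * (ev cc * (ev x3)⁻¹) * (φ t3)⁻¹) := a4.map (MulAut.conj (φ t3))
      rwa [← conj_mul, t3c, t33] at a5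
    · have a3 := a1.inv_right.mul_right a2.inv_right
      rw [← map_inv, ← map_mul, ← map_mul, ← map_inv, ← map_inv, ← map_mul, ← u9, map_mul, map_inv, e4, e3] at a3
      refine t3D (IV _ (pm1_nm t3Q hq) ?_)
      have a5 : Commute (φ t3 * q * (φ t3)⁻¹) (φ t3 * (b⁻¹ * (ev x3)⁻¹) * (φ t3)⁻¹) := a3.map (MulAut.conj (φ t3))
      rwa [← conj_mul, t33, ← conj_inv, t3b] at a5
    · have a3 := a1.inv_right.mul_right a2.inv_right
      rw [← map_inv, ← map_inv, ← map_mul, ← map_mul, ← map_inv, ← map_inv, ← map_mul, ← u8, e6] at a3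
      exact IV q hq a3
  have hf : κ (PG.pl [3, 4, 2, 0, 1, 5]) ∈ Vs := mem_Vs.2 ⟨_, by simp, rfl⟩
  have fQ := hcQ _ (mem_Cx.2 ((Vs_facts _ hf).2.1.map φ)) fun q hq => hD hq _ (mem_map_of_mem φ hf)
  have hz := pm_two h hg hQ hπ hle hn fQ (h.comm _).symm (by rw [h.v3]; exact (Vs_facts _ hf).2.2.1.map φ)
  rw [← MonoidHom.map_zpowers, mem_map_iff_mem h.inj] at hz
  obtain ⟨i, hi⟩ := mem_zpowers_iff.1 hz
  have h2 : s12 ^ (2 : ℤ) = 1 := by rw [zpow_two, Q0_vals.2.2.2.2.1]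
  rcases Int.emod_two_eq_zero_or_one i with e | e
  · exact u10 (by rw [← hi, zpow_eq_zpow_emod i h2, e, zpow_zero])
  · exact u11 (by rw [← hi, zpow_eq_zpow_emod i h2, e, zpow_one])

end CfsgLib.S86
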