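import Cfsg.Agent.Lib.S86.PatA

/-! The classification of the fusion patterns (project S86, see plans/S86.md). -/

set_option autoImplicit false
set_option maxRecDepth 100000
set_option Elab.async false

namespace CfsgLib.S86.PatA

open Subgroup CfsgLib.W2 CfsgLib.Rec3C CfsgLib.Rec3C.V4
open CfsgLib.Rec3B (V81)
open CfsgLib.Rec3B.W4 (frc frc_eq mJ iJ V_comm V_cube)

noncomputable section

/-- the code of a quadruple -/
def c4 (a b c d : V81) : ℕ := pk4 a.v b.v c.v d.v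

theorem mulN_c4 (a b c d p q r s : V81) : mulN (c4 a b c d) (c4 p q r s) =
    c4 (ap4 a b c d p) (ap4 a b c d q) (ap4 a b c d r) (ap4 a b c d s) := by
  obtain ⟨h0, h1, h2, h3⟩ := ve_pk4 a b c d
  obtain ⟨k0, k1, k2, k3⟩ := en_pk4 p.v_lt q.v_lt r.v_lt s.v_lt
  simp only [mulN, frc_eq, c4, k0, k1, k2, k3, apN_eq, h0, h1, h2, h3]

theorem apN_c4 (a b c d v : V81) : apN (c4 a b c d) v.v = (ap4 a b c d v).v := by
  obtain ⟨h0, h1, h2, h3⟩ := ve_pk4 a b c d
  simp only [c4, apN_eq, h0, h1, h2, h3]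

theorem en_c4 (a b c d : V81) : en (c4 a b c d) 3 = d.v := (en_pk4 a.v_lt b.v_lt c.v_lt d.v_lt).2.2.2

theorem v_act' (w : GO) (v : V81) : (act w v).v = aG w.v v.v := by
  rw [v_act, aG_eq]

theorem acN_c4 (w : GO) (a b c d : V81) : acN w.v (c4 a b c d) = c4 (act w a) (act w b) (act w c) (act w d) := by
  obtain ⟨k0, k1, k2, k3⟩ := en_pk4 a.v_lt b.v_lt c.v_lt d.v_lt
  simp only [acN, c4, k0, k1, k2, k3, v_act']

theorem codes : c4 x1 x2 x3 x4 = 14408200 ∧ c4 x1⁻¹ x2 x3 x4 = 14408201 ∧ c4 x2 x1 x3 x4 = 14408040 ∧ c4 x2 x3 x1 x4 = 14356200 := by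
  decide +kernel

/-- the stabiliser of `x4` in `M4` -/
def L48 : List ℕ := [0, 1, 2, 3, 32, 33, 34, 35, 64, 65, 66, 67, 288, 289, 290, 291, 320, 321, 322, 323, 352, 353, 354, 355, 580, 581, 582, 583, 612, 613, 614, 615, 644, 645, 646, 647, 868, 869, 870, 871, 900, 901, 902, 903, 932, 933, 934, 935]

theorem L48_sp : ∀ w ∈ L48, w < 2304 ∧ bit (TG.sp [r1, t12, al] 8) w = true := by
  have : TG.sp [r1, t12, al] 8 = 0xf0000000f0000000f0000000000000000000000000000000000000000000000000000000f0000000f0000000f00000000000000000000000000000000000000000000000000000000f0000000f0000000f0000000000000000000000000000000000000000000000000000000f0000000f0000000f := by decide +kernel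
  rw [this]
  decide +kernel

variable {R : ℕ → Prop} (h : RS R)
include h

theorem RS.neg {a b c d : V81} (k : R (c4 a b c d)) : R (c4 a⁻¹ b c d) := by
  obtain ⟨e1, e2, e3, e4⟩ := ap4_vals a b c d
  have := h.mul _ _ k (codes.2.1 ▸ h.l0)
  rwa [mulN_c4, map_inv, e1, e2, e3, e4] at this

theorem RS.swap {a b c d : V81} (k : R (c4 a b c d)) : R (c4 b a c d) := by
  obtain ⟨e1, e2, e3, e4⟩ := ap4_vals a b c d
  have := h.mul _ _ k (codes.2.2.1 ▸ h.l1)
  rwa [mulN_c4, e1, e2, e3, e4] at this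

theorem RS.cyc {a b c d : V81} (k : R (c4 a b c d)) : R (c4 b c a d) := by
  obtain ⟨e1, e2, e3, e4⟩ := ap4_vals a b c d
  have := h.mul _ _ k (codes.2.2.2 ▸ h.l2)
  rwa [mulN_c4, e1, e2, e3, e4] at this

theorem RS.inj {a b c d : V81} (k : R (c4 a b c d)) {v : V81} (e : ap4 a b c d v = 1) : v = 1 :=
  TG.ext' (h.ind _ k v.v v.v_lt (by rw [apN_c4, e]; rfl))

theorem RS.pt1 {a b c d : V81} (k : R (c4 a b c d)) : ∃ i < 40, R (c4 (TG.o (pt i)) b c d) := by
  obtain ⟨i, hi, e | e⟩ := exists_pt a fun e =>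
    absurd (h.inj k ((ap4_vals a b c d).1.trans e)) (by decide +kernel)
  exacts [⟨i, hi, e ▸ k⟩, ⟨i, hi, e ▸ h.neg k⟩]

theorem RS.ne {a c d : V81} (k : R (c4 a a c d)) : False := by
  obtain ⟨e1, e2, -, -⟩ := ap4_vals a a c d
  exact absurd (h.inj k (v := x1 * x2⁻¹) (by rw [map_mul, map_inv, e1, e2, mul_inv_cancel])) (by decide +kernel)

theorem RS.sort {a b c d : V81} (k : R (c4 a b c d)) :
    ∃ i j l, i < j ∧ j < l ∧ l < 40 ∧ R (pk4 (pt i) (pt j) (pt l) d.v) := by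
  obtain ⟨i, hi, k⟩ := h.pt1 k
  obtain ⟨j, hj, k⟩ := h.pt1 (h.cyc k)
  obtain ⟨l, hl, k⟩ := h.pt1 (h.cyc k)
  have e : ∀ {i j l : ℕ}, i < 40 → j < 40 → l < 40 → R (c4 (TG.o (pt i)) (TG.o (pt j)) (TG.o (pt l)) d) →
      R (pk4 (pt i) (pt j) (pt l) d.v) := fun hi hj hl k => by
    rwa [c4, TG.v_o (pt_lt _ hi), TG.v_o (pt_lt _ hj), TG.v_o (pt_lt _ hl)] at k
  have n1 : l ≠ i := fun e => h.ne (e ▸ k)
  have n2 : i ≠ j := fun e => h.ne (e ▸ h.cyc k)
  have n3 : j ≠ l := fun e => h.ne (e ▸ h.cyc (h.cyc k))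
  rcases lt_or_gt_of_ne n1 with a1 | a1 <;> rcases lt_or_gt_of_ne n2 with a2 | a2 <;>
    rcases lt_or_gt_of_ne n3 with a3 | a3
  · omega
  · exact ⟨l, i, j, a1, a2, hj, e hl hi hj k⟩
  · exact ⟨j, l, i, a3, a1, hi, e hj hl hi (h.cyc (h.cyc k))⟩
  · exact ⟨l, j, i, a3, a2, hi, e hl hj hi (h.cyc (h.swap k))⟩
  · exact ⟨i, j, l, a2, a3, hl, e hi hj hl (h.cyc k)⟩
  · exact ⟨i, l, j, a1, a3, hj, e hi hl hj (h.swap k)⟩
  · exact ⟨j, i, l, a2, a1, hl, e hj hi hl (h.swap (h.cyc k))⟩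
  · omega

omit h in
theorem reps : ∀ v : V81, v = 1 ∨ v = x4 ∨ v = x4⁻¹ ∨ ∃ w ∈ L48, aG w v.v ∈ [1, 4, 13, 28, 31, 40, 55, 58, 67] := by
  decide +kernel

theorem RS.ty {a b c v : V81} (k : R (c4 a b c v)) : v = x4 ∨ v = x4⁻¹ ∨ ∃ w ∈ L48, ∃ g,
    (g ∈ [709815, 2351439, 16825973, 21596093, 31148312, 35865454] ∨ g ∈ [14939641, 16533964, 21316933, 29288548, 30882871, 35665840] ∨ g ∈ [2423930, 15071844, 29414190] ∨ g ∈ [21602906, 35931560] ∨ g ∈ [709320]) ∧
      R g ∧ en g 3 = aG w v.v := by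
  rcases reps v with e | e | e | ⟨w, hw, e⟩
  · exact absurd (h.inj k ((ap4_vals a b c v).2.2.2.trans e)) (by decide +kernel)
  · exact Or.inl e
  · exact Or.inr (Or.inl e)
  refine Or.inr (Or.inr ⟨w, hw, ?_⟩)
  have k1 := h.st w (L48_sp w hw).2 _ k
  rw [← TG.v_o (h := tokG) (L48_sp w hw).1, acN_c4] at k1
  obtain ⟨i, j, l, hij, hjl, hl, k2⟩ := h.sort k1
  rw [v_act', TG.v_o (L48_sp w hw).1] at k2
  have e3 : en (pk4 (pt i) (pt j) (pt l) (aG w v.v)) 3 = aG w v.v :=
    (en_pk4 (pt_lt _ (by omega)) (pt_lt _ (by omega)) (pt_lt _ hl) (by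
      simp only [List.mem_cons, List.not_mem_nil, or_false] at e
      omega)).2.2.2
  refine ⟨_, ?_, k2, e3⟩
  generalize aG w v.v = u at e k2
  simp only [List.mem_cons, List.not_mem_nil, or_false] at e
  rcases e with rfl | rfl | rfl | rfl | rfl | rfl | rfl | rfl | rfl
  · have := h.good t1 hij hjl hl k2
    generalize pk4 _ _ _ _ = g at this
    revert g
    decide
  · have := h.good t4 hij hjl hl k2
    generalize pk4 _ _ _ _ = g at this
    revert g
    decide
  · have := h.good t13 hij hjl hl k2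
    generalize pk4 _ _ _ _ = g at this
    revert g
    decide
  · have := h.good t28 hij hjl hl k2
    generalize pk4 _ _ _ _ = g at this
    revert g
    decide
  · have := h.good t31 hij hjl hl k2
    generalize pk4 _ _ _ _ = g at this
    revert g
    decide
  · have := h.good t40 hij hjl hl k2
    generalize pk4 _ _ _ _ = g at this
    revert g
    decide
  · have := h.good t55 hij hjl hl k2
    generalize pk4 _ _ _ _ = g at this
    revert g
    decide
  · have := h.good t58 hij hjl hl k2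
    generalize pk4 _ _ _ _ = g at this
    revert g
    decide
  · have := h.good t67 hij hjl hl k2
    generalize pk4 _ _ _ _ = g at this
    revert g
    decide

theorem RS.pm {g : ℕ} (hg : g ∈ [709815, 2351439, 16825973, 21596093, 31148312, 35865454]) (k : R g) : R 3782002 := by
  simp only [List.mem_cons, List.not_mem_nil, or_false] at hg
  rcases hg with rfl | rfl | rfl | rfl | rfl | rfl
  · exact (show PatA.ew 709815 709815 [2, 1, 3, 1, 3] = 3782002 by decide +kernel) ▸ h.ew k k _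
  · exact (show PatA.ew 2351439 2351439 [1, 0, 3, 2] = 3782002 by decide +kernel) ▸ h.ew k k _
  · exact (show PatA.ew 16825973 16825973 [0, 3, 2, 3, 2, 0, 1, 0] = 3782002 by decide +kernel) ▸ h.ew k k _
  · exact (show PatA.ew 21596093 21596093 [0, 3, 2, 3, 0, 3, 1] = 3782002 by decide +kernel) ▸ h.ew k k _
  · exact (show PatA.ew 31148312 31148312 [1, 0, 3, 2, 3, 2] = 3782002 by decide +kernel) ▸ h.ew k k _
  · exact (show PatA.ew 35865454 35865454 [0, 2, 2, 0, 3, 3, 0, 3] = 3782002 by decide +kernel) ▸ h.ew k k _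

theorem RS.tau {g : ℕ} (hg : g ∈ [14939641, 16533964, 21316933, 29288548, 30882871, 35665840]) (k : R g) : R 14939641 := by
  simp only [List.mem_cons, List.not_mem_nil, or_false] at hg
  rcases hg with rfl | rfl | rfl | rfl | rfl | rfl
  · exact (show PatA.ew 14939641 14939641 [3] = 14939641 by decide +kernel) ▸ h.ew k k _
  · exact (show PatA.ew 16533964 16533964 [3, 3, 0, 3, 0] = 14939641 by decide +kernel) ▸ h.ew k k _
  · exact (show PatA.ew 21316933 21316933 [3, 3, 0, 3, 0] = 14939641 by decide +kernel) ▸ h.ew k k _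
  · exact (show PatA.ew 29288548 29288548 [3, 0, 3, 0] = 14939641 by decide +kernel) ▸ h.ew k k _
  · exact (show PatA.ew 30882871 30882871 [3, 0, 3, 0] = 14939641 by decide +kernel) ▸ h.ew k k _
  · exact (show PatA.ew 35665840 35665840 [3, 0, 3, 0] = 14939641 by decide +kernel) ▸ h.ew k k _

theorem RS.go {g : ℕ} (hg : g ∈ [2423930, 15071844, 29414190]) (k : R g) : R 4960360 ∧ R 28491386 ∧ R 3750048 := by
  simp only [List.mem_cons, List.not_mem_nil, or_false] at hg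
  rcases hg with rfl | rfl | rfl
  · exact ⟨(show PatA.ew 2423930 2423930 [3, 3, 2, 3, 3, 2, 1] = 4960360 by decide +kernel) ▸ h.ew k k _,
      (show PatA.ew 2423930 2423930 [3, 3, 3, 3, 3, 1, 0, 3, 2] = 28491386 by decide +kernel) ▸ h.ew k k _,
      (show PatA.ew 2423930 2423930 [1, 0, 3, 2, 0] = 3750048 by decide +kernel) ▸ h.ew k k _⟩
  · exact ⟨(show PatA.ew 15071844 15071844 [3, 3, 3, 0, 3] = 4960360 by decide +kernel) ▸ h.ew k k _,
      (show PatA.ew 15071844 15071844 [0, 3, 0, 3, 2, 2] = 28491386 by decide +kernel) ▸ h.ew k k _,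
      (show PatA.ew 15071844 15071844 [0, 3, 3, 0, 3, 0, 2, 2] = 3750048 by decide +kernel) ▸ h.ew k k _⟩
  · exact ⟨(show PatA.ew 29414190 29414190 [3, 3, 2, 3, 3, 2, 1] = 4960360 by decide +kernel) ▸ h.ew k k _,
      (show PatA.ew 29414190 29414190 [3, 0, 3, 2, 2, 0] = 28491386 by decide +kernel) ▸ h.ew k k _,
      (show PatA.ew 29414190 29414190 [1, 3, 3, 3, 0, 2, 1] = 3750048 by decide +kernel) ▸ h.ew k k _⟩

theorem RS.wf {g : ℕ} (hg : g ∈ [21602906, 35931560]) (k : R g) : R 4960360 ∧ R 28491386 := by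
  simp only [List.mem_cons, List.not_mem_nil, or_false] at hg
  rcases hg with rfl | rfl
  · exact ⟨(show PatA.ew 21602906 21602906 [3, 2, 0, 1, 0, 3, 2] = 4960360 by decide +kernel) ▸ h.ew k k _,
      (show PatA.ew 21602906 21602906 [0, 2, 0, 1, 0, 3] = 28491386 by decide +kernel) ▸ h.ew k k _⟩
  · exact ⟨(show PatA.ew 35931560 35931560 [2, 2, 0, 3, 2, 0, 2, 0, 3, 1, 0, 2] = 4960360 by decide +kernel) ▸ h.ew k k _,
      (show PatA.ew 35931560 35931560 [0, 2, 0, 1, 0, 3, 0, 2, 0, 1, 0, 3] = 28491386 by decide +kernel) ▸ h.ew k k _⟩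

theorem RS.mf {g : ℕ} (hg : g ∈ [709320]) (k : R g) : R 4960360 := by
  simp only [List.mem_cons, List.not_mem_nil, or_false] at hg
  rcases hg with rfl
  · exact (show PatA.ew 709320 709320 [2, 2, 3] = 4960360 by decide +kernel) ▸ h.ew k k _

omit h in
/-- the points of the pattern -/
def OO (R : ℕ → Prop) (v : V81) : Prop := ∃ a b c, R (c4 a b c v) ∨ R (c4 a b c v⁻¹)

theorem RS.p27 (ht : R 14939641) (v : V81) : OO R v ↔ 27 ≤ v.v := by
  constructor
  · have key : ∀ {a b c v : V81}, R (c4 a b c v) → 27 ≤ v.v := fun {a b c v} k => by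
      rcases h.ty k with e | e | ⟨w, hw, g, hg, k1, e⟩
      · rw [e]; decide +kernel
      · rw [e]; decide +kernel
      by_contra hn
      have l : en g 3 < 27 := e ▸ (by decide +kernel : ∀ v : V81, ¬ 27 ≤ v.v → ∀ w ∈ L48, aG w v.v < 27) v hn w hw
      have := h.ok _ _ (h.ew ht k1 [4]) (h.ew ht k1 [3, 4])
      simp only [List.mem_cons, List.not_mem_nil, or_false, or_assoc] at hg
      rcases hg with rfl | rfl | rfl | rfl | rfl | rfl | rfl | rfl | rfl | rfl | rfl | rfl | rfl | rfl | rfl | rfl | rfl | rfl <;> revert l this <;> decide +kernel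
    rintro ⟨a, b, c, k | k⟩
    · exact key k
    · exact (by decide +kernel : ∀ v : V81, 27 ≤ v⁻¹.v → 27 ≤ v.v) v (key k)
  · intro hv
    obtain ⟨w, hw, u, hu, e⟩ := (by decide +kernel : ∀ v : V81, 27 ≤ v.v → ∃ w ∈ L48,
      ∃ u ∈ [x4, x4 * x1, x4 * cc, x4 * zz], act (TG.o w) u = v ∨ act (TG.o w) u = v⁻¹) v hv
    have k : R (c4 x1 x2 x3 u) := by
      simp only [List.mem_cons, List.not_mem_nil, or_false] at hu
      rcases hu with rfl | rfl | rfl | rfl
      · exact codes.1 ▸ h.one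
      · exact (show 14939641 = c4 x1 x2 x3 (x4 * x1) by decide +kernel) ▸ ht
      · exact (show PatA.ew 14939641 14939641 [3, 1, 3, 1] = c4 x1 x2 x3 (x4 * cc) by decide +kernel) ▸ h.ew ht ht _
      · exact (show PatA.ew 14939641 14939641 [3, 2, 3, 2, 3, 2] = c4 x1 x2 x3 (x4 * zz) by decide +kernel) ▸ h.ew ht ht _
    have k1 := h.st w (L48_sp w hw).2 _ k
    rw [← TG.v_o (h := tokG) (L48_sp w hw).1, acN_c4] at k1
    exact ⟨_, _, _, e.imp (fun e => e ▸ k1) fun e => e ▸ k1⟩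

theorem RS.orb {P : V81 → Prop} {l : List ℕ} (p1 : P x4 ∧ P x4⁻¹) (p2 : ∀ v, P v⁻¹ → P v)
    (p3 : ∀ v : V81, ∀ w ∈ L48, aG w v.v ∈ l → P v)
    (p4 : ∀ g, (g ∈ [709815, 2351439, 16825973, 21596093, 31148312, 35865454] ∨ g ∈ [14939641, 16533964, 21316933, 29288548, 30882871, 35665840] ∨ g ∈ [2423930, 15071844, 29414190] ∨ g ∈ [21602906, 35931560] ∨ g ∈ [709320]) → R g → en g 3 ∈ l)
    {v : V81} (hv : OO R v) : P v := by
  have key : ∀ {a b c v : V81}, R (c4 a b c v) → P v := fun {a b c v} k => by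
    rcases h.ty k with e | e | ⟨w, hw, g, hg, k1, e⟩
    · exact e ▸ p1.1
    · exact e ▸ p1.2
    · exact p3 v w hw (e ▸ p4 g hg k1)
  obtain ⟨a, b, c, k | k⟩ := hv
  exacts [key k, p2 v (key k)]

theorem RS.classify (hv : ∃ a b c v, R (c4 a b c v) ∧ v ≠ x4 ∧ v ≠ x4⁻¹) :
    (R 4960360 ∧ ∀ v, OO R v → ∃ w ∈ [1, r4, t14, r1 * t14, t24, r2 * t24, t34, r3 * t34], act w x4 = v) ∨
    ((R 4960360 ∧ R 28491386) ∧ ∀ v, OO R v → qf v = 1) ∨ ((R 4960360 ∧ R 28491386 ∧ R 3750048) ∧ ∀ v, OO R v → qf v ≠ 0) ∨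
    R 3782002 ∨ ∀ v, OO R v ↔ 27 ≤ v.v := by
  by_cases h1 : R 3782002
  · exact Or.inr (Or.inr (Or.inr (Or.inl h1)))
  by_cases h2 : R 14939641
  · exact Or.inr (Or.inr (Or.inr (Or.inr (h.p27 h2))))
  by_cases h3 : ∃ g ∈ [2423930, 15071844, 29414190], R g
  · obtain ⟨g, hg, k⟩ := h3
    refine Or.inr (Or.inr (Or.inl ⟨h.go hg k, fun v => h.orb (P := fun v => qf v ≠ 0) (l := [1, 4, 28, 55, 40, 67])
      (by decide +kernel) (by decide +kernel) (by decide +kernel) ?_⟩))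
    rintro g (e | e | e | e | e) k
    · exact absurd (h.pm e k) h1
    · exact absurd (h.tau e k) h2
    all_goals (clear k; revert g; decide +kernel)
  by_cases h4 : ∃ g ∈ [21602906, 35931560], R g
  · obtain ⟨g, hg, k⟩ := h4
    refine Or.inr (Or.inl ⟨h.wf hg k, fun v => h.orb (P := fun v => qf v = 1) (l := [1, 40, 67])
      (by decide +kernel) (by decide +kernel) (by decide +kernel) ?_⟩)
    rintro g (e | e | e | e | e) k
    · exact absurd (h.pm e k) h1
    · exact absurd (h.tau e k) h2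
    · exact absurd ⟨g, e, k⟩ h3
    all_goals (clear k; revert g; decide +kernel)
  refine Or.inl ⟨?_, fun v => h.orb
    (P := fun v => ∃ w ∈ [1, r4, t14, r1 * t14, t24, r2 * t24, t34, r3 * t34], act w x4 = v) (l := [1])
      (by decide +kernel) (by decide +kernel) (by decide +kernel) ?_⟩
  · obtain ⟨a, b, c, v, k, n1, n2⟩ := hv
    rcases h.ty k with e | e | ⟨w, -, g, e | e | e | e | e, k, -⟩
    · exact absurd e n1
    · exact absurd e n2
    · exact absurd (h.pm e k) h1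
    · exact absurd (h.tau e k) h2
    · exact absurd ⟨g, e, k⟩ h3
    · exact absurd ⟨g, e, k⟩ h4
    · exact h.mf e k
  · rintro g (e | e | e | e | e) k
    · exact absurd (h.pm e k) h1
    · exact absurd (h.tau e k) h2
    · exact absurd ⟨g, e, k⟩ h3
    · exact absurd ⟨g, e, k⟩ h4
    · clear k; revert g; decide +kernel

end

end CfsgLib.S86.PatA
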