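import Cfsg.Agent.Lib.S86.Loc
import Cfsg.Agent.Lib.S86.PatB

/-! The fusion patterns (project S86, see plans/S86.md). -/

set_option autoImplicit false
set_option maxRecDepth 100000
set_option Elab.async false
set_option linter.unusedSectionVars false

namespace CfsgLib.S86

open Subgroup CfsgLib.W2 CfsgLib.Tech CfsgLib.PComp CfsgLib.Rec3C CfsgLib.Rec3C.V4
open CfsgLib.Rec3B (V81)
open CfsgLib.L72 (Nm IsQ Oc)

variable {G : Type*} [Group G] [Finite G]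

namespace PatP

open PatA

variable {b : G} {φ : SM →* G} {ev : V81 →* G}

theorem rw_mul {u w : GO} (hu : Rw ev u) (hw : Rw ev w) : Rw ev (u * w) := by
  obtain ⟨g, hg⟩ := hu
  obtain ⟨k, hk⟩ := hw
  exact ⟨g * k, fun v => by rw [mul_act, ← hg, ← hk]; group⟩

theorem rw_one : Rw ev 1 := ⟨1, fun v => by rw [act_one]; simp⟩

theorem rw_of_re {w : GO} (h : Re ev (act w x1) (act w x2) (act w x3) (act w x4)) : Rw ev w := by
  obtain ⟨g, hg⟩ := h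
  obtain ⟨e1, e2, e3, e4⟩ := ap4_vals (act w x1) (act w x2) (act w x3) (act w x4)
  exact ⟨g, fun v => (hg.ap v).trans (congrArg ev (DFunLike.congr_fun
    (hom_ext4 (g := actH w) e1 e2 e3 e4) v))⟩

theorem re_act {w : GO} (hw : Rw ev w) {p q r s : V81} (h : Re ev p q r s) :
    Re ev (act w p) (act w q) (act w r) (act w s) := by
  obtain ⟨g, hg⟩ := hw
  obtain ⟨k, h1, h2, h3, h4⟩ := h
  refine ⟨g * k, ?_, ?_, ?_, ?_⟩
  · rw [← hg, ← h1]; group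
  · rw [← hg, ← h2]; group
  · rw [← hg, ← h3]; group
  · rw [← hg, ← h4]; group

theorem re_mul {a a' c d p q r s : V81} (h : Re ev a a' c d) (h' : Re ev p q r s) :
    Re ev (ap4 a a' c d p) (ap4 a a' c d q) (ap4 a a' c d r) (ap4 a a' c d s) := by
  obtain ⟨g, hg⟩ := h
  obtain ⟨k, h1, h2, h3, h4⟩ := h'
  refine ⟨g * k, ?_, ?_, ?_, ?_⟩
  · rw [← hg.ap, ← h1]; group
  · rw [← hg.ap, ← h2]; group
  · rw [← hg.ap, ← h3]; group
  · rw [← hg.ap, ← h4]; group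

variable (h : Bd0 b φ ev)
include h

theorem rw_sp {gs : List GO} {D : ℕ} (hg : ∀ g ∈ gs, Rw ev g) {w : GO} (hw : bit (TG.sp gs D) w.v = true) : Rw ev w :=
  TG.sp_ind (P := Rw ev) rw_one (fun _ ha g hg' => rw_mul ha (hg g hg')) hw

theorem rw_M : Rw ev r1 ∧ Rw ev t12 ∧ Rw ev al := by
  obtain ⟨h1, -, -, h2, -, -, h3⟩ := h.act_M
  have e : (act r1 x1 = x1⁻¹ ∧ act r1 x2 = x2 ∧ act r1 x3 = x3 ∧ act r1 x4 = x4) ∧
      (act t12 x1 = x2 ∧ act t12 x2 = x1 ∧ act t12 x3 = x3 ∧ act t12 x4 = x4) ∧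
      act al x1 = x2 ∧ act al x2 = x3 ∧ act al x3 = x1 ∧ act al x4 = x4 := by decide +kernel
  obtain ⟨⟨a1, a2, a3, a4⟩, ⟨b1, b2, b3, b4⟩, c1, c2, c3, c4⟩ := e
  exact ⟨rw_of_re (by rw [a1, a2, a3, a4]; exact ⟨_, h1⟩), rw_of_re (by rw [b1, b2, b3, b4]; exact ⟨_, h2⟩),
    rw_of_re (by rw [c1, c2, c3, c4]; exact ⟨_, h3⟩)⟩

theorem uniq {a a' c d p q r s : V81} (k : Re ev a a' c d) (k' : Re ev p q r s) (e : s = d ∨ s = d⁻¹) :
    ∀ x ∈ [p, q, r], x ∈ [a, a⁻¹, a', a'⁻¹, c, c⁻¹] := by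
  obtain ⟨g, hg⟩ := k
  obtain ⟨g', hg'⟩ := k'
  obtain ⟨u1, u2, u3, u4, hu⟩ := act4_of_nm (mul_mem (inv_mem (nm_of_act4 hg)) (nm_of_act4 hg'))
  obtain ⟨e1, e2, e3, e4⟩ := ap4_vals a a' c d
  have l : ∀ {x y u : V81}, g' * ev x * g'⁻¹ = ev y → g⁻¹ * g' * ev x * (g⁻¹ * g')⁻¹ = ev u → y = ap4 a a' c d u :=
    fun h1 h2 => h.einj (by rw [← hg.ap, ← h1, ← h2]; group)
  have i : Function.Injective (ap4 a a' c d) := fun x y e =>
    h.einj ((MulAut.conj g).injective ((hg.ap x).trans ((congrArg ev e).trans (hg.ap y).symm)))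
  have s4 := l hg'.2.2.2 hu.2.2.2
  obtain ⟨v1, v2, v3⟩ := h.viol ⟨_, hu⟩ (e.imp (fun e => i (by rw [← s4, e, e4])) fun e => i (by
    rw [← s4, e, map_inv, e4]))
  have m : ∀ u ∈ L6, ap4 a a' c d u ∈ [a, a⁻¹, a', a'⁻¹, c, c⁻¹] := by
    simp [L6, e1, e2, e3]
  simp only [List.mem_cons (a := _) (b := p), List.mem_cons (a := _) (b := q), List.mem_cons (a := _) (b := r),
    List.not_mem_nil, or_false, forall_eq_or_imp, forall_eq]
  exact ⟨l hg'.1 hu.1 ▸ m _ v1, l hg'.2.1 hu.2.1 ▸ m _ v2, l hg'.2.2.1 hu.2.2.1 ▸ m _ v3⟩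

omit h in
/-- the induced maps -/
def RR (ev : V81 →* G) (g : ℕ) : Prop := Re ev (ve g 0) (ve g 1) (ve g 2) (ve g 3)

omit h in
theorem RR_c4 {a a' c d : V81} : RR ev (c4 a a' c d) ↔ Re ev a a' c d := by
  obtain ⟨h0, h1, h2, h3⟩ := ve_pk4 a a' c d
  rw [RR, c4, h0, h1, h2, h3]

theorem rs : RS (RR ev) where
  one := codes.1 ▸ RR_c4.2 ⟨1, by simp [Act4]⟩
  l0 := codes.2.1 ▸ RR_c4.2 ⟨_, h.act_M.1⟩
  l1 := codes.2.2.1 ▸ RR_c4.2 ⟨_, h.act_M.2.2.2.1⟩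
  l2 := codes.2.2.2 ▸ RR_c4.2 ⟨_, h.act_M.2.2.2.2.2.2⟩
  mul := fun g k hg hk => by
    have := RR_c4.2 (re_mul hg hk)
    simpa only [c4, ← apN_eq, v_ve, mulN, Rec3B.W4.frc_eq] using this
  ok := fun g k hg hk => by
    simp only [okB, Bool.or_eq_true, Bool.not_eq_true', Bool.and_eq_true, inF_iff, ← v_ve, nm_iff]
    by_cases e : ve k 3 = ve g 3 ∨ ve k 3 = (ve g 3)⁻¹
    · have := uniq h hg hk e
      simp only [List.mem_cons, List.not_mem_nil, or_false, forall_eq_or_imp, forall_eq] at this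
      simp only [or_assoc]
      exact Or.inr ⟨⟨this.1, this.2.1⟩, this.2.2⟩
    · exact Or.inl (Bool.eq_false_iff.2 fun k => e ((nm_iff _ _).1 (Nat.eq_of_beq_eq_true k)))
  ind := fun g hg v hv e => by
    obtain ⟨k, hk⟩ := hg
    have e1 : ap4 (ve g 0) (ve g 1) (ve g 2) (ve g 3) (TG.o v) = 1 := TG.ext' (by
      rw [← apN_eq, TG.v_o hv, e]; rfl)
    have e2 := hk.ap (TG.o v)
    rw [e1, map_one, conj_eq_one_iff, map_eq_one_iff ev h.einj] at e2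
    rw [← TG.v_o (h := Rec3B.W4.tokJ) hv, e2]; rfl
  st := fun w hw g hg => by
    have hl : w < 2304 := span_ind (P := fun k => k < 2304) (by norm_num)
      (fun a ha _ k hk => by
        obtain ⟨x, -, rfl⟩ := List.mem_map.1 hk
        exact tokG.lt _ ha _ x.v_lt) _ _ hw
    have hr : Rw ev (TG.o w) := rw_sp h (gs := [r1, t12, al]) (D := 8) (by simpa using rw_M h) (by rwa [TG.v_o hl])
    have := RR_c4.2 (re_act hr hg)
    simpa only [c4, v_act', v_ve, TG.v_o hl, acN] using this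

theorem oo {v : V81} : OO (RR ev) v ↔ Oc b (ev v) := by
  simp only [OO, RR_c4]
  constructor
  · rintro ⟨p, q, r, ⟨g, hg⟩ | ⟨g, hg⟩⟩
    · exact Or.inl (isConj_iff.2 ⟨g, h.v4 ▸ hg.2.2.2⟩)
    · exact Or.inr (isConj_iff.2 ⟨g, by rw [← map_inv, ← hg.2.2.2, h.v4]⟩)
  · rintro (k | k)
    · obtain ⟨g, p, q, r, k⟩ := h.trans k
      exact ⟨p, q, r, Or.inl ⟨g, k⟩⟩
    · obtain ⟨g, p, q, r, k⟩ := h.trans (v := v⁻¹) (by rwa [map_inv])
      exact ⟨p, q, r, Or.inr ⟨g, k⟩⟩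

omit h in
theorem rw_code {w : GO} {n : ℕ} (e : c4 (act w x1) (act w x2) (act w x3) (act w x4) = n) (k : RR ev n) : Rw ev w :=
  rw_of_re (RR_c4.1 (e ▸ k))

end PatP

open PatP PatA in
theorem patterns {b : G} {φ : SM →* G} {ev : V81 →* G} (h : Bd0 b φ ev)
    (hv : ∃ v, IsConj b (ev v) ∧ v ≠ x4 ∧ v ≠ x4⁻¹) :
    Pat M4 b ev ∨ Pat WF4 b ev ∨ Pat ⊤ b ev ∨ PMm ev ∨ P27 b ev := by
  obtain ⟨m1, m2, m3⟩ := rw_M h
  have c1 : RR ev 4960360 → Rw ev t34 := rw_code (by decide +kernel)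
  have c2 : RR ev 28491386 → Rw ev be := rw_code (by decide +kernel)
  have c3 : RR ev 3750048 → Rw ev th := rw_code (by decide +kernel)
  obtain ⟨v, hv, n⟩ := hv
  obtain ⟨g, p, q, r, k⟩ := h.trans hv
  rcases (rs h).classify ⟨p, q, r, v, RR_c4.2 ⟨g, k⟩, n⟩ with ⟨k1, k⟩ | ⟨⟨k1, k2⟩, k⟩ | ⟨⟨k1, k2, k3⟩, k⟩ | k | k
  · refine Or.inl ⟨fun w hw => rw_sp h (gs := [r1, t12, t34, al]) (D := 12) (by simp [m1, m2, m3, c1 k1])
      ((by decide +kernel : ∀ w ∈ M4, bit (TG.sp [r1, t12, t34, al] 12) w.v = true) w hw), fun v hv => ?_⟩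
    obtain ⟨w, hw, e⟩ := k v ((oo h).2 hv)
    exact ⟨w, (by decide +kernel : ∀ w ∈ [1, r4, t14, r1 * t14, t24, r2 * t24, t34, r3 * t34], w ∈ M4) w hw, e⟩
  · refine Or.inr (Or.inl ⟨fun w hw => rw_sp h (gs := [r1, t12, t34, al, be]) (D := 12)
      (by simp [m1, m2, m3, c1 k1, c2 k2])
      ((by decide +kernel : ∀ w ∈ WF4, bit (TG.sp [r1, t12, t34, al, be] 12) w.v = true) w hw), fun v hv => ?_⟩)
    exact (by decide +kernel : ∀ v, qf v = 1 → ∃ w ∈ WF4, act w x4 = v) v (k v ((oo h).2 hv))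
  · refine Or.inr (Or.inr (Or.inl ⟨fun w _ => TG.ind_of_genB genG (P := Rw ev) rw_one
      (fun a ha g hg => rw_mul ha ?_) w, fun v hv => ?_⟩))
    · revert g
      simp [m1, m2, m3, c1 k1, c2 k2, c3 k3]
    · obtain ⟨w, e⟩ := (by decide +kernel : ∀ v, qf v ≠ 0 → ∃ w : GO, act w x4 = v) v (k v ((oo h).2 hv))
      exact ⟨w, mem_top w, e⟩
  · exact Or.inr (Or.inr (Or.inr (Or.inl (RR_c4.1
      ((show 3782002 = c4 (x4 * cc) (x4 * cc⁻¹) x3 yy by decide +kernel) ▸ k)))))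
  · exact Or.inr (Or.inr (Or.inr (Or.inr fun v => (oo h).symm.trans (k v))))

end CfsgLib.S86
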