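import Cfsg.Agent.Lib.S86.FrA
import Cfsg.Agent.Lib.Rec3C.BasA

/-! Case `F₄(2)`: the group `C(z, t12)` (project S86, see plans/S86.md). -/

set_option autoImplicit false
set_option maxRecDepth 100000
set_option Elab.async false
set_option linter.unusedSectionVars false

namespace CfsgLib.S86

open Subgroup CfsgLib.W2 CfsgLib.Tech CfsgLib.PComp CfsgLib.Rec3C CfsgLib.Rec3C.V4
open CfsgLib.Rec3B (V81)
open CfsgLib.L72 (Nm IsQ Oc)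

variable {G : Type*} [Group G] [Finite G]

namespace Rho

variable {H Q : Subgroup G} {u : G} {ψ : E64 →* G} {ρ : G → SM} (h : Rho H Q u ψ ρ)
include h

theorem xa_div {g k : G} (hg : g ∈ H) (hk : k ∈ H) (e : ρ g = ρ k) : g * k⁻¹ ∈ Q :=
  (h.ker _ (mul_mem hg (inv_mem hk))).1 (by rw [h.mul _ hg _ (inv_mem hk), h.inv hk, e, mul_inv_cancel])

theorem xa_nQ : H ≤ Nm Q := fun g hg => mem_normalizer_of_forall fun x hx =>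
  (h.ker _ (mul_mem (mul_mem hg (h.QH hx)) (inv_mem hg))).1 (by
    rw [h.conj hg (h.QH hx), (h.ker _ (h.QH hx)).2 hx, mul_one, mul_inv_cancel])

/-- the image of a subgroup -/
noncomputable def xaIm (N : Subgroup G) : Subgroup SM := (N.subgroupOf H).map h.hom

theorem xa_mem {N : Subgroup G} (hN : N ≤ H) {m : SM} : m ∈ h.xaIm N ↔ ∃ n ∈ N, ρ n = m :=
  ⟨fun ⟨n, hn, e⟩ => ⟨n, hn, e⟩, fun ⟨n, hn, e⟩ => ⟨⟨n, hN hn⟩, hn, e⟩⟩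

theorem xa_dvd {N : Subgroup G} (hN : N ≤ H) : Nat.card (h.xaIm N) ∣ Nat.card N := by
  rw [← Nat.card_congr (subgroupOfEquivOfLe hN).toEquiv]
  exact card_map_dvd _ _

theorem xa_nm {N : Subgroup G} (hN : N ≤ H) {g : G} (hg : g ∈ H) (n : g ∈ Nm N) : ρ g ∈ Nm (h.xaIm N) :=
  mem_normalizer_of_forall fun m hm => by
    obtain ⟨x, hx, rfl⟩ := (h.xa_mem hN).1 hm
    exact (h.xa_mem hN).2 ⟨_, conj_mem_of_mem_normalizer n hx, h.conj hg (hN hx)⟩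

theorem xa_lift {z : G} (hz : z ∈ H) (z3 : z ^ 3 = 1) {m : SM} (c : Commute m (ρ z)) :
    ∃ g ∈ H, g ∈ Cx z ∧ ρ g = m := by
  obtain ⟨k, hk, rfl⟩ := h.surj m
  have zH : zpowers z ≤ H := zpowers_le.2 hz
  obtain ⟨q, hq, e⟩ := Coprime.exists_mul_mem_centralizer' (U := Q) (A := zpowers z) (zH.trans h.xa_nQ)
    (L72.Gen_cop (isPGroup_zpowers_of_pow (k := 1) z3) h.Q2) (.inl (Coprime.isSolvable_zpowers z)) k fun a ha => by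
      refine h.xa_div (mul_mem (mul_mem (zH ha) hk) (inv_mem (zH ha))) hk ?_
      obtain ⟨i, rfl⟩ := ha
      have : ρ (z ^ i) = ρ z ^ i := h.hom.map_zpow ⟨z, hz⟩ i
      rw [h.conj (zpow_mem hz i) hk, this, ← (c.zpow_right i).eq, mul_inv_cancel_right]
  exact ⟨q * k, mul_mem (h.QH hq) hk, mem_Cx.2 (e z (mem_zpowers z)).symm,
    by rw [h.mul _ (h.QH hq) _ hk, (h.ker _ (h.QH hq)).2 hq, one_mul]⟩

end Rho

/-- `C(z, t12)` -/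
noncomputable abbrev xaY (ι : N4 → G) : Subgroup G := Cx (ι (nv zz)) ⊓ Cx (ι (nl t12))

theorem xa_go : act t12 zz = zz ∧ act t12 x3 = x3 ∧ act t12 x4 = x4 ∧ act t12 cc = cc ∧ act t12 a1 = a1 ∧
    act t12 a2 = a2 ∧ act r4 zz = zz ∧ act be zz = zz ∧ r4 * t12 = t12 * r4 ∧ be * t12 = t12 * be ∧ be ∈ WF4 ∧
    act r4 cc = cc ∧ x3 = a1 * a2 ∧ x4 = a1 * a2⁻¹ ∧ be * r4 * be⁻¹ * r4 = be * be ∧ be ^ 3 = 1 ∧ r4 * r4 = 1 ∧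
    act be x4 * x4⁻¹ ≠ 1 ∧ (act be x4 * x4⁻¹) ^ 3 = 1 ∧ zz ^ 3 = 1 := by decide +kernel

theorem xa_sm : β1 * β2⁻¹ = y0 ∧ β1 * β2 = c0 ∧ β3 * c0 = z0 ∧ β3 = z0 * c0 ^ 2 ∧ Commute z0 c0 ∧ Commute z0 y0 ∧
    c0 = z0 * β3⁻¹ ∧ ∀ q ∈ [1, s12, q1, q1⁻¹, q2, q2⁻¹, q1 * q2, q2 * q1],
      q * (β3 * q * β3⁻¹) * (β3 * (β3 * q * β3⁻¹) * β3⁻¹) = 1 ∨
        q * (β3 * q * β3⁻¹) * (β3 * (β3 * q * β3⁻¹) * β3⁻¹) = s12 := by decide +kernel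

theorem xa_s12 : s12 ∈ Q0 := mem_Q0.2 (by simp)

theorem xa_β3 (j : ℕ) : β3 ^ j = z0 ^ j * c0 ^ (2 * j) := by
  rw [pow_mul, ← (xa_sm.2.2.2.2.1.pow_right 2).mul_pow, ← xa_sm.2.2.2.1]

namespace CII

variable {Γ : Subgroup GO} {ι : N4 → G} {φ : SM →* G} {Q : Subgroup G} {ψ : E64 →* G} {ρ : G → SM}
  (h : CII Γ ι φ Q ψ ρ)
include h

theorem xa_nv {v : V81} (e : act t12 v = v) : ι (nv v) ∈ xaY ι :=
  ⟨mem_Cx.2 ((h.comm_iff (nv_mem Γ _) (nv_mem Γ _)).2 (by rw [← map_mul, ← map_mul, Rec3B.W4.V_comm])),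
    mem_Cx.2 ((h.toFr.comm_ev (h.toFr.m4 mem_M4.2.2.2.2.1) v).2 e).symm⟩

theorem xa_nl {w : GO} (hw : w ∈ WF4) (e : act w zz = zz) (c : w * t12 = t12 * w) : ι (nl w) ∈ xaY ι :=
  ⟨mem_Cx.2 ((h.toFr.comm_ev (h.wf hw) _).2 e), mem_Cx.2 ((h.toFr.comm_nl (h.wf hw) (h.toFr.m4 mem_M4.2.2.2.2.1)).2 c)⟩

theorem xa_z : ι (nv zz) ∈ xaY ι := h.xa_nv xa_go.1
theorem xa_3 : ι (nv x3) ∈ xaY ι := h.xa_nv xa_go.2.1
theorem xa_4 : ι (nv x4) ∈ xaY ι := h.xa_nv xa_go.2.2.1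
theorem xa_c : ι (nv cc) ∈ xaY ι := h.xa_nv xa_go.2.2.2.1
theorem xa_t : ι (nl r4) ∈ xaY ι := h.xa_nl (M4_le mem_M4.2.2.2.1) xa_go.2.2.2.2.2.2.1 xa_go.2.2.2.2.2.2.2.2.1
theorem xa_b : ι (nl be) ∈ xaY ι :=
  h.xa_nl xa_go.2.2.2.2.2.2.2.2.2.2.1 xa_go.2.2.2.2.2.2.2.1 xa_go.2.2.2.2.2.2.2.2.2.1

theorem xa_ρ : ρ (ι (nv x3)) = c0 ∧ ρ (ι (nv x4)) = y0 ∧ ρ (ι (nv zz)) = z0 := by
  obtain ⟨-, -, -, -, g1, g2, -, -, -, -, -, -, e3, e4, -⟩ := xa_go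
  have m1 := (h.xa_nv g1).2
  have m2 := (h.xa_nv g2).2
  have k3 : ρ (ι (nv x3)) = c0 := by
    rw [e3, map_mul, h.mul (nv_mem Γ _) (nv_mem Γ _), h.rho.mul _ m1 _ m2, h.ρ1, h.ρ2, xa_sm.2.1]
  refine ⟨k3, ?_, ?_⟩
  · rw [e4, map_mul, map_inv, h.mul (nv_mem Γ _) (inv_mem (nv_mem Γ _)), h.inv (nv_mem Γ _),
      h.rho.mul _ m1 _ (inv_mem m2), h.rho.inv m2, h.ρ1, h.ρ2, xa_sm.1]
  · rw [vals4.2.2.2.2.2.2.2.1, map_mul, h.mul (nv_mem Γ _) (nv_mem Γ _), h.rho.mul _ h.xa_c.2 _ h.xa_3.2, h.ρ3, k3,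
      xa_sm.2.2.1]

theorem xa_cz {g : G} (hg : g ∈ xaY ι) : Commute (ρ g) z0 := h.xa_ρ.2.2 ▸ h.rho.comm hg.2 h.xa_z.2 (mem_Cx.1 hg.1)

theorem xa_lift {m : SM} (c : Commute m z0) : ∃ g ∈ xaY ι, ρ g = m := by
  obtain ⟨g, h1, h2, e⟩ := h.rho.xa_lift h.xa_z.2 (m := m)
    (by rw [← h.pow (nv_mem Γ _), ← map_pow, xa_go.2.2.2.2.2.2.2.2.2.2.2.2.2.2.2.2.2.2.2, map_one, h.one])
    (h.xa_ρ.2.2.symm ▸ c)
  exact ⟨g, ⟨h2, h1⟩, e⟩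

theorem xa_DY : Q0.map φ ≤ xaY ι := fun g hg => ⟨((h.cz g).2 hg).2, h.rho.QH ((h.cz g).2 hg).1⟩

theorem xa_ker {g : G} (hg : g ∈ xaY ι) : ρ g = 1 ↔ g ∈ Q0.map φ := by
  rw [h.rho.ker g hg.2, ← h.cz]
  exact ⟨fun k => ⟨k, hg.1⟩, fun k => k.1⟩

theorem xa_nD : xaY ι ≤ Nm (Q0.map φ) := fun g hg => mem_normalizer_of_forall fun x hx =>
  (h.xa_ker (mul_mem (mul_mem hg (h.xa_DY hx)) (inv_mem hg))).1 (by
    rw [h.rho.conj hg.2 (h.xa_DY hx).2, (h.xa_ker (h.xa_DY hx)).2 hx, mul_one, mul_inv_cancel])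

/-- the Sylow subgroup -/
def xaT : Subgroup G where
  carrier := {g | g ∈ xaY ι ∧ ρ g ∈ Q0}
  one_mem' := ⟨one_mem _, h.rho.one ▸ one_mem _⟩
  mul_mem' := fun {a b} ha hb => ⟨mul_mem ha.1 hb.1, h.rho.mul _ ha.1.2 _ hb.1.2 ▸ mul_mem ha.2 hb.2⟩
  inv_mem' := fun {a} ha => ⟨inv_mem ha.1, h.rho.inv ha.1.2 ▸ inv_mem ha.2⟩

theorem xa_TY : h.xaT ≤ xaY ι := fun _ hg => hg.1

theorem xa_DT : Q0.map φ ≤ h.xaT := fun _ hg =>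
  ⟨h.xa_DY hg, (h.xa_ker (h.xa_DY hg)).2 hg ▸ one_mem _⟩

theorem xa_liftT {q : SM} (hq : q ∈ Q0) : ∃ g ∈ h.xaT, ρ g = q := by
  obtain ⟨g, hg, rfl⟩ := h.xa_lift (Q0_facts q hq).1
  exact ⟨g, ⟨hg, hq⟩, rfl⟩

theorem xa_nT {g : G} (hg : g ∈ xaY ι) (n : ρ g ∈ Nm Q0) : g ∈ Nm h.xaT :=
  mem_normalizer_of_forall fun x hx => ⟨mul_mem (mul_mem hg hx.1) (inv_mem hg),
    h.rho.conj hg.2 hx.1.2 ▸ conj_mem_of_mem_normalizer n hx.2⟩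

theorem xa_card : Nat.card h.xaT = 64 := by
  let f : h.xaT →* SM := h.rho.hom.comp (inclusion (h.xa_TY.trans inf_le_right))
  have k : f.ker = (Q0.map φ).subgroupOf h.xaT := Subgroup.ext fun g => h.xa_ker g.2.1
  have r : f.range = Q0 := le_antisymm (by rintro _ ⟨g, rfl⟩; exact g.2.2) fun q hq => by
    obtain ⟨g, hg, e⟩ := h.xa_liftT hq
    exact ⟨⟨g, hg⟩, e⟩
  rw [← f.ker.card_mul_index, index_ker, r, k, Nat.card_congr (subgroupOfEquivOfLe h.xa_DT).toEquiv,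
    card_map_of_injective h.ch.inj, card_Q0]

theorem xa_syl : IsSylowIn 2 h.xaT (xaY ι) := by
  refine isSylowIn_of_maximal (IsPGroup.of_card (n := 6) h.xa_card) h.xa_TY fun R hR le hY g hg => ⟨hY hg, ?_⟩
  have RH : R ≤ Cx (ι (nl t12)) := hY.trans inf_le_right
  rw [← syl_Q0.eq_of_le (Q := h.rho.xaIm R) (hR.comap_subtype.map _) (fun q hq => ?_) fun m hm => ?_]
  · exact (h.rho.xa_mem RH).2 ⟨g, hg, rfl⟩
  · obtain ⟨g, hg, e⟩ := h.xa_liftT hq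
    exact (h.rho.xa_mem RH).2 ⟨g, le hg, e⟩
  · obtain ⟨g, hg, rfl⟩ := (h.rho.xa_mem RH).1 hm
    exact mem_Cx.2 (h.xa_cz (hY hg))

theorem xa_tT : ι (nl r4) ∈ h.xaT := ⟨h.xa_t, h.ρ4 ▸ xa_s12⟩

theorem xa_t2 : ι (nl r4) * ι (nl r4) = 1 := by
  rw [← h.toFr.nl_mul (h.toFr.m4 mem_M4.2.2.2.1) (h.toFr.m4 mem_M4.2.2.2.1),
    xa_go.2.2.2.2.2.2.2.2.2.2.2.2.2.2.2.2.1, map_one, h.one]

theorem xa_Dt : Q0.map φ ≤ Cx (ι (nl r4)) := by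
  rintro _ ⟨q, -, rfl⟩
  exact mem_Cx.2 (h.w4 q).symm

theorem xa_over {g : G} (hg : g ∈ xaY ι) (e : ρ g = s12) : g * ι (nl r4) ∈ Q0.map φ :=
  (h.xa_ker (mul_mem hg h.xa_t)).1 (by rw [h.rho.mul _ hg.2 _ h.xa_t.2, e, h.ρ4, Q0_vals.2.2.2.2.1])

theorem xa_invD {g : G} (hg : g ∈ Q0.map φ) (e : g * g = 1) : g = 1 ∨ g = ι (nl t12) := by
  obtain ⟨q, hq, rfl⟩ := hg
  rcases (Q0_facts q hq).2.2.1 (h.ch.inj (by rw [map_mul, e, map_one])) with rfl | rfl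
  exacts [.inl (map_one φ), .inr h.w12.symm]

theorem xa_inv' {g : G} (hg : g ∈ xaY ι) (e : g * g = 1) (r : ρ g = s12) :
    g = ι (nl r4) ∨ g = ι (nl t12) * ι (nl r4) := by
  have d := h.xa_over hg r
  have c := mem_Cx.1 (h.xa_Dt d)
  have t2 := h.xa_t2
  have k : ∀ x, g * ι (nl r4) = x → g = x * ι (nl r4) := fun x e => by rw [← e, mul_assoc, t2, mul_one]
  refine (h.xa_invD d ?_).imp (fun e => by rw [k _ e, one_mul]) (k _)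
  calc _ = g * (ι (nl r4) * (g * ι (nl r4))) := by group
    _ = 1 := by rw [← c, mul_assoc g (ι _), t2, mul_one, e]

theorem xa_invs {g : G} (hg : g ∈ h.xaT) (e : g * g = 1) :
    g = 1 ∨ g = ι (nl t12) ∨ g = ι (nl r4) ∨ g = ι (nl t12) * ι (nl r4) := by
  rcases (Q0_facts _ hg.2).2.2.1 (by rw [← h.rho.mul _ hg.1.2 _ hg.1.2, e, h.rho.one]) with r | r
  · exact (h.xa_invD ((h.xa_ker hg.1).1 r) e).imp_right .inl
  · exact .inr (.inr (h.xa_inv' hg.1 e r))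

theorem xa_cT : h.xaT ≤ Cx (ι (nl r4)) := by
  have t2 := h.xa_t2
  have k1 : ∀ g ∈ h.xaT, g ∉ Cx (ι (nl r4)) → g * ι (nl r4) * g⁻¹ = ι (nl t12) * ι (nl r4) := fun g hg n => by
    refine (h.xa_inv' (mul_mem (mul_mem hg.1 h.xa_t) (inv_mem hg.1)) ?_ ?_).resolve_left fun e => n (mem_Cx'.2 e)
    · rw [conj_mul, t2, mul_one, mul_inv_cancel]
    · rw [h.rho.conj hg.1.2 h.xa_t.2, h.ρ4, (Q0_facts _ hg.2).2.1.eq, mul_inv_cancel_right]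
  have k2 : ∀ g ∈ h.xaT, g ∉ Cx (ι (nl r4)) → ∀ k ∈ h.xaT, k ∉ Cx (ι (nl r4)) → g * k ∈ Cx (ι (nl r4)) :=
    fun g hg n k hk m => mem_Cx'.2 (by
      have p2 : ι (nl t12) * ι (nl t12) = 1 := by rw [h.w12, ← map_mul, Q0_vals.2.2.2.2.1, map_one]
      calc _ = g * (k * ι (nl r4) * k⁻¹) * g⁻¹ := by group
        _ = (g * ι (nl t12) * g⁻¹) * (g * ι (nl r4) * g⁻¹) := by rw [k1 k hk m, conj_mul]
        _ = _ := by rw [mem_Cx'.1 hg.1.2, k1 g hg n, ← mul_assoc, p2, one_mul])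
  have k3 : ∀ g ∈ xaY ι, ρ g = 1 ∨ ρ g = s12 → g ∈ Cx (ι (nl r4)) := fun g hg e => by
    rcases e with e | e
    · exact h.xa_Dt ((h.xa_ker hg).1 e)
    · exact (Subgroup.mul_mem_cancel_right _ (mem_Cx.2 rfl)).1 (h.xa_Dt (h.xa_over hg e))
  have ct : ι (nv cc) ∈ Cx (ι (nl r4)) :=
    mem_Cx.2 ((h.toFr.comm_ev (h.toFr.m4 mem_M4.2.2.2.1) _).2 xa_go.2.2.2.2.2.2.2.2.2.2.2.1).symm
  have cn : ι (nv cc) ∈ Nm h.xaT := h.xa_nT h.xa_c (h.ρ3 ▸ β3_nQ0)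
  have k4 : ∀ g ∈ h.xaT, g ∉ Cx (ι (nl r4)) → ι (nv cc) * g * (ι (nv cc))⁻¹ ∈ h.xaT ∧
      ι (nv cc) * g * (ι (nv cc))⁻¹ ∉ Cx (ι (nl r4)) ∧ ρ (ι (nv cc) * g * (ι (nv cc))⁻¹) = β3 * ρ g * β3⁻¹ :=
    fun g hg n => ⟨conj_mem_of_mem_normalizer cn hg,
      fun m => n ((Subgroup.mul_mem_cancel_left _ ct).1 ((Subgroup.mul_mem_cancel_right _ (inv_mem ct)).1 m)),
      by rw [h.rho.conj h.xa_c.2 hg.1.2, h.ρ3]⟩
  intro g hg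
  by_contra n
  obtain ⟨a1, a2, a3⟩ := k4 g hg n
  obtain ⟨b1, b2, b3⟩ := k4 _ a1 a2
  refine b2 ((Subgroup.mul_mem_cancel_left _ (k2 g hg n _ a1 a2)).1 (k3 _ (mul_mem (mul_mem hg.1 a1.1) b1.1) ?_))
  rw [h.rho.mul _ (mul_mem hg.1.2 a1.1.2) _ b1.1.2, h.rho.mul _ hg.1.2 _ a1.1.2, b3, a3]
  exact xa_sm.2.2.2.2.2.2.2 _ (mem_Q0.1 hg.2)

theorem xa_RY : R1 ι ≤ xaY ι := (closure_le _).2 (by
  rintro _ (rfl | rfl | rfl)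
  exacts [h.xa_z, h.xa_4, h.xa_b])

theorem xa_R3 : IsPGroup 3 (R1 ι) := by
  have le : SV ≤ NG Γ := fun a ha => h.wf ((show ∀ g ∈ XX, g ∈ WF4 by decide +kernel) _ ha)
  refine (h.im_pgroup le BasA.SV_pgroup).to_le ((closure_le _).2 ?_)
  rintro _ (rfl | rfl | rfl)
  exacts [mem_gim_of (nv_mem _ _), mem_gim_of (nv_mem _ _), mem_gim_of (nl_mem BasA.albe.2.1)]

theorem xa_RQ {r : G} (hr : r ∈ R1 ι) (hq : r ∈ Q) : r = 1 :=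
  mem_bot.1 ((IsPGroup.disjoint_of_ne 3 2 (by norm_num) _ _ h.xa_R3 h.rho.Q2).le_bot ⟨hr, hq⟩)

theorem xa_bb : ι (nl be) * ι (nl r4) * (ι (nl be))⁻¹ * ι (nl r4) = ι (nl be) * ι (nl be) ∧
    ι (nl be) = ι (nl be) * ι (nl be) * (ι (nl be) * ι (nl be)) := by
  obtain ⟨-, -, -, -, -, -, -, -, -, -, hb, -, -, -, e, b3, -⟩ := xa_go
  have m := h.wf hb
  have m4 := h.toFr.m4 mem_M4.2.2.2.1
  constructor
  · rw [h.toFr.conj_nl m m4, ← h.toFr.nl_mul (mul_mem (mul_mem m m4) (inv_mem m)) m4, e, h.toFr.nl_mul m m]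
  · have : ι (nl be) ^ 3 = 1 := by rw [← h.pow (nl_mem m), ← map_pow, b3, map_one, h.one]
    calc _ = ι (nl be) ^ 3 * ι (nl be) := by rw [this, one_mul]
      _ = _ := by simp only [pow_succ, pow_zero, one_mul, mul_assoc]

theorem xa_ρb : ρ (ι (nl be)) ∈ R0 ∧ ρ (ι (nl be)) ∉ closure ({z0, y0} : Set SM) := by
  have b := h.xa_b
  have t := h.xa_t
  constructor
  · have k := s12_R0 (h.xa_cz b)
    rw [← h.ρ4, ← h.rho.conj b.2 t.2, ← h.rho.mul _ (mul_mem (mul_mem b.2 t.2) (inv_mem b.2)) _ t.2, h.xa_bb.1] at k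
    rw [h.xa_bb.2, h.rho.mul _ (mul_mem b.2 b.2) _ (mul_mem b.2 b.2)]
    exact mul_mem k k
  · intro k
    obtain ⟨-, -, -, -, -, -, -, -, -, -, hb, -, -, -, -, -, -, n1, -⟩ := xa_go
    have c : ρ (ι (nl be)) ∈ Cx y0 := (closure_le (Cx y0)).2 (by
      rintro _ (rfl | rfl)
      exacts [mem_Cx.2 xa_sm.2.2.2.2.2.1, mem_Cx.2 rfl]) k
    have m : ι (nl be) * ι (nv x4) * (ι (nl be))⁻¹ * (ι (nv x4))⁻¹ ∈ R1 ι :=
      have b1 : ι (nl be) ∈ R1 ι := subset_closure (by simp)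
      have b2 : ι (nv x4) ∈ R1 ι := subset_closure (by simp)
      mul_mem (mul_mem (mul_mem b1 b2) (inv_mem b1)) (inv_mem b2)
    have e := h.xa_RQ m (h.rho.xa_div (mul_mem (mul_mem b.2 h.xa_4.2) (inv_mem b.2)) h.xa_4.2
      (by rw [h.rho.conj b.2 h.xa_4.2, h.xa_ρ.2.1, mem_Cx'.1 c]))
    rw [h.toFr.conj_ev (nl_mem (h.wf hb)), mul_inv_eq_one, h.eq_iff (nv_mem Γ _) (nv_mem Γ _), nv_inj.eq_iff] at e
    exact n1 (mul_inv_eq_one.2 e)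

theorem xa_imR : h.rho.xaIm (R1 ι) = R0 := by
  have RH : R1 ι ≤ Cx (ι (nl t12)) := h.xa_RY.trans inf_le_right
  refine le_antisymm (fun m hm => ?_) ((R0_gen h.xa_ρb.1 h.xa_ρb.2).trans ((closure_le _).2 ?_))
  · obtain ⟨r, hr, rfl⟩ := (h.rho.xa_mem RH).1 hm
    clear hm
    induction hr using closure_induction with
    | mem x hx =>
      rcases hx with rfl | rfl | rfl
      · exact h.xa_ρ.2.2 ▸ subset_closure (by simp)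
      · exact h.xa_ρ.2.1 ▸ subset_closure (by simp)
      · exact h.xa_ρb.1
    | one => exact h.rho.one ▸ one_mem _
    | mul a b ha hb ia ib => exact h.rho.mul _ (RH ha) _ (RH hb) ▸ mul_mem ia ib
    | inv a ha ia => exact h.rho.inv (RH ha) ▸ inv_mem ia
  · rintro _ (rfl | rfl | rfl)
    · exact (h.rho.xa_mem RH).2 ⟨_, subset_closure (by simp), h.xa_ρ.2.2⟩
    · exact (h.rho.xa_mem RH).2 ⟨_, subset_closure (by simp), h.xa_ρ.2.1⟩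
    · exact (h.rho.xa_mem RH).2 ⟨_, subset_closure (by simp), rfl⟩

theorem xa_liftR {m : SM} (hm : m ∈ R0) : ∃ r ∈ R1 ι, ρ r = m :=
  (h.rho.xa_mem (h.xa_RY.trans inf_le_right)).1 (h.xa_imR ▸ hm)

theorem xa_RD : R1 ι ≤ centralizer (Q0.map φ : Set G) := (closure_le _).2 (by
  have t : ι (nl r4) ∈ centralizer (Q0.map φ : Set G) := fun d hd => mem_Cx.1 (h.xa_Dt hd)
  rintro _ (rfl | rfl | rfl)
  · exact fun d hd => mem_Cx.1 (h.xa_DY hd).1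
  · rintro _ ⟨q, -, rfl⟩
    exact (h.ch.comm q).symm
  · have k : ι (nl be) * ι (nl r4) * (ι (nl be))⁻¹ ∈ centralizer (Q0.map φ : Set G) := fun d hd => by
      have := t _ (conj_mem_of_mem_normalizer' (h.xa_nD h.xa_b) hd)
      calc _ = ι (nl be) * ((ι (nl be))⁻¹ * d * ι (nl be) * ι (nl r4)) * (ι (nl be))⁻¹ := by group
        _ = _ := by rw [this]; group
    have := mul_mem k t
    rw [h.xa_bb.1] at this
    rw [SetLike.mem_coe, h.xa_bb.2]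
    exact mul_mem this this)

theorem xa_split {g r : G} (hg : g ∈ xaY ι) (hr : r ∈ xaY ι) {q : SM} (hq : q ∈ Q0) {j : ℕ}
    (e : ρ g = ρ r * q * c0 ^ j) : ∃ s ∈ h.xaT, g = r * s * ι (nv x3) ^ j := by
  have m := pow_mem h.xa_3 j
  refine ⟨r⁻¹ * g * (ι (nv x3) ^ j)⁻¹, ⟨mul_mem (mul_mem (inv_mem hr) hg) (inv_mem m), ?_⟩, by group⟩
  rw [h.rho.mul _ (mul_mem (inv_mem hr.2) hg.2) _ (inv_mem m.2), h.rho.mul _ (inv_mem hr.2) _ hg.2, h.rho.inv hr.2,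
    h.rho.inv m.2, h.rho.pow h.xa_3.2, h.xa_ρ.1, e]
  simpa [mul_assoc] using hq

end CII

theorem exists_xd {Γ : Subgroup GO} {ι : N4 → G} {φ : SM →* G} {Q : Subgroup G} {ψ : E64 →* G} {ρ : G → SM}
    (h : CII Γ ι φ Q ψ ρ) : ∃ T, XD Γ ι φ T := by
  have zR : ι (nv zz) ∈ R1 ι := subset_closure (by simp)
  have RH : R1 ι ≤ Cx (ι (nl t12)) := h.xa_RY.trans inf_le_right
  refine ⟨h.xaT, h.toFr, h.wf, h.xa_syl, h.xa_card, h.xa_DT, h.xa_TY.trans h.xa_nD, h.xa_tT, h.xa_cT,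
    fun g hg => h.xa_invs hg, ?_, ?_, fun g hg c => ?_, fun g hg => ?_, fun N ho le hn n hN => ?_, fun N le hn => ?_⟩
  · obtain ⟨g, hg, e⟩ := h.xa_liftT (q := q1) (subset_closure (by simp))
    exact ⟨g, hg, h.xa_over (mul_mem hg.1 hg.1) (by rw [h.rho.mul _ hg.1.2 _ hg.1.2, e, Q0_vals.1])⟩
  · refine h.xa_nT h.xa_3 ?_
    rw [h.xa_ρ.1, xa_sm.2.2.2.2.2.2.1]
    exact mul_mem (centralizer_le_normalizer _ fun q hq => (Q0_facts q hq).1.eq) (inv_mem β3_nQ0)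
  · obtain ⟨q, hq, i, j, e⟩ := cz0s (h.xa_cz hg) (h.ρ4 ▸ h.rho.comm hg.2 h.xa_t.2 (mem_Cx.1 c))
    obtain ⟨s, hs, k⟩ := h.xa_split hg (pow_mem h.xa_z (i + j)) hq (j := 2 * j) (by
      rw [e, h.rho.pow h.xa_z.2, h.xa_ρ.2.2, xa_β3, ← ((Q0_facts q hq).1.pow_right _).eq, pow_add]
      simp only [mul_assoc])
    exact ⟨s, hs, i + j, 2 * j, by rw [k, ((show Commute s _ from mem_Cx.1 hs.1.1).pow_right _).eq]⟩
  · obtain ⟨m, hm, q, hq, j, e⟩ := cz0 (h.xa_cz hg)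
    obtain ⟨r, hr, rfl⟩ := h.xa_liftR hm
    have k := mul_mem hr (pow_mem zR j)
    obtain ⟨s, hs, k'⟩ := h.xa_split hg (h.xa_RY k) hq (j := 2 * j) (by
      rw [e, h.rho.mul _ (RH hr) _ (pow_mem h.xa_z.2 j), h.rho.pow h.xa_z.2, h.xa_ρ.2.2, xa_β3, mul_assoc _ (z0 ^ j) q,
        ← ((Q0_facts q hq).1.pow_right _).eq]
      simp only [mul_assoc])
    exact ⟨_, k, s, hs, 2 * j, k'⟩
  · have NH : N ≤ Cx (ι (nl t12)) := le.trans inf_le_right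
    have k : h.rho.xaIm N ≤ R0 := odd_R0 (ho.of_dvd_nat (h.rho.xa_dvd NH)) (fun m hm => by
      obtain ⟨g, hg, rfl⟩ := (h.rho.xa_mem NH).1 hm
      exact mem_Cx.2 (h.xa_cz (le hg))) fun m hm => by
      obtain ⟨g, hg, rfl⟩ := h.xa_lift (mem_Cx.1 hm)
      exact h.rho.xa_nm NH hg.2 (hn hg)
    obtain ⟨r, hr, e⟩ := h.xa_liftR (k ((h.rho.xa_mem NH).2 ⟨n, hN, rfl⟩))
    have dQ : n * r⁻¹ ∈ Q := h.rho.xa_div (NH hN) (RH hr) e.symm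
    have dD : n * r⁻¹ ∈ Q0.map φ := (h.cz _).1 (mem_inf.2 ⟨dQ, (mul_mem (le hN) (inv_mem (h.xa_RY hr))).1⟩)
    have c : Commute (n * r⁻¹) r := h.xa_RD hr _ dD
    have p : (n * r⁻¹) ^ Nat.card N * r ^ Nat.card N = 1 := by
      rw [← c.mul_pow, inv_mul_cancel_right]
      exact congrArg Subtype.val (pow_card_eq_one' (x := (⟨n, hN⟩ : N)))
    have p1 : (n * r⁻¹) ^ Nat.card N = 1 :=
      h.xa_RQ (eq_inv_of_mul_eq_one_left p ▸ inv_mem (pow_mem hr _)) (pow_mem dQ _)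
    obtain ⟨a, ha⟩ := isPGroup_iff_mem.1 h.rho.Q2 _ dQ
    have : n * r⁻¹ ∈ R1 ι := mem_of_coprime_pow (Nat.Coprime.pow_left a ho.coprime_two_left)
      (ha ▸ one_mem _) (p1 ▸ one_mem _)
    simpa using mul_mem this hr
  · have NH := le.trans RH
    have inj : ∀ a ∈ R1 ι, ∀ b ∈ R1 ι, ρ a = ρ b → a = b := fun a ha b hb e =>
      mul_inv_eq_one.1 (h.xa_RQ (mul_mem ha (inv_mem hb)) (h.rho.xa_div (RH ha) (RH hb) e))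
    refine (irr_R0 (N := h.rho.xaIm N) (h.xa_imR ▸ map_mono (comap_mono le)) fun q hq => ?_).imp
      (fun k n hN => ?_) fun k r hr => ?_
    · obtain ⟨g, hg, rfl⟩ := h.xa_liftT hq
      exact h.rho.xa_nm NH hg.1.2 (hn hg)
    · obtain ⟨i, hi⟩ := k ((h.rho.xa_mem NH).2 ⟨n, hN, rfl⟩)
      refine ⟨i, inj _ (zpow_mem zR i) _ (le hN) (Eq.trans ?_ hi)⟩
      exact (h.rho.hom.map_zpow ⟨_, h.xa_z.2⟩ i).trans (congrArg (· ^ i) h.xa_ρ.2.2)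
    · obtain ⟨n, hN, e⟩ := (h.rho.xa_mem NH).1 (k (h.xa_imR ▸ (h.rho.xa_mem RH).2 ⟨r, hr, rfl⟩))
      exact inj n (le hN) r hr e ▸ hN

end CfsgLib.S86
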