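import Cfsg.Agent.Lib.S86.XB

/-! The pattern with 24 points is impossible (project S86, see plans/S86.md). -/

set_option autoImplicit false
set_option maxRecDepth 100000
set_option Elab.async false
set_option linter.unusedSectionVars false

namespace CfsgLib.S86

open Subgroup CfsgLib.W2 CfsgLib.Tech CfsgLib.PComp CfsgLib.Rec3C CfsgLib.Rec3C.V4
open CfsgLib.Rec3B (V81)
open CfsgLib.L72 (Nm IsQ Oc)
open scoped commutatorElement

variable {G : Type*} [Group G] [Finite G]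

/-- the abstract situation `T = Q₈ × Q₈`, `σ` interchanges the factors -/
structure XeD (X T D : Subgroup G) (π t σ d : G) : Prop where
  syl : IsSylowIn 2 T (X ⊓ Cx π)
  cT : T ≤ Cx t
  πT : π ∈ T
  tT : t ∈ T
  invs : ∀ g ∈ T, g * g = 1 → g = 1 ∨ g = π ∨ g = t ∨ g = π * t
  ne : π ≠ t
  π2 : π * π = 1
  π1 : π ≠ 1
  σX : σ ∈ X
  σ2 : σ * σ = 1
  σπ : σ * π * σ⁻¹ = t
  σT : σ ∈ Nm T
  nT : ∀ g ∈ X, g ∈ Nm T → (∃ n : ℕ, g ^ 2 ^ n = 1) → (∃ n : ℕ, (g * σ) ^ 2 ^ n = 1) → g ∈ T ∨ g * σ ∈ T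
  DT : D ≤ T
  nD : T ≤ Nm D
  dD : d ∈ D
  d2 : d * d = π
  D4 : ∀ c ∈ D, c * c * (c * c) = 1
  invD : ∀ c ∈ D, c * c = 1 → c = 1 ∨ c = π

namespace XeD

variable {X T D : Subgroup G} {π t σ d : G} (h : XeD X T D π t σ d)
include h

theorem σi : σ⁻¹ = σ := inv_eq_of_mul_eq_one_right h.σ2

theorem σt : σ * t * σ⁻¹ = π := by
  rw [← h.σπ]
  calc _ = (σ * σ) * π * (σ * σ)⁻¹ := by group
    _ = π := by rw [h.σ2]; group

theorem t2 : t * t = 1 := by rw [← h.σπ, conj_mul, h.π2]; group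

theorem t1 : t ≠ 1 := fun e => h.π1 (by rw [← h.σt, e]; group)

theorem cπ {g : G} (hg : g ∈ T) : g * π * g⁻¹ = π := mem_Cx'.1 (h.syl.le hg).2

theorem ct {g : G} (hg : g ∈ T) : g * t * g⁻¹ = t := mem_Cx'.1 (h.cT hg)

theorem πt : π * t = t * π := mem_Cx.1 (h.cT h.πT)

theorem mulσ {a b : G} (ha : a * σ ∈ T) (hb : b * σ ∈ T) : a * b ∈ T := by
  have := mul_mem ha (conj_mem_of_mem_normalizer h.σT hb)
  rwa [show a * σ * (σ * (b * σ) * σ⁻¹) = a * (σ * σ) * b by group, h.σ2, mul_one] at this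

/-- the Sylow subgroup of order 128 -/
def T2 : Subgroup G where
  carrier := {g | g ∈ T ∨ g * σ ∈ T}
  one_mem' := .inl (one_mem _)
  mul_mem' := fun {a b} ha hb => by
    rcases ha with ha | ha <;> rcases hb with hb | hb
    · exact .inl (mul_mem ha hb)
    · exact .inr (mul_assoc a b σ ▸ mul_mem ha hb)
    · refine .inr ?_
      have := mul_mem ha (conj_mem_of_mem_normalizer' h.σT hb)
      rwa [show a * σ * (σ⁻¹ * b * σ) = a * b * σ by group] at this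
    · exact .inl (h.mulσ ha hb)
  inv_mem' := fun {a} ha => ha.imp inv_mem fun ha => by
    have := conj_mem_of_mem_normalizer h.σT (inv_mem ha)
    rwa [show σ * (a * σ)⁻¹ * σ⁻¹ = a⁻¹ * σ⁻¹ by group, h.σi] at this

theorem le2 : T ≤ h.T2 := fun _ hg => .inl hg

theorem σ2' : σ ∈ h.T2 := .inr (h.σ2 ▸ one_mem _)

theorem sq {g : G} (hg : g ∈ h.T2) : g * g ∈ T := hg.elim (fun k => mul_mem k k) fun k => h.mulσ k k

theorem two : IsPGroup 2 h.T2 := isPGroup_iff_mem.2 fun g hg => by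
  obtain ⟨n, hn⟩ := isPGroup_iff_mem.1 h.syl.pgroup _ (h.sq hg)
  exact ⟨n + 1, by rw [pow_succ', pow_mul, pow_two, hn]⟩

theorem out {g : G} (hg : g * σ ∈ T) : g * π * g⁻¹ = t ∧ g * t * g⁻¹ = π := by
  have e : ∀ x, g * x * g⁻¹ = (g * σ) * (σ * x * σ⁻¹) * (g * σ)⁻¹ := fun x => by
    calc _ = g * ((σ * σ) * x * (σ * σ)⁻¹) * g⁻¹ := by rw [h.σ2]; group
      _ = _ := by group
  rw [e π, e t, h.σπ, h.σt, h.ct hg, h.cπ hg]
  exact ⟨rfl, rfl⟩

theorem T2X : h.T2 ≤ X := fun _ hg => hg.elim (fun k => (h.syl.le k).1) fun k =>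
  (Subgroup.mul_mem_cancel_right _ h.σX).1 (h.syl.le k).1

theorem T2ζ : h.T2 ≤ Cx (π * t) := fun g hg => mem_Cx'.2 (by
  rw [← conj_mul]
  rcases hg with k | k
  · rw [h.cπ k, h.ct k]
  · rw [(h.out k).1, (h.out k).2, h.πt])

theorem nT2 {g : G} (hg : g ∈ h.T2) : g ∈ Nm T := hg.elim (fun k => le_normalizer k) fun k =>
  (Subgroup.mul_mem_cancel_right _ h.σT).1 (le_normalizer k)

theorem cenT {g u : G} (hg : g ∈ T) (hu : u ∈ T) (u2 : u * u = 1) : g * u * g⁻¹ = u := by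
  rcases h.invs u hu u2 with rfl | rfl | rfl | rfl
  exacts [by group, h.cπ hg, h.ct hg, mem_Cx'.1 (h.T2ζ (h.le2 hg))]

theorem syl2 : IsSylowIn 2 h.T2 X := by
  by_contra n
  obtain ⟨R, hR, lt, RX, RN⟩ := exists_lt_pgroup_normalizer h.two h.T2X n
  refine lt.not_ge fun x hx => h.nT x (RX hx) (mem_normalizer_of_forall fun s hs => ?_)
    (isPGroup_iff_mem.1 hR x hx) (isPGroup_iff_mem.1 hR _ (mul_mem hx (lt.le h.σ2')))
  refine (conj_mem_of_mem_normalizer (RN hx) (h.le2 hs)).resolve_right fun k => h.ne ?_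
  have m : x⁻¹ * π * x ∈ T := by
    have := h.sq (conj_mem_of_mem_normalizer' (RN hx) (h.le2 (h.DT h.dD)))
    rwa [show x⁻¹ * d * x * (x⁻¹ * d * x) = x⁻¹ * (d * d) * x by group, h.d2] at this
  have c := h.cenT hs m (by rw [show x⁻¹ * π * x * (x⁻¹ * π * x) = x⁻¹ * (π * π) * x by group, h.π2]; group)
  rw [← (h.out k).1]
  calc π = x * (x⁻¹ * π * x) * x⁻¹ := by group
    _ = _ := by rw [← c]; group

theorem nπ {k : G} (hk : k ∈ X) : k * (π * t) * k⁻¹ ≠ π := fun e => by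
  have le : cj k h.T2 ≤ X ⊓ Cx π := cj_le_iff.2 fun x hx =>
    mem_inf.2 ⟨mul_mem (mul_mem hk (h.T2X hx)) (inv_mem hk), e ▸ conj_mem_Cx.2 (h.T2ζ hx)⟩
  have c := h.syl.card_le (isPGroup_cj k h.two) le
  rw [card_cj] at c
  have : σ ∈ T := eq_of_le_of_card_ge h.le2 c ▸ h.σ2'
  exact h.ne ((h.cπ this).symm.trans h.σπ)

theorem ζ2 : π * t * (π * t) = 1 := by
  rw [mul_assoc, ← mul_assoc t, ← h.πt, mul_assoc, h.t2, mul_one, h.π2]

theorem wcT {k : G} (hk : k ∈ X) (m : k * (π * t) * k⁻¹ ∈ T) : k * (π * t) * k⁻¹ = π * t := by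
  rcases h.invs _ m (by rw [conj_mul, h.ζ2]; group) with e | e | e | e
  · rw [conj_eq_one_iff] at e
    exact absurd ((eq_inv_of_mul_eq_one_left e).trans (inv_eq_of_mul_eq_one_right h.t2)) h.ne
  · exact absurd e (h.nπ hk)
  · refine absurd ?_ (h.nπ (mul_mem h.σX hk))
    rw [show σ * k * (π * t) * (σ * k)⁻¹ = σ * (k * (π * t) * k⁻¹) * σ⁻¹ by group, e, h.σt]
  · exact e

theorem meet {s c : G} (hs : s * σ ∈ T) (h1 : c ∈ D) (h2 : s⁻¹ * c * s ∈ D) : c = 1 := by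
  have k : ∀ c ∈ D, s⁻¹ * c * s ∈ D → c * c = 1 → c = 1 := fun c h1 h2 e => by
    refine (h.invD c h1 e).resolve_right fun e1 => ?_
    rcases h.invD _ h2 (by rw [show s⁻¹ * c * s * (s⁻¹ * c * s) = s⁻¹ * (c * c) * s by group, e]; group) with e2 | e2
    · exact h.π1 (by rw [← e1, show c = s * (s⁻¹ * c * s) * s⁻¹ by group, e2]; group)
    · exact h.ne (e1.symm.trans (by rw [← (h.out hs).1, ← e2]; group))
  refine k c h1 h2 (k _ (mul_mem h1 h1) ?_ (h.D4 c h1))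
  rw [show s⁻¹ * (c * c) * s = s⁻¹ * c * s * (s⁻¹ * c * s) by group]
  exact mul_mem h2 h2

theorem wc {k : G} (hk : k ∈ X) (m : k * (π * t) * k⁻¹ ∈ h.T2) : k * (π * t) * k⁻¹ = π * t := by
  refine h.wcT hk (by_contra fun n => ?_)
  set s := k * (π * t) * k⁻¹ with hs
  have sσ := m.resolve_left n
  have s2 : s * s = 1 := by rw [hs, conj_mul, h.ζ2]; group
  obtain ⟨g, hg, e, p⟩ := exists_ext h.two h.T2X (isSylowIn_cent_of_central h.syl2 h.T2ζ) (a := s) (inv_mem hk)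
    (by rw [hs]; group)
  have dT := h.DT h.dD
  have d' : s * d * s⁻¹ ∈ T := conj_mem_of_mem_normalizer (h.nT2 m) dT
  have c : Commute d (s * d * s⁻¹) := by
    refine commutatorElement_eq_one_iff_commute.1 (h.meet sσ ?_ ?_)
    · rw [commutatorElement_def, mul_assoc, mul_assoc, ← mul_assoc _ d⁻¹]
      exact mul_mem h.dD (conj_mem_of_mem_normalizer (h.nD d') (inv_mem h.dD))
    · rw [show s⁻¹ * ⁅d, s * d * s⁻¹⁆ * s = (s⁻¹ * d * s) * d * (s⁻¹ * d * s)⁻¹ * d⁻¹ by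
        rw [commutatorElement_def]; group]
      exact mul_mem (conj_mem_of_mem_normalizer (h.nD (conj_mem_of_mem_normalizer' (h.nT2 m) dT)) h.dD) (inv_mem h.dD)
  have q : g * (d * (s * d * s⁻¹)) * g⁻¹ ∈ h.T2 := p _ (h.le2 (mul_mem dT d')) (by
    calc d * (s * d * s⁻¹) * s = (s * s) * d * s * d := by rw [s2]; group
      _ = s * ((s * d * s⁻¹) * (s * s) * d) := by group
      _ = _ := by rw [s2, mul_one, c.eq])
  have q2 := h.sq q
  rw [conj_mul, c.symm.mul_mul_mul_comm, conj_mul, h.d2, (h.out sσ).1] at q2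
  have e2 := (h.wcT hg q2).trans e.symm
  rw [mul_left_inj, mul_right_inj] at e2
  exact n (e2 ▸ mul_mem h.πT h.tT)

theorem cen {A : Subgroup G} (hA : IsPGroup 2 A) (le : A ≤ X) (n : π * t ∈ Nm A) : A ≤ Cx (π * t) := by
  have m : π * t ∈ T := mul_mem h.πT h.tT
  obtain ⟨k, hk, e⟩ := h.syl2.exists_cj_le (Q := A ⊔ zpowers (π * t))
    (hA.to_sup_of_normal_left' (isPGroup_zpowers_of_mem h.syl.pgroup m) (zpowers_le.2 n))
    (sup_le le (zpowers_le.2 (h.syl.le m).1))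
  intro a ha
  have c := h.T2ζ (cj_le_iff.1 e a (mem_sup_left ha))
  rwa [← h.wc hk (cj_le_iff.1 e _ (mem_sup_right (mem_zpowers _))), conj_mem_Cx] at c

end XeD

theorem xe_go : (∀ v ∈ [ww, zz * ww, zz * ww⁻¹], ∃ γ ∈ [(TG.o 11 : GO), TG.o 17, TG.o 26], γ * th = th * γ ∧
    (act γ zz = v ∨ act γ zz = v⁻¹) ∧ ∃ i j : Fin 3, zz = act γ zz ^ i.1 * act γ ww ^ j.1) ∧
    act th ww = ww ∧ act (t12 * r4) ww = ww⁻¹ ∧ t12 ≠ r4 ∧ th ≠ 1 ∧ ww ^ 3 = 1 ∧ zz ^ 3 = 1 ∧ zz ≠ 1 ∧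
    t12 * r4 * th = th * (t12 * r4) := by decide +kernel

theorem xe_q4 : ∀ q ∈ [1, s12, q1, q1⁻¹, q2, q2⁻¹, q1 * q2, q2 * q1], q * q * (q * q) = 1 := by decide +kernel

theorem XD.xeD {ι : N4 → G} {φ : SM →* G} {T : Subgroup G} (h : XD ⊤ ι φ T) :
    XeD (Cx (ι (nv zz))) T (Q0.map φ) (ι (nl t12)) (ι (nl r4)) (ι (nl th)) (φ q1) := by
  obtain ⟨c1, c2, c3, c4⟩ := xd_cen h
  obtain ⟨v1, -, -, -, v2, v3, -, -, v4⟩ := th_vals
  have σX : ι (nl th) ∈ Cx (ι (nv zz)) := mem_Cx.2 ((h.toFr.comm_ev (mem_top _) _).2 v1)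
  have σπ : ι (nl th) * ι (nl t12) * (ι (nl th))⁻¹ = ι (nl r4) := by rw [h.toFr.conj_nl (mem_top _) (mem_top _), v2]
  have σt : ι (nl th) * ι (nl r4) * (ι (nl th))⁻¹ = ι (nl t12) := by rw [h.toFr.conj_nl (mem_top _) (mem_top _), v3]
  exact
  { syl := h.syl
    cT := h.cT
    πT := c3
    tT := h.tT
    invs := h.invs
    ne := fun e => xe_go.2.2.2.1 (nl_inj (h.inj (mem_top _) (mem_top _) e))
    π2 := by rw [h.w12, ← map_mul, Q0_vals.2.2.2.2.1, map_one]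
    π1 := fun e => Q0_vals.2.2.2.2.2 (h.ch.inj (by rw [← h.w12, e, map_one]))
    σX := σX
    σ2 := by rw [← h.toFr.nl_mul (mem_top _) (mem_top _), v4, map_one, h.one]
    σπ := σπ
    σT := mem_normalizer_of_forall fun s hs => c4 _ (mul_mem (mul_mem σX (c1 hs)) (inv_mem σX))
      (mem_Cx.1 (σt ▸ conj_mem_Cx.2 (h.cT hs))) (mem_Cx.1 (σπ ▸ conj_mem_Cx.2 (c2 hs))) (by
        obtain ⟨n, hn⟩ := isPGroup_iff_mem.1 h.syl.pgroup s hs
        exact ⟨n, by rw [conj_pow, hn]; group⟩)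
    nT := fun g hg n p1 p2 => (xd_nT h hg n).imp (fun k => c4 g hg k.1 k.2 p1)
      fun k => c4 _ (mul_mem hg σX) k.2.1 k.2.2 p2
    DT := h.DT
    nD := h.nD
    dD := ⟨q1, subset_closure (by simp), rfl⟩
    d2 := by rw [← map_mul, Q0_vals.1, h.w12]
    D4 := by
      rintro _ ⟨q, hq, rfl⟩
      rw [← map_mul, ← map_mul, xe_q4 q (mem_Q0.1 hq), map_one]
    invD := by
      rintro _ ⟨q, hq, rfl⟩ e
      rcases (Q0_facts q hq).2.2.1 (h.ch.inj (by rw [map_mul, e, map_one])) with rfl | rfl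
      exacts [.inl (map_one φ), .inr h.w12.symm] }

theorem xd_top (hy : Hy G) {ι : N4 → G} {φ : SM →* G} {T : Subgroup G} (h : XD ⊤ ι φ T) : False := by
  obtain ⟨g0, g1, g2, -, g4, g5, g6, g7, g8⟩ := xe_go
  have x := h.xeD
  have f := h.toFr
  obtain ⟨Q, hQ, -, -, nQ, cQ⟩ := hy.exQ x.σ2 fun e => g4 (nl_inj ((h.eq_one_iff (mem_top _)).1 e))
  have cv : ∀ u v : V81, Commute (ι (nv u)) (ι (nv v)) := fun u v =>
    (Commute.map (show Commute u v from Rec3B.W4.V_comm u v) f.ev :)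
  have σv : ∀ v, act th v = v → ι (nv v) ∈ Cx (ι (nl th)) := fun v e =>
    mem_Cx.2 ((f.comm_ev (mem_top _) v).2 e).symm
  have σl : ∀ w, w * th = th * w → ι (nl w) ∈ Cx (ι (nl th)) := fun w e =>
    mem_Cx.2 ((f.comm_nl (mem_top _) (mem_top _)).2 e)
  have c3 : ∀ v : V81, v ^ 3 = 1 → ι (nv v) ^ 3 = 1 := fun v e => by
    rw [← f.ev_apply, ← map_pow, e, map_one]
  have nA : ∀ g ∈ Cx (ι (nl th)), g ∈ Cx (ι (nv zz)) → g ∈ Nm (Q ⊓ Cx (ι (nv zz))) := fun g h1 h2 =>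
    mem_normalizer_of_forall fun a ha => mem_inf.2 ⟨conj_mem_of_mem_normalizer (nQ h1) ha.1,
      mul_mem (mul_mem h2 ha.2) (inv_mem h2)⟩
  have eζ := f.nl_mul (mem_top t12) (mem_top r4)
  have ζT : ι (nl t12) * ι (nl r4) ∈ T := mul_mem x.πT x.tT
  have cζ := x.cen (hQ.to_inf_left) inf_le_right (nA _ (eζ ▸ σl _ g8) (x.syl.le ζT).1)
  rw [← eζ] at cζ
  have k1 : ∀ q ∈ Q, Commute q (ι (nv zz)) → Commute q (ι (nv ww)) := fun q hq c => by
    have m : q ∈ Q ⊓ Cx (ι (nv zz)) := ⟨hq, mem_Cx.2 c⟩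
    have a1 := cζ m
    have a2 := conj_mem_Cx (g := ι (nv ww)).2
      (cζ (conj_mem_of_mem_normalizer' (nA _ (σv _ g1) (mem_Cx.2 (cv _ _))) m))
    rw [show ι (nv ww) * ((ι (nv ww))⁻¹ * q * ι (nv ww)) * (ι (nv ww))⁻¹ = q by group] at a2
    have a3 := mul_mem (Cx_comm.1 a2) (inv_mem (Cx_comm.1 a1))
    have e : ι (nl (t12 * r4)) * ι (nv ww) * (ι (nl (t12 * r4)))⁻¹ = (ι (nv ww))⁻¹ := by
      rw [f.conj_ev (mem_top _), show (nl (t12 * r4)).w = t12 * r4 from rfl, g2, map_inv, h.inv (mem_top _)]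
    rw [show ι (nv ww) * ι (nl (t12 * r4)) * (ι (nv ww))⁻¹ * (ι (nl (t12 * r4)))⁻¹ =
      ι (nv ww) * (ι (nl (t12 * r4)) * ι (nv ww) * (ι (nl (t12 * r4)))⁻¹)⁻¹ by group, e, inv_inv, ← pow_two] at a3
    exact (mem_Cx.1 (mem_of_coprime_pow (a := 2) (b := 3) (by norm_num) a3 (c3 _ g5 ▸ one_mem _))).symm
  have k2 : ∀ v ∈ [ww, zz * ww, zz * ww⁻¹], ∀ q ∈ Q, Commute q (ι (nv v)) → q ∈ Cx (ι (nv zz)) := fun v hv q hq c => by
    obtain ⟨γ, -, cγ, e, i, j, ez⟩ := g0 v hv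
    have p : ∀ u, ι (nl γ) * ι (nv u) * (ι (nl γ))⁻¹ = ι (nv (act γ u)) := f.conj_ev (mem_top _)
    have c1 : Commute q (ι (nv (act γ zz))) := by
      rcases e with e | e <;> rw [e]
      · exact c
      · rw [map_inv, h.inv (mem_top _)]
        exact c.inv_right
    have c2 := k1 _ (conj_mem_of_mem_normalizer' (nQ (σl γ cγ)) hq) (comm_cj (p zz ▸ c1))
    have c3 : Commute q (ι (nv (act γ ww))) := by
      have := c2.map (MulAut.conj (ι (nl γ)))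
      rwa [MulAut.conj_apply, MulAut.conj_apply, p,
        show ι (nl γ) * ((ι (nl γ))⁻¹ * q * ι (nl γ)) * (ι (nl γ))⁻¹ = q by group] at this
    refine mem_Cx.2 (show Commute q (f.ev zz) from ?_)
    rw [ez, map_mul, map_pow, map_pow]
    exact (c1.pow_right _).mul_right (c3.pow_right _)
  have le : Q ≤ Cx (ι (nv zz)) := L72.gen9 hQ (c3 _ g6) (c3 _ g5) (cv _ _) (nQ (σv _ th_vals.1)) (nQ (σv _ g1))
    (fun q _ c => mem_Cx.2 c) (k2 _ (by simp))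
    (fun q hq c => k2 (zz * ww) (by simp) q hq ((map_mul f.ev zz ww).symm ▸ c :
      Commute q (f.ev (zz * ww))))
    fun q hq c => k2 (zz * ww⁻¹) (by simp) q hq (show Commute q (f.ev (zz * ww⁻¹)) by rwa [map_mul, map_inv])
  obtain ⟨n, hn⟩ := isPGroup_iff_mem.1 hQ _ (cQ _ (σv _ th_vals.1) fun q hq => (mem_Cx.1 (le hq)).symm)
  have : ι (nv zz) ∈ (⊥ : Subgroup G) := mem_of_coprime_pow (a := 2 ^ n) (b := 3)
    (Nat.Coprime.pow_left n (by norm_num)) hn (c3 _ g6)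
  exact g7 (nv_inj ((h.eq_one_iff (mem_top _)).1 this))

end CfsgLib.S86
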