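import Cfsg.Agent.Lib.S86.XC2
import Cfsg.Agent.Lib.Rec3C.Fin

/-! Case `F₄(2)`: the end (project S86, see plans/S86.md). -/

set_option autoImplicit false
set_option maxRecDepth 100000
set_option Elab.async false
set_option linter.unusedSectionVars false

namespace CfsgLib.S86

open Subgroup CfsgLib.W2 CfsgLib.Tech CfsgLib.PComp CfsgLib.Rec3C CfsgLib.Rec3C.V4
open CfsgLib.Rec3B (V81)
open CfsgLib.L72 (Nm IsQ Oc)

variable {G : Type*} [Group G] [Finite G]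

theorem xf_N : ∀ w ∈ BasA.XL, ∀ v : V81, Perp v zz → nl t12 * ⟨v, w⟩ * (nl t12)⁻¹ = (⟨v, w⟩ : N4)⁻¹ →
    ∃ i j k : Fin 3, (⟨v, w⟩ : N4) = nv zz ^ i.1 * nv yy ^ j.1 * nl al ^ k.1 := by decide +kernel

theorem xf_S : ∀ i j k : Fin 3, s12 * (z0 ^ i.1 * y0 ^ j.1 * α0 ^ k.1) * s12⁻¹ = (z0 ^ i.1 * y0 ^ j.1 * α0 ^ k.1)⁻¹ →
    z0 ^ i.1 * y0 ^ j.1 * α0 ^ k.1 = 1 ∨ ∃ q ∈ [1, s12, q1, q1⁻¹, q2, q2⁻¹, q1 * q2, q2 * q1],
      q * y0 * q⁻¹ = z0 ^ i.1 * y0 ^ j.1 * α0 ^ k.1 := by decide +kernel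

/-- `T = D₁ C_T(y)` -/
theorem xf_dec (hy : Hy G) {ι : N4 → G} {φ : SM →* G} {T : Subgroup G} (h : XD WF4 ι φ T) {s : G} (hs : s ∈ T) :
    ∃ d ∈ Q0.map φ, d⁻¹ * s ∈ Cx (ι (nv yy)) := by
  obtain ⟨-, -, -, -, -, vy, vz, -⟩ := h.toFr.vals
  have QN := QV_le.trans xc2_SV
  have e0 : ι (nl t12) * (s * ι (nv yy) * s⁻¹) * (ι (nl t12))⁻¹ = (s * ι (nv yy) * s⁻¹)⁻¹ := by
    have e : ι (nl t12) * ι (nv yy) * (ι (nl t12))⁻¹ = (ι (nv yy))⁻¹ := by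
      rw [h.w12, vy, ← map_inv, ← map_mul, ← map_mul, R0_vals.2.2.1, map_inv]
    calc _ = ι (nl t12) * s * ι (nv yy) * (ι (nl t12) * s)⁻¹ := by group
      _ = s * (ι (nl t12) * ι (nv yy) * (ι (nl t12))⁻¹) * s⁻¹ := by rw [← mem_Cx.1 (h.syl.le hs).2]; group
      _ = _ := by rw [e]; group
  obtain ⟨⟨v, w⟩, ha, ea⟩ := (h.mem_im QN).1 (conj_mem_of_mem_normalizer (xd_nQ hy h (h.syl.le hs).1)
    (mem_gim_of (BasA.nv_QV BasA.albe.2.2.2.2.2.1)))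
  have t12m : nl t12 ∈ NG WF4 := by decide +kernel
  have alm : nl al ∈ NG WF4 := by decide +kernel
  obtain ⟨i, j, k, e⟩ := xf_N w (BasA.mem_XL _ ha.2) v ha.1 (h.inj
    (mul_mem (mul_mem t12m (QN ha)) (inv_mem t12m)) (inv_mem (QN ha)) (by rw [← h.conj t12m (QN ha), h.inv (QN ha), ea, e0]))
  rw [e, h.mul (mul_mem (pow_mem (nv_mem _ _) _) (pow_mem (nv_mem _ _) _)) (pow_mem alm _),
    h.mul (pow_mem (nv_mem _ _) _) (pow_mem (nv_mem _ _) _), h.pow (nv_mem _ _), h.pow (nv_mem _ _), h.pow alm,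
    vz, h.wal] at ea
  nth_rewrite 1 [vy] at ea
  rw [← map_pow, ← map_pow, ← map_pow, ← map_mul, ← map_mul] at ea
  rw [← ea, h.w12, ← map_inv, ← map_inv, ← map_mul, ← map_mul] at e0
  rcases xf_S i j k (h.ch.inj e0) with e1 | ⟨q, hq, e1⟩
  · rw [e1, map_one, eq_comm, conj_eq_one_iff, h.eq_one_iff (nv_mem _ _)] at ea
    exact absurd ea (by decide +kernel)
  · refine ⟨φ q, mem_map_of_mem _ (mem_Q0.2 hq), mem_Cx'.2 ?_⟩
    calc _ = (φ q)⁻¹ * (s * ι (nv yy) * s⁻¹) * φ q := by group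
      _ = _ := by rw [← ea, ← e1, map_mul, map_mul, map_inv, vy]; group

theorem xd_f4d (hy : Hy G) {ι : N4 → G} {φ : SM →* G} {T : Subgroup G} (h : XD WF4 ι φ T) : F4D WF4 ι := by
  obtain ⟨-, -, -, -, -, vy, vz, -⟩ := h.toFr.vals
  have TX : T ≤ Cx (ι (nv zz)) := h.syl.le.trans inf_le_left
  have QN : QG ι ≤ NJG ι := h.norm ▸ gim_mono (QV_le.trans xc2_SV)
  have lx : ∀ s ∈ T, ∀ x, s ∈ Cx x → s ∈ Lx x := fun s hs x hx => by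
    obtain ⟨k, hk⟩ := isPGroup_iff_mem.1 h.syl.pgroup s hs
    exact subset_closure ⟨hx, Nat.Coprime.coprime_dvd_left (orderOf_dvd_of_pow_eq_one hk)
      (Nat.Coprime.pow_left k (by norm_num))⟩
  have m1 : q1 ∈ Q0 := subset_closure (by simp)
  refine ⟨⟨h.toGEmb, show ∀ g ∈ Om, g ∈ WF4 by decide +kernel, h.norm, fun g hg => ?_,
    h.toFr.cQ hy le_rfl (xd_nQ hy h), h.toFr.syl le_rfl⟩, le_rfl,
    ⟨φ q1, ⟨TX (h.DT (mem_map_of_mem _ m1)), mem_Cx.2 (h.ch.comm q1).eq.symm⟩,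
      by rw [← map_mul, Q0_vals.1, h.w12]⟩, ?_, ?_⟩
  · rw [← xd_O hy h]
    refine normalizer_le_normalizer_opOf _ (mem_normalizer_of_forall fun c hc => mem_Cx.2 ?_)
    have := mem_Cx.1 ((zpowers_le.2 (Cx_comm.1 hc) : zpowers _ ≤ Cx c)
      (conj_mem_of_mem_normalizer' hg (mem_zpowers _)))
    calc _ = g * (c * (g⁻¹ * ι (nv zz) * g)) * g⁻¹ := by group
      _ = _ := by rw [← this]; group
  · obtain ⟨s, hs, hd⟩ := h.sq
    obtain ⟨d, dD, hy'⟩ := xf_dec hy h hs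
    have t2 : ι (nl r4) * ι (nl r4) = 1 := sq_of_ord (h.toFr.ord_nl (by decide +kernel) (by decide +kernel)
      (by decide +kernel))
    obtain ⟨q, hq, e⟩ : d⁻¹ * s * (d⁻¹ * s) * ι (nl r4) ∈ Q0.map φ := by
      have := mul_mem (mul_mem (inv_mem dD) (conj_mem_of_mem_normalizer (h.nD hs) (inv_mem dD))) hd
      convert this using 1
      group
    have c : φ q ∈ Cx (ι (nv yy)) := e ▸ mul_mem (mul_mem hy' hy') (by rw [vy]; exact mem_Cx.2 (h.w4 y0).eq)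
    rw [vy, mem_Cx, ← map_mul, ← map_mul] at c
    rw [(Q0_facts q hq).2.2.2.2 (h.ch.inj c), map_one] at e
    exact ⟨d⁻¹ * s, ⟨TX (mul_mem (inv_mem (h.DT dD)) hs), hy'⟩,
      (eq_inv_of_mul_eq_one_left e.symm).trans (inv_eq_of_mul_eq_one_right t2)⟩
  · refine (xd_zstar h).1.trans (sup_le ((xd_O hy h).le.trans (QN.trans le_sup_right)) fun g hg => ?_)
    obtain ⟨r, hr, s, hs, j, rfl⟩ := h.dec g hg
    refine mul_mem (mul_mem (mem_sup_right (QN (xc2_R1 ι hr))) (mem_sup_left ?_))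
      (mem_sup_right (pow_mem (h.norm ▸ mem_gim_of (nv_mem _ _)) j))
    obtain ⟨d, dD, hy'⟩ := xf_dec hy h hs
    rw [← mul_inv_cancel_left d s]
    refine mul_mem (mem_sup_right (lx d (h.DT dD) _ ?_)) (mem_sup_left (lx _ (mul_mem (inv_mem (h.DT dD)) hs) _ hy'))
    obtain ⟨q, -, rfl⟩ := dD
    exact mem_Cx.2 (h.ch.comm q).eq.symm

theorem f4d_iso {ι : N4 → G} (h : F4D WF4 ι) : Nonempty (G ≃* Cfsg.Lie.chevF4.group (ZMod 2)) := by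
  have hF : Fintype.card (ZMod 2) = 2 := ZMod.card 2
  have h1 := h
  have h := h1.f4e
  obtain ⟨φ, e1, e3, hr⟩ := exists_hom_F4 hF h.b3r h.c3r h.cm14
  rw [← h.GS_eq] at hr
  have hA := f4a hF
  have hL : Lx (ι (nv x4)) ≤ φ.range :=
    hr ▸ le_iSup₂ (f := fun v (_ : qf v ≠ 0) => Lx (ι (nv v))) x4 (by decide +kernel)
  have hi : Function.Injective φ := by
    rw [← MonoidHom.ker_eq_bot_iff]
    refine (hA.simple.eq_bot_or_eq_top_of_normal φ.ker inferInstance).resolve_right fun e => ?_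
    have h2 : φ (rx (ZMod 2) 27) = 1 := (e ▸ mem_top _ : rx (ZMod 2) 27 ∈ φ.ker)
    rw [e3, rp3, rf, conj_eq_one_iff, h1.eq_one_iff (nl_mem (h1.hΓ FB.mems.2.2.1))] at h2
    exact absurd h2 (by decide +kernel)
  obtain ⟨c1, c2⟩ := f4_simple_conj hF
  obtain ⟨k1, c1⟩ := isConj_iff.1 c1
  obtain ⟨k2, c2⟩ := isConj_iff.1 c2
  obtain ⟨y1, d1⟩ := hL (h1.nv_mem_Lx (v := x3) (by decide +kernel))
  obtain ⟨y2, d2⟩ := hL (h1.nv_mem_Lx (v := x1 * x2⁻¹) (by decide +kernel))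
  have aa2 : aa ι * aa ι = 1 := h.isA.2.2.1
  obtain ⟨y3, d3⟩ := hL (subset_closure ⟨h.isA.2.1, Nat.Coprime.coprime_dvd_left
    (orderOf_dvd_of_pow_eq_one ((pow_two _).trans aa2)) (by norm_num)⟩)
  have hn : φ.range.Normal := by
    refine (h.endD hA hi hr ⟨y1⁻¹ * k1, ?_⟩ ⟨y2⁻¹ * y3⁻¹ * k2, ?_⟩).main.1
    · rw [show y1⁻¹ * k1 * rx (ZMod 2) 44 * (y1⁻¹ * k1)⁻¹ = y1⁻¹ * (k1 * rx (ZMod 2) 44 * k1⁻¹) * y1 by group, c1,
        map_mul, map_mul, map_inv, e3, d1, rp3, rf]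
      group
    · rw [show y2⁻¹ * y3⁻¹ * k2 * rx (ZMod 2) 47 * (y2⁻¹ * y3⁻¹ * k2)⁻¹ =
        y2⁻¹ * (y3⁻¹ * (k2 * rx (ZMod 2) 47 * k2⁻¹) * y3⁻¹⁻¹) * y2 by group, c2, map_mul, map_mul, map_mul,
        map_mul, map_inv, map_inv, map_inv, map_inv, e1, d2, d3, rp1, rf,
        inv_eq_of_mul_eq_one_right aa2, inv_eq_of_mul_eq_one_right aa2]
      calc _ = (ι (nv (x1 * x2⁻¹)))⁻¹ * (aa ι * aa ι * (ι (nv (x1 * x2⁻¹)) *
          ι (nl t12) * (ι (nv (x1 * x2⁻¹)))⁻¹) * (aa ι * aa ι)) * ι (nv (x1 * x2⁻¹)) := by simp only [mul_assoc]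
        _ = _ := by rw [aa2]; group
  refine ⟨(MulEquiv.ofBijective φ ⟨hi, fun m => ?_⟩).symm⟩
  by_contra hm
  rw [hr] at hn
  exact absurd (StrP.dec h1 (m := m) (le_normalizer_of_normal (mem_top m)) fun e => hm (hr.ge e)).1
    (by decide +kernel)

end CfsgLib.S86
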