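import Cfsg.Agent.Lib.W2.PermCode
import Cfsg.Agent.Lib.W2.Tools
import Cfsg.Agent.Lib.Rec3.S8c

/-! A coded model `SM` of `Sp₆(2)` acting on `E64 = 𝔽₂⁶` (project S86, plans/S86.md). -/

set_option autoImplicit false
set_option maxRecDepth 100000
set_option Elab.async false

namespace CfsgLib.S86

open Subgroup CfsgLib.W2

noncomputable section

theorem tokX : TOk 64 Nat.xor (fun a => a) :=
  (SOk.of_light (gs := [1, 2, 4, 8, 16, 32]) (D := 2) (by decide +kernel)).tok (by decide +kernel)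

/-- the vectors (written multiplicatively); bits `e1 f1 e2 f2 e3 f3` -/
abbrev E64 : Type := TG tokX

instance (priority := high) decBAllE (l : List E64) (P : E64 → Prop) [DecidablePred P] : Decidable (∀ g ∈ l, P g) :=
  List.decidableBAll P l

instance (priority := high) decBExE (l : List E64) (P : E64 → Prop) [DecidablePred P] : Decidable (∃ g ∈ l, P g) :=
  List.decidableBEx P l

def e1 : E64 := TG.o 1
def f1 : E64 := TG.o 2
def e2 : E64 := TG.o 4
def f2 : E64 := TG.o 8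
def e3 : E64 := TG.o 16
def f3 : E64 := TG.o 32

theorem genE : TG.genB [e1, f1, e2, f2, e3, f3] 2 = true := by decide +kernel

theorem E_comm : ∀ u v : E64, u * v = v * u := by decide +kernel
theorem E_sq : ∀ u : E64, u * u = 1 := by decide +kernel
theorem E_inv (u : E64) : u⁻¹ = u := rfl

/-- the symplectic form on numbers -/
def bN (u v : ℕ) : Bool :=
  bit 0x6996966996696996 (Nat.land u (Nat.lor (Nat.shiftLeft (Nat.land v 21) 1) (Nat.land (Nat.shiftRight v 1) 21)))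

/-- the symplectic form -/
def bf (u v : E64) : Bool := bN u.v v.v

theorem bf_self : ∀ u, bf u u = false := by decide +kernel
theorem bf_comm : ∀ u v, bf u v = bf v u := by decide +kernel
theorem bf_one : ∀ u, bf u 1 = false := by decide +kernel

theorem bf_mul (u v w : E64) : bf (u * v) w = xor (bf u w) (bf v w) := by
  revert u w
  refine TG.ind_of_genB genE (P := fun v => ∀ u w, bf (u * v) w = xor (bf u w) (bf v w)) (by decide +kernel)
    (fun a ha g hg u w => ?_) v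
  have k : ∀ g ∈ [e1, f1, e2, f2, e3, f3], ∀ u w, bf (u * g) w = xor (bf u w) (bf g w) := by decide +kernel
  rw [← mul_assoc, k g hg, ha, k g hg, Bool.xor_assoc]

theorem bf_mul' (u v w : E64) : bf u (v * w) = xor (bf u v) (bf u w) := by
  rw [bf_comm, bf_mul, bf_comm v, bf_comm w]

theorem bf_nd : ∀ u : E64, (∀ g ∈ [e1, f1, e2, f2, e3, f3], bf u g = false) → u = 1 := by decide +kernel

theorem bf_ext {u v : E64} (h : ∀ g, bf u g = bf v g) : u = v := by
  have : u * v = 1 := bf_nd _ fun g _ => by rw [bf_mul, h, Bool.xor_self]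
  rw [eq_inv_of_mul_eq_one_left this, E_inv]

/-- row `i` of a code -/
def rw6 (c i : ℕ) : ℕ := Nat.land (Nat.shiftRight c (Nat.mul 6 i)) 63

/-- row `i` times bit `i` of `v` -/
def tm (c v i : ℕ) : ℕ := Nat.mul (Nat.land (Nat.shiftRight v i) 1) (rw6 c i)

/-- the action of a code -/
def aN (c v : ℕ) : ℕ :=
  Nat.xor (Nat.xor (Nat.xor (tm c v 0) (tm c v 1)) (Nat.xor (tm c v 2) (tm c v 3))) (Nat.xor (tm c v 4) (tm c v 5))

/-- packing of six rows -/
def pk (a b c d e f : ℕ) : ℕ :=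
  Nat.add (Nat.add (Nat.add a (Nat.mul 64 b)) (Nat.add (Nat.mul 4096 c) (Nat.mul 262144 d)))
    (Nat.add (Nat.mul 16777216 e) (Nat.mul 1073741824 f))

def cmS (a b : ℕ) : ℕ :=
  pk (aN a (rw6 b 0)) (aN a (rw6 b 1)) (aN a (rw6 b 2)) (aN a (rw6 b 3)) (aN a (rw6 b 4)) (aN a (rw6 b 5))

/-- `0` or `k` -/
def bz (b : Bool) (k : ℕ) : ℕ := Bool.rec 0 k b

/-- the vector `w` with `bf w g = bf v (c g)` -/
def iv (c v : ℕ) : ℕ :=
  Nat.add (Nat.add (Nat.add (bz (bN v (rw6 c 1)) 1) (bz (bN v (rw6 c 0)) 2))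
    (Nat.add (bz (bN v (rw6 c 3)) 4) (bz (bN v (rw6 c 2)) 8))) (Nat.add (bz (bN v (rw6 c 5)) 16) (bz (bN v (rw6 c 4)) 32))

def ciS (c : ℕ) : ℕ := pk (iv c 1) (iv c 2) (iv c 4) (iv c 8) (iv c 16) (iv c 32)

/-- the isometries -/
def SpE : Subgroup (MulAut E64) where
  carrier := {g | ∀ u v, bf (g u) (g v) = bf u v}
  one_mem' := fun _ _ => rfl
  mul_mem' := fun {a b} ha hb u v => (ha _ _).trans (hb u v)
  inv_mem' := fun {a} ha u v => by
    rw [← ha, MulAut.apply_inv_self, MulAut.apply_inv_self]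

/-- the code of a homomorphism -/
def cdH (g : E64 → E64) : ℕ := pk (g e1).v (g f1).v (g e2).v (g f2).v (g e3).v (g f3).v

theorem rw6_eq (c i : ℕ) : rw6 c i = c / 64 ^ i % 64 := by
  show c >>> (6 * i) &&& 63 = _
  rw [Nat.shiftRight_eq_div_pow, pow_mul, show (63 : ℕ) = 2 ^ 6 - 1 from rfl, Nat.and_two_pow_sub_one_eq_mod]
  rfl

theorem rw6_pk {a b c d e f : ℕ} (ha : a < 64) (hb : b < 64) (hc : c < 64) (hd : d < 64) (he : e < 64) (hf : f < 64) :
    rw6 (pk a b c d e f) 0 = a ∧ rw6 (pk a b c d e f) 1 = b ∧ rw6 (pk a b c d e f) 2 = c ∧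
      rw6 (pk a b c d e f) 3 = d ∧ rw6 (pk a b c d e f) 4 = e ∧ rw6 (pk a b c d e f) 5 = f := by
  have : pk a b c d e f = a + 64 * b + (4096 * c + 262144 * d) + (16777216 * e + 1073741824 * f) := rfl
  simp only [rw6_eq, this]
  norm_num
  omega

theorem rw6_cdH (g : E64 → E64) : rw6 (cdH g) 0 = (g e1).v ∧ rw6 (cdH g) 1 = (g f1).v ∧ rw6 (cdH g) 2 = (g e2).v ∧
    rw6 (cdH g) 3 = (g f2).v ∧ rw6 (cdH g) 4 = (g e3).v ∧ rw6 (cdH g) 5 = (g f3).v :=
  rw6_pk (TG.v_lt _) (TG.v_lt _) (TG.v_lt _) (TG.v_lt _) (TG.v_lt _) (TG.v_lt _)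

/-- `u` or `1` -/
def sel (b : ℕ) (u : E64) : E64 := if b = 0 then 1 else u

theorem v_sel {b : ℕ} (hb : b < 2) (u : E64) : (sel b u).v = Nat.mul b u.v := by
  interval_cases b
  · exact (Nat.zero_mul _).symm
  · exact (Nat.one_mul _).symm

theorem map_sel (g : E64 →* E64) (b : ℕ) (u : E64) : g (sel b u) = sel b (g u) := by
  unfold sel; split_ifs <;> simp

/-- bit `i` -/
def bt (v : E64) (i : ℕ) : ℕ := Nat.land (Nat.shiftRight v.v i) 1

theorem bt_lt (v : E64) (i : ℕ) : bt v i < 2 := Nat.lt_succ_of_le Nat.and_le_right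

theorem coord : ∀ v : E64, v = sel (bt v 0) e1 * sel (bt v 1) f1 * (sel (bt v 2) e2 * sel (bt v 3) f2) *
    (sel (bt v 4) e3 * sel (bt v 5) f3) := by decide +kernel

theorem aN_cdH (g : E64 →* E64) (v : E64) : aN (cdH g) v.v = (g v).v := by
  obtain ⟨h0, h1, h2, h3, h4, h5⟩ := rw6_cdH g
  conv_rhs => rw [coord v]
  simp only [map_mul, map_sel, TG.v_mul, v_sel (bt_lt v _), aN, tm, h0, h1, h2, h3, h4, h5]
  rfl

theorem v_iv : ∀ v : E64, v.v = Nat.add (Nat.add (Nat.add (bz (bf v f1) 1) (bz (bf v e1) 2))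
    (Nat.add (bz (bf v f2) 4) (bz (bf v e2) 8))) (Nat.add (bz (bf v f3) 16) (bz (bf v e3) 32)) := by decide +kernel

theorem iv_cdH (g : SpE) (v : E64) : iv (cdH g.1) v.v = (g.1⁻¹ v).v := by
  obtain ⟨h0, h1, h2, h3, h4, h5⟩ := rw6_cdH g.1
  have k : ∀ u, bf (g.1⁻¹ v) u = bN v.v (g.1 u).v := fun u => by
    rw [← g.2, MulAut.apply_inv_self]; rfl
  rw [v_iv (g.1⁻¹ v), iv, h0, h1, h2, h3, h4, h5, k, k, k, k, k, k]

theorem hom_extE {K : Type*} [Group K] {f g : E64 →* K} (h1 : f e1 = g e1) (h2 : f f1 = g f1) (h3 : f e2 = g e2)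
    (h4 : f f2 = g f2) (h5 : f e3 = g e3) (h6 : f f3 = g f3) : f = g :=
  TG.hom_ext genE (by simp [h1, h2, h3, h4, h5, h6])

theorem sok : COk (fun g : SpE => cdH g.1) cmS ciS 34630287489 where
  inj := fun a b e => Subtype.ext (MulEquiv.ext fun v => TG.ext' (by
    have := congrArg (fun c => aN c v.v) e
    exact (aN_cdH a.1.toMonoidHom v).symm.trans (this.trans (aN_cdH b.1.toMonoidHom v))))
  mul := fun a b => by
    obtain ⟨h0, h1, h2, h3, h4, h5⟩ := rw6_cdH b.1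
    have k : ∀ v : E64, aN (cdH a.1) v.v = (a.1 v).v := aN_cdH a.1.toMonoidHom
    simp only [cmS, h0, h1, h2, h3, h4, h5, k]
    rfl
  inv := fun a => by
    have k := iv_cdH a
    exact (congr (congr (congr (congr (congr (congrArg pk (k e1)) (k f1)) (k e2)) (k f2)) (k e3)) (k f3)).symm
  one := by decide +kernel

/-- the coded copy of `Sp₆(2)` -/
abbrev SM : Type := CG sok

instance : Finite SM := inferInstanceAs (Finite (CG sok))

instance (priority := high) decBAllS (l : List SM) (P : SM → Prop) [DecidablePred P] : Decidable (∀ g ∈ l, P g) :=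
  List.decidableBAll P l

instance (priority := high) decBExS (l : List SM) (P : SM → Prop) [DecidablePred P] : Decidable (∃ g ∈ l, P g) :=
  List.decidableBEx P l

instance (a b : SM) : Decidable (Commute a b) := inferInstanceAs (Decidable (a * b = b * a))

/-- the action on the vectors -/
def sa (g : SM) (v : E64) : E64 := TG.o (aN g.1 v.v)

theorem sa_eqv (g : SpE) (v : E64) : sa (CG.eqv sok g) v = g.1 v := by
  rw [sa, CG.eqv_val, show aN (cdH g.1) v.v = _ from aN_cdH g.1.toMonoidHom v, TG.o_v]; rfl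

theorem sa_eq (g : SM) (v : E64) : sa g v = ((CG.eqv sok).symm g).1 v := by
  rw [← sa_eqv, MulEquiv.apply_symm_apply]

theorem sa_mul (g : SM) (u v : E64) : sa g (u * v) = sa g u * sa g v := by simp only [sa_eq, map_mul]

theorem mul_sa (g h : SM) (v : E64) : sa (g * h) v = sa g (sa h v) := by simp only [sa_eq, map_mul]; rfl

theorem one_sa (v : E64) : sa 1 v = v := by rw [sa_eq, map_one]; rfl

theorem sa_one (g : SM) : sa g 1 = 1 := by rw [sa_eq, map_one]

theorem inv_sa_sa (g : SM) (v : E64) : sa g⁻¹ (sa g v) = v := by rw [← mul_sa, inv_mul_cancel, one_sa]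

theorem sa_inv_sa (g : SM) (v : E64) : sa g (sa g⁻¹ v) = v := by rw [← mul_sa, mul_inv_cancel, one_sa]

theorem sa_inj (g : SM) : Function.Injective (sa g) := fun u v e => by rw [← inv_sa_sa g u, e, inv_sa_sa]

theorem bf_sa (g : SM) (u v : E64) : bf (sa g u) (sa g v) = bf u v := by
  rw [sa_eq, sa_eq]; exact ((CG.eqv sok).symm g).2 u v

/-- the action as a homomorphism -/
def saH (g : SM) : E64 →* E64 := MonoidHom.mk' (sa g) (sa_mul g)

theorem sa_ext' {g h : SM} (e : ∀ v, sa g v = sa h v) : g = h :=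
  (CG.eqv sok).symm.injective (Subtype.ext (MulEquiv.ext fun v => by rw [← sa_eq, ← sa_eq, e]))

theorem sa_ext {g h : SM} (h1 : sa g e1 = sa h e1) (h2 : sa g f1 = sa h f1) (h3 : sa g e2 = sa h e2)
    (h4 : sa g f2 = sa h f2) (h5 : sa g e3 = sa h e3) (h6 : sa g f3 = sa h f3) : g = h :=
  sa_ext' (DFunLike.congr_fun (hom_extE (f := saH g) (g := saH h) h1 h2 h3 h4 h5 h6))

/-- an isometric endomorphism is an element of the model -/
theorem exists_of_hom (f : E64 →* E64) (h : ∀ u v, bf (f u) (f v) = bf u v) : ∃ g : SM, ∀ v, sa g v = f v := by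
  have hi : Function.Injective f := fun u v e => bf_ext fun g => by rw [← h, e, h]
  exact ⟨CG.eqv sok ⟨MulEquiv.ofBijective f (Finite.injective_iff_bijective.1 hi), h⟩, fun v => sa_eqv _ v⟩

/-- the linear map with given values on the basis -/
def ap6 (a b c d e f : E64) : E64 →* E64 :=
  MonoidHom.mk' (fun v => sel (bt v 0) a * sel (bt v 1) b * (sel (bt v 2) c * sel (bt v 3) d) *
    (sel (bt v 4) e * sel (bt v 5) f)) fun u v => by
    have k : ∀ i < 6, ∀ u v : E64, bt (u * v) i = 0 ↔ (bt u i = 0 ↔ bt v i = 0) := by decide +kernel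
    have p : ∀ i < 6, ∀ x : E64, sel (bt (u * v) i) x = sel (bt u i) x * sel (bt v i) x := fun i hi x => by
      have := k i hi u v
      unfold sel
      by_cases h1 : bt u i = 0 <;> by_cases h2 : bt v i = 0 <;> simp_all [E_sq]
    let _ : CommGroup E64 := { (inferInstance : Group E64) with mul_comm := E_comm }
    rw [p 0 (by norm_num), p 1 (by norm_num), p 2 (by norm_num), p 3 (by norm_num), p 4 (by norm_num), p 5 (by norm_num)]
    simp only [mul_assoc, mul_left_comm]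

theorem ap6_vals (a b c d e f : E64) : ap6 a b c d e f e1 = a ∧ ap6 a b c d e f f1 = b ∧ ap6 a b c d e f e2 = c ∧
    ap6 a b c d e f f2 = d ∧ ap6 a b c d e f e3 = e ∧ ap6 a b c d e f f3 = f :=
  ⟨show a * 1 * (1 * 1) * (1 * 1) = a by simp, show 1 * b * (1 * 1) * (1 * 1) = b by simp,
    show 1 * 1 * (c * 1) * (1 * 1) = c by simp, show 1 * 1 * (1 * d) * (1 * 1) = d by simp,
    show 1 * 1 * (1 * 1) * (e * 1) = e by simp, show 1 * 1 * (1 * 1) * (1 * f) = f by simp⟩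

/-- a symplectic basis -/
def SB (a b c d e f : E64) : Prop :=
  bf a b = true ∧ bf a c = false ∧ bf b c = false ∧ bf a d = false ∧ bf b d = false ∧ bf c d = true ∧
    bf a e = false ∧ bf b e = false ∧ bf c e = false ∧ bf d e = false ∧
      bf a f = false ∧ bf b f = false ∧ bf c f = false ∧ bf d f = false ∧ bf e f = true

instance (a b c d e f : E64) : Decidable (SB a b c d e f) := by unfold SB; infer_instance

theorem sb_sa (g : SM) : SB (sa g e1) (sa g f1) (sa g e2) (sa g f2) (sa g e3) (sa g f3) := by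
  simp only [SB, bf_sa]; decide +kernel

theorem bf_hom (f : E64 →* E64) (h : SB (f e1) (f f1) (f e2) (f f2) (f e3) (f f3)) (u v : E64) :
    bf (f u) (f v) = bf u v := by
  obtain ⟨h1, h2, h3, h4, h5, h6, h7, h8, h9, h10, h11, h12, h13, h14, h15⟩ := h
  have k : ∀ g ∈ [e1, f1, e2, f2, e3, f3], ∀ g' ∈ [e1, f1, e2, f2, e3, f3], bf (f g) (f g') = bf g g' := by
    simp only [List.mem_cons, List.not_mem_nil, or_false, forall_eq_or_imp, forall_eq, bf_self,
      bf_comm (f f1) (f e1), bf_comm (f e2) (f e1), bf_comm (f e2) (f f1), bf_comm (f f2) (f e1), bf_comm (f f2) (f f1),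
      bf_comm (f f2) (f e2), bf_comm (f e3) (f e1), bf_comm (f e3) (f f1), bf_comm (f e3) (f e2), bf_comm (f e3) (f f2),
      bf_comm (f f3) (f e1), bf_comm (f f3) (f f1), bf_comm (f f3) (f e2), bf_comm (f f3) (f f2), bf_comm (f f3) (f e3),
      h1, h2, h3, h4, h5, h6, h7, h8, h9, h10, h11, h12, h13, h14, h15]
    decide +kernel
  have l : ∀ g ∈ [e1, f1, e2, f2, e3, f3], ∀ v, bf (f g) (f v) = bf g v := fun g hg v =>
    TG.ind_of_genB genE (P := fun v => bf (f g) (f v) = bf g v) (by rw [map_one, bf_one, bf_one])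
      (fun a ha g' hg' => by rw [map_mul, bf_mul', bf_mul', ha, k g hg g' hg']) v
  exact TG.ind_of_genB genE (P := fun u => bf (f u) (f v) = bf u v)
    (by rw [map_one, bf_comm, bf_one, bf_comm, bf_one])
    (fun a ha g hg => by rw [map_mul, bf_mul, bf_mul, ha, l g hg]) u

theorem ex_sb {a b c d e f : E64} (h : SB a b c d e f) : ∃ g : SpE, cdH g.1 = pk a.v b.v c.v d.v e.v f.v := by
  obtain ⟨h1, h2, h3, h4, h5, h6⟩ := ap6_vals a b c d e f
  have hb := bf_hom (ap6 a b c d e f) (by rwa [h1, h2, h3, h4, h5, h6])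
  have hi : Function.Injective (ap6 a b c d e f) := fun u v e => bf_ext fun g => by rw [← hb, e, hb]
  refine ⟨⟨MulEquiv.ofBijective _ (Finite.injective_iff_bijective.1 hi), hb⟩, ?_⟩
  show pk (ap6 a b c d e f e1).v (ap6 a b c d e f f1).v (ap6 a b c d e f e2).v (ap6 a b c d e f f2).v
    (ap6 a b c d e f e3).v (ap6 a b c d e f f3).v = _
  rw [h1, h2, h3, h4, h5, h6]

/-- the element with the given values on the basis (or `1`) -/
def mk (a b c d e f : E64) : SM := if h : SB a b c d e f then ⟨pk a.v b.v c.v d.v e.v f.v, ex_sb h⟩ else 1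

theorem mk_val {a b c d e f : E64} (h : SB a b c d e f) : (mk a b c d e f).1 = pk a.v b.v c.v d.v e.v f.v :=
  congrArg Subtype.val (dif_pos h)

theorem mk_sa (g : SM) : mk (sa g e1) (sa g f1) (sa g e2) (sa g f2) (sa g e3) (sa g f3) = g := by
  refine Subtype.ext ((mk_val (sb_sa g)).trans ?_)
  obtain ⟨g, rfl⟩ := (CG.eqv sok).surjective g
  simp only [sa_eqv]
  rfl

/-- the values of `mk` -/
theorem sa_mk {a b c d e f : E64} (h : SB a b c d e f) (v : E64) : sa (mk a b c d e f) v = ap6 a b c d e f v := by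
  obtain ⟨h1, h2, h3, h4, h5, h6⟩ := ap6_vals a b c d e f
  have k := aN_cdH (ap6 a b c d e f) v
  rw [cdH, h1, h2, h3, h4, h5, h6] at k
  rw [sa, mk_val h]
  exact (congrArg TG.o k).trans (TG.o_v _)

/-- test for codes -/
def okC (c : ℕ) : Prop := pk (rw6 c 0) (rw6 c 1) (rw6 c 2) (rw6 c 3) (rw6 c 4) (rw6 c 5) = c ∧
  SB (TG.o (rw6 c 0)) (TG.o (rw6 c 1)) (TG.o (rw6 c 2)) (TG.o (rw6 c 3)) (TG.o (rw6 c 4)) (TG.o (rw6 c 5))

instance (c : ℕ) : Decidable (okC c) := by unfold okC; infer_instance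

theorem ex_ok {c : ℕ} (h : okC c) : ∃ g : SpE, cdH g.1 = c := by
  obtain ⟨g, hg⟩ := ex_sb h.2
  have l : ∀ i, (TG.o (rw6 c i) : E64).v = rw6 c i := fun i =>
    TG.v_o (by rw [rw6_eq]; exact Nat.mod_lt _ (by norm_num))
  exact ⟨g, by rw [hg, l, l, l, l, l, l, h.1]⟩

/-- the element with a given code -/
def oc (c : ℕ) (h : okC c := by decide +kernel) : SM := ⟨c, ex_ok h⟩

def tvc (v : ℕ) : ℕ :=
  pk (Nat.xor 1 (bz (bN 1 v) v)) (Nat.xor 2 (bz (bN 2 v) v)) (Nat.xor 4 (bz (bN 4 v) v)) (Nat.xor 8 (bz (bN 8 v) v))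
    (Nat.xor 16 (bz (bN 16 v) v)) (Nat.xor 32 (bz (bN 32 v) v))

/-- the transvection with centre `v` -/
def tv (v : E64) : SM := ⟨tvc v.v, ex_ok ((by decide +kernel : ∀ v : E64, okC (tvc v.v)) v)⟩

theorem sa_tv : ∀ v u : E64, sa (tv v) u = if bf u v = true then u * v else u := by decide +kernel

theorem tv_sq : ∀ v : E64, tv v * tv v = 1 := by decide +kernel

theorem tv_inv (v : E64) : (tv v)⁻¹ = tv v := inv_eq_of_mul_eq_one_right (tv_sq v)

theorem conj_tv (g : SM) (v : E64) : g * tv v * g⁻¹ = tv (sa g v) := by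
  rw [mul_inv_eq_iff_eq_mul]
  refine sa_ext' fun u => ?_
  rw [mul_sa, mul_sa, sa_tv, sa_tv, bf_sa]
  split_ifs
  exacts [sa_mul _ _ _, rfl]

theorem tv_inj : ∀ u v : E64, tv u = tv v → u = v := by decide +kernel

theorem tv_one : tv 1 = 1 := by decide +kernel

theorem tv_comm : ∀ u v : E64, Commute (tv u) (tv v) ↔ bf u v = false := by decide +kernel

theorem comm_tv {g : SM} {v : E64} : Commute g (tv v) ↔ sa g v = v := by
  rw [Commute, SemiconjBy, ← mul_inv_eq_iff_eq_mul, conj_tv]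
  exact ⟨tv_inj _ _, congrArg tv⟩

def t1 : SM := oc 34630287553
def t2 : SM := oc 34631336065
def t3 : SM := oc 51810156673
/-- `e1 ↦ f1 ↦ e1 f1` -/
def β1 : SM := oc 34630287554
def β2 : SM := oc 34631352449
def β3 : SM := oc 52078592129
/-- `e1 ↔ e2`, `f1 ↔ f2` -/
def s12 : SM := oc 34628702724
def s13 : SM := oc 2166376464
def s23 : SM := oc 8665497729
/-- `e1 ↦ e2 ↦ e3 ↦ e1` -/
def α0 : SM := oc 2172715524
def y0 : SM := oc 34629271746
def c0 : SM := oc 34631352514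
def z0 : SM := oc 52079657154

theorem vals : t1 = tv e1 ∧ t2 = tv e2 ∧ t3 = tv e3 ∧ y0 = β1 * β2⁻¹ ∧ c0 = β1 * β2 ∧ z0 = β1 * β2 * β3 ∧
    β1 = tv e1 * tv f1 ∧ β2 = tv e2 * tv f2 ∧ β3 = tv e3 * tv f3 := by decide +kernel

/-- the points of the permutation module -/
def wv (i : ℕ) : ℕ := tab1 4 15 0x6ea310 i

def kc (p : ℕ) : ℕ :=
  pk (Nat.xor (wv (Mathieu.app p 0)) (wv (Mathieu.app p 1))) (Nat.xor (wv (Mathieu.app p 1)) (wv (Mathieu.app p 2)))
    (Nat.xor (wv (Mathieu.app p 3)) (wv (Mathieu.app p 4))) (Nat.xor (wv (Mathieu.app p 4)) (wv (Mathieu.app p 5))) 16 32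

theorem kc_ok (p : PG 6) : okC (kc p.1) := PG.forall_of_dec (P := fun p : PG 6 => okC (kc p.1)) (by decide +kernel) p

def κf (p : PG 6) : SM := ⟨kc p.1, ex_ok (kc_ok p)⟩

theorem κf_mul (p q : PG 6) : κf (p * q) = κf p * κf q := by
  have h1 : κf 1 = 1 := by decide +kernel
  let S : Subgroup (PG 6) := Subgroup.mk (toSubmonoid := ⟨⟨{q | ∀ p, κf (p * q) = κf p * κf q},
    fun {a b} ha hb p => by rw [← mul_assoc, hb, ha, hb, mul_assoc]⟩, fun p => by rw [mul_one, h1, mul_one]⟩)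
    fun {a} ha p => by
      have e := ha a⁻¹
      rw [inv_mul_cancel, h1] at e
      have e' := ha (p * a⁻¹)
      rw [inv_mul_cancel_right] at e'
      rw [e', mul_assoc, (eq_inv_of_mul_eq_one_left e.symm), mul_inv_cancel, mul_one]
  refine Rec3.S8.top_of_adj 5 _ (S := S) (fun i => ?_) q p
  have k : ∀ p : PG 6, ∀ s ∈ [PG.pl [1, 0, 2, 3, 4, 5], PG.pl [0, 2, 1, 3, 4, 5], PG.pl [0, 1, 3, 2, 4, 5],
      PG.pl [0, 1, 2, 4, 3, 5], PG.pl [0, 1, 2, 3, 5, 4]], κf (p * s) = κf p * κf s := fun p =>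
    PG.forall_of_dec (P := fun p : PG 6 => κf (p * PG.pl [1, 0, 2, 3, 4, 5]) = κf p * κf (PG.pl [1, 0, 2, 3, 4, 5]) ∧
      κf (p * PG.pl [0, 2, 1, 3, 4, 5]) = κf p * κf (PG.pl [0, 2, 1, 3, 4, 5]) ∧
      κf (p * PG.pl [0, 1, 3, 2, 4, 5]) = κf p * κf (PG.pl [0, 1, 3, 2, 4, 5]) ∧
      κf (p * PG.pl [0, 1, 2, 4, 3, 5]) = κf p * κf (PG.pl [0, 1, 2, 4, 3, 5]) ∧
      κf (p * PG.pl [0, 1, 2, 3, 5, 4]) = κf p * κf (PG.pl [0, 1, 2, 3, 5, 4])) (by decide +kernel) p |> fun h => by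
      simpa only [List.mem_cons, List.not_mem_nil, or_false, forall_eq_or_imp, forall_eq] using h
  intro p
  refine k p _ ?_
  revert i
  decide +kernel

/-- `S₆ = Sp₄(2)` on `⟨e1, f1, e2, f2⟩` -/
def κ : PG 6 →* SM := MonoidHom.mk' κf κf_mul

theorem κ_inj : Function.Injective κ :=
  (injective_iff_map_eq_one _).2 (PG.forall_of_dec (P := fun p : PG 6 => κ p = 1 → p = 1) (by decide +kernel))

theorem κ_vals : κ (PG.pl [1, 2, 0, 3, 4, 5]) = β1 ∧ κ (PG.pl [0, 1, 2, 4, 5, 3]) = β2 ∧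
    κ (PG.pl [1, 0, 2, 3, 4, 5]) = t1 ∧ κ (PG.pl [0, 1, 2, 4, 3, 5]) = t2 ∧ κ (PG.pl [3, 4, 5, 0, 1, 2]) = s12 ∧
    κ (PG.pl [0, 1, 5, 3, 4, 2]) = tv (e1 * e2) := by decide +kernel

theorem κ_fix (p : PG 6) : sa (κ p) e3 = e3 ∧ sa (κ p) f3 = f3 :=
  PG.forall_of_dec (P := fun p : PG 6 => sa (κ p) e3 = e3 ∧ sa (κ p) f3 = f3) (by decide +kernel) p

def q1 : SM := oc 45459827547
def q2 : SM := oc 40263151467

/-- the elementary abelian group of order 27 -/
def B0 : Subgroup SM := closure {β1, β2, β3}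
/-- the monomial group of order 48 -/
def M0 : Subgroup SM := closure {t1, s12, α0}
/-- `O₃(C(z0))`, extraspecial of order 27 -/
def R0 : Subgroup SM := closure {z0, y0, α0}
/-- `O₂(C(z0, s12))`, quaternion of order 8 -/
def Q0 : Subgroup SM := closure {q1, q2}
/-- an element of `O₂(C(tv w))` -/
def gu (w u : E64) : SM := tv u * tv (u * w)
/-- `⟨t3⟩ × [O₂(C(t3)), β1]` -/
def Va : Subgroup SM := closure {t3, gu e3 e1, gu e3 f1}
/-- `⟨t3⟩ × [O₂(C(t3)), β2]` -/
def Vb : Subgroup SM := closure {t3, gu e3 e2, gu e3 f2}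
/-- `⟨s12⟩ × F`, the maximal `2`-subgroup of `C(s12, β3)` normalised by `c0` -/
def Vs : Subgroup SM := closure {s12, s12 * κ (PG.pl [3, 1, 2, 0, 4, 5]), s12 * κ (PG.pl [0, 4, 2, 3, 1, 5])}

end

end CfsgLib.S86
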