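import Cfsg.Agent.Lib.S86.Loc
import Cfsg.Agent.Lib.S86.MD
import Cfsg.Agent.Lib.S86.Gen2

/-! The patterns of minus type, part 1 (project S86, see plans/S86.md). -/

set_option autoImplicit false
set_option maxRecDepth 100000
set_option Elab.async false
set_option linter.unusedSectionVars false

namespace CfsgLib.S86

open Subgroup CfsgLib.W2 CfsgLib.Tech CfsgLib.PComp CfsgLib.Rec3C CfsgLib.Rec3C.V4
open CfsgLib.Rec3B (V81)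
open CfsgLib.L72 (Nm IsQ Oc)

variable {G : Type*} [Group G] [Finite G]

variable {b : G} {φ : SM →* G} {ev : V81 →* G}

omit [Finite G] in
theorem pm1_cj {g k a : G} (h : Commute k (g⁻¹ * a * g)) : Commute (g * k * g⁻¹) a := by
  have := h.map (MulAut.conj g)
  simpa [mul_assoc] using this

omit [Finite G] in
theorem pm1_nm {Q : Subgroup G} {g q : G} (hg : g ∈ Nm Q) (hq : q ∈ Q) : g * q * g⁻¹ ∈ Q :=
  (mem_normalizer_iff.1 hg q).1 hq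

omit [Finite G] in
theorem pm1_nm' {Q : Subgroup G} {g q : G} (hg : g ∈ Nm Q) (hq : q ∈ Q) : g⁻¹ * q * g ∈ Q := by
  simpa using pm1_nm (inv_mem hg) hq

theorem pm1_of {Q : Subgroup G} {g : G} (h : ∀ q ∈ Q, g * q * g⁻¹ ∈ Q) : g ∈ Nm Q :=
  mem_normalizer_of_cj_le (cj_le_iff.2 h)

theorem pm1_inf {Q : Subgroup G} {g a : G} (hg : g ∈ Nm Q) (ha : Commute g a) : g ∈ Nm (Q ⊓ Cx a) :=
  pm1_of fun q hq => ⟨pm1_nm hg hq.1, mem_Cx.2 (pm1_cj (k := q) (by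
    rw [mul_assoc, ← ha.eq, inv_mul_cancel_left]; exact mem_Cx.1 hq.2))⟩

omit [Finite G] in
theorem pm1_comap {N : Subgroup G} {m : SM} (hm : φ m ∈ Nm N) : m ∈ Nm (N.comap φ) :=
  pm1_of fun q hq => by
    rw [mem_comap, map_mul, map_mul, map_inv]
    exact pm1_nm hm hq

omit [Finite G] in
theorem pm1_comm (hi : Function.Injective φ) {m k : SM} (h : Commute (φ m) (φ k)) : Commute m k :=
  hi (by rw [map_mul, map_mul]; exact h)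

omit [Finite G] in
theorem pm1_ev (ev : V81 →* G) (u v : V81) : Commute (ev u) (ev v) :=
  (show Commute u v from Rec3B.W4.V_comm u v).map ev

theorem pm1_vals : Commute s12 c0 ∧ Commute c0 β3 ∧ Commute s12 t3 ∧ α0⁻¹ * y0 * α0 = y0 ^ 1 * z0 ^ 1 ∧
    α0⁻¹ * z0 * α0 = y0 ^ 0 * z0 ^ 1 ∧ s12⁻¹ * y0 * s12 = y0 ^ 2 * z0 ^ 0 ∧ s12⁻¹ * z0 * s12 = y0 ^ 0 * z0 ^ 1 ∧
    β3⁻¹ * y0 * β3 = y0 ^ 1 * z0 ^ 0 ∧ β3⁻¹ * z0 * β3 = y0 ^ 0 * z0 ^ 1 ∧ α0 ^ 3 = 1 ∧ β3 ^ 3 = 1 ∧ y0 ^ 3 = 1 ∧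
    z0 ^ 3 = 1 ∧ ¬ Commute q1 β3 ∧ t1 * y0 * t1⁻¹ = c0⁻¹ ∧ t1 * z0 * t1⁻¹ = y0⁻¹ * β3 ∧ t1 * β3 * t1⁻¹ = β3 ∧
    Commute z0 y0 ∧ Commute z0 α0 ∧ y0 * α0 * y0⁻¹ * α0⁻¹ = z0 ∧ z0 = c0 * β3 := by decide +kernel

/-- the bounds for the planes through `b` -/
theorem Bd.plane (h : Bd b φ ev) {N : Subgroup G} (hN : IsPGroup 2 N) (hπ : N ≤ Cx (φ s12)) (hc : ev cc ∈ Nm N)
    (h3 : ev x3 ∈ Nm N) (h4 : b ∈ Nm N) {q : G} (hq : q ∈ N) (hb : Commute q b) :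
    (Commute q (ev x3) → q ∈ Vs.map φ) ∧ (Commute q (ev cc) → q ∈ zpowers (φ s12)) ∧
      (Commute q (ev zz) → q ∈ Q0.map φ) := by
  have _ := h4
  obtain ⟨n, hn⟩ := hN ⟨q, hq⟩
  obtain ⟨m, rfl⟩ := h.two hb (n := n) (by simpa using congrArg Subtype.val hn)
  obtain ⟨v1, -, v3⟩ := h.toBd0.vals
  rw [v1] at hc ⊢
  rw [h.v3] at h3 ⊢
  rw [v3]
  have hp : IsPGroup 2 (N.comap φ) := hN.comap_of_injective φ h.inj
  have hs : N.comap φ ≤ Cx s12 := fun k hk => mem_Cx.2 (pm1_comm h.inj (mem_Cx.1 (hπ hk)))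
  have hi : ∀ a : SM, (Nat.card (N.comap φ ⊓ Cx a : Subgroup SM)).Coprime 3 := fun a =>
    cop_two (hp.to_le inf_le_left)
  refine ⟨fun e => mem_map_of_mem φ ?_, fun e => ?_, fun e => mem_map_of_mem φ ?_⟩
  · exact mw1 (hi β3) (inf_le_inf_right _ hs) (pm1_inf (pm1_comap hc) pm1_vals.2.1)
      ⟨hq, mem_Cx.2 (pm1_comm h.inj e)⟩
  · rw [← MonoidHom.map_zpowers]
    exact mem_map_of_mem φ (mw2 (hi c0) (inf_le_inf_right _ hs) (pm1_inf (pm1_comap h3) pm1_vals.2.1.symm)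
      ⟨hq, mem_Cx.2 (pm1_comm h.inj e)⟩)
  · exact mw3 (hi z0) (inf_le_inf_right _ hs) ⟨hq, mem_Cx.2 (pm1_comm h.inj e)⟩

theorem pm1_π (h : Bd b φ ev) : Commute (φ s12) b ∧ Commute (φ s12) (ev x3) ∧ Commute (φ s12) (ev cc) := by
  refine ⟨(h.comm _).symm, ?_, ?_⟩
  · rw [h.v3]; exact R0_vals.2.2.2.1.map φ
  · rw [h.toBd0.vals.1]; exact pm1_vals.1.map φ

/-- the values of the second chart -/
theorem pm_vals (h : Bd b φ ev) {g : G} (hg : Act4 ev g (x4 * cc) (x4 * cc⁻¹) x3 yy) :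
    cjh g φ β1 = b * ev cc ∧ cjh g φ β2 = b * (ev cc)⁻¹ ∧ cjh g φ β3 = ev x3 ∧ cjh g φ c0 = b⁻¹ ∧
      cjh g φ y0 = (ev cc)⁻¹ ∧ cjh g φ z0 = b⁻¹ * ev x3 := by
  have e1 : cjh g φ β1 = ev (x4 * cc) := by rw [cjh_apply, ← h.v1]; exact hg.1
  have e2 : cjh g φ β2 = ev (x4 * cc⁻¹) := by rw [cjh_apply, ← h.v2]; exact hg.2.1
  have e3 : cjh g φ β3 = ev x3 := by rw [cjh_apply, ← h.v3]; exact hg.2.2.1
  have k : x4 * cc * (x4 * cc⁻¹) = x4⁻¹ ∧ x4 * cc * (x4 * cc⁻¹)⁻¹ = cc⁻¹ := by decide +kernel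
  have e4 : cjh g φ c0 = b⁻¹ := by rw [vals.2.2.2.2.1, map_mul, e1, e2, ← map_mul, k.1, map_inv, h.v4]
  refine ⟨by rw [e1, map_mul, h.v4], by rw [e2, map_mul, map_inv, h.v4], e3, e4, ?_, ?_⟩
  · rw [vals.2.2.2.1, map_mul, map_inv, e1, e2, ← map_inv, ← map_mul, k.2, map_inv]
  · rw [pm1_vals.2.2.2.2.2.2.2.2.2.2.2.2.2.2.2.2.2.2.2.2, map_mul, e4, e3]

theorem pm_cent (h : Bd b φ ev) {g : G} (hg : Act4 ev g (x4 * cc) (x4 * cc⁻¹) x3 yy) (m : SM) :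
    Commute (φ s12) (cjh g φ m) := by
  obtain ⟨e1, e2, e3, -, -, -⟩ := pm_vals h hg
  obtain ⟨p4, p3, pc⟩ := pm1_π h
  have h' := h.toBd0.toCh0.conj g
  have hb : g * b * g⁻¹ = φ y0 := by rw [← h.v4, hg.2.2.2, h.toBd0.vals.2.1]
  have hi : φ s12 * (g * b * g⁻¹) * (φ s12)⁻¹ = (g * b * g⁻¹)⁻¹ := by
    rw [hb, ← map_inv, ← map_mul, ← map_mul, R0_vals.2.2.1, map_inv]
  obtain ⟨k, M, -, -, -, hM, hn⟩ := h'.dec (Or.inr hi)
  have h2 : M ^ 2 = 1 := (hn 2 (by rw [pow_two, ← map_mul, Q0_vals.2.2.2.2.1, map_one])).1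
  have hc : ∀ a, Commute (φ s12) (cjh g φ a) → Commute M a := fun a ha => by
    have e := hM a
    rw [ha.eq, mul_inv_cancel_right] at e
    exact mul_inv_eq_iff_eq_mul.1 (h'.inj e).symm
  have hB : M ∈ B0 := cB0 (hc _ (by rw [e1]; exact p4.mul_right pc)) (hc _ (by rw [e2]; exact p4.mul_right pc.inv_right))
    (hc _ (by rw [e3]; exact p3))
  have h3 := B0_facts.1 M hB
  have hM1 : M = 1 := by rwa [pow_succ, h2, one_mul] at h3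
  have e := hM m
  rw [hM1, one_mul, inv_one, mul_one] at e
  exact mul_inv_eq_iff_eq_mul.1 e

theorem pm1_nD {Q : Subgroup G} {ψ : SM →* G} (hψ : ∀ m, ψ m ∈ Nm Q) {u v n : SM} {i j k l : ℕ}
    (hu : n⁻¹ * u * n = u ^ i * v ^ j) (hv : n⁻¹ * v * n = u ^ k * v ^ l) :
    ψ n ∈ Nm (Q ⊓ Cx (ψ u) ⊓ Cx (ψ v)) := by
  refine pm1_of fun q hq => ?_
  have h1 : Commute q (ψ u) := mem_Cx.1 hq.1.2
  have h2 : Commute q (ψ v) := mem_Cx.1 hq.2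
  refine ⟨⟨pm1_nm (hψ n) hq.1.1, mem_Cx.2 (pm1_cj ?_)⟩, mem_Cx.2 (pm1_cj ?_)⟩
  · rw [← map_inv, ← map_mul, ← map_mul, hu, map_mul, map_pow, map_pow]
    exact (h1.pow_right i).mul_right (h2.pow_right j)
  · rw [← map_inv, ← map_mul, ← map_mul, hv, map_mul, map_pow, map_pow]
    exact (h1.pow_right k).mul_right (h2.pow_right l)

section key

variable (h : Bd b φ ev) {Q : Subgroup G} (hQ : IsPGroup 2 Q) (hπ : φ s12 ∈ Q) (hle : Q ≤ Cx (φ s12))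
  (hn : Cx (φ s12) ≤ Nm Q) {ψ : SM →* G} (hψ : ∀ m, Commute (φ s12) (ψ m)) (hy : ψ y0 = b) (hz : ψ z0 = ev zz)
  (h3 : ψ β3 = ev x3)
include h hQ hπ hle hn hψ hy hz h3

theorem pm1_al {d : G} (hd : d ∈ Q) (d1 : Commute d (ψ y0)) (d2 : Commute d (ψ z0)) : Commute d (ψ α0) := by
  obtain ⟨p4, p3, pc⟩ := pm1_π h
  obtain ⟨-, -, -, w1, w2, w3, w4, w5, w6, w7, w8, -, -, w9, -⟩ := pm1_vals
  have nψ : ∀ m, ψ m ∈ Nm Q := fun m => hn (mem_Cx.2 (hψ m).symm)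
  have hD : ∀ q ∈ Q ⊓ Cx (ψ y0) ⊓ Cx (ψ z0), q ∈ Q0.map φ := fun q hq =>
    (h.plane hQ hle (hn (mem_Cx.2 pc.symm)) (hn (mem_Cx.2 p3.symm)) (hn (mem_Cx.2 p4.symm)) hq.1.1
      (hy ▸ mem_Cx.1 hq.1.2)).2.2 (hz ▸ mem_Cx.1 hq.2)
  have hdD : d ∈ Q ⊓ Cx (ψ y0) ⊓ Cx (ψ z0) := ⟨⟨hd, mem_Cx.2 d1⟩, mem_Cx.2 d2⟩
  have n3 := pm1_nD nψ w5 w6
  have hle0 : (Q ⊓ Cx (ψ y0) ⊓ Cx (ψ z0)).comap φ ≤ Q0 := fun m hm =>
    (mem_map_iff_mem h.inj).1 (hD _ hm)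
  rcases irr_Q0 hle0 (pm1_comap (by rw [← h.v3, ← h3]; exact n3)) with h0 | h0
  · obtain ⟨m, -, rfl⟩ := hD d hdD
    obtain ⟨i, rfl⟩ := mem_zpowers_iff.1 (h0 (show m ∈ Subgroup.comap φ _ from hdD))
    rw [map_zpow]
    exact (hψ α0).zpow_left i
  · have hE : Q ⊓ Cx (ψ y0) ⊓ Cx (ψ z0) = Q0.map φ := le_antisymm hD (by rw [map_le_iff_le_comap, h0])
    have hc : Nat.card (Q ⊓ Cx (ψ y0) ⊓ Cx (ψ z0) : Subgroup G) = 8 := by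
      rw [hE, card_map_of_injective h.inj, card_Q0]
    refine aut8 hc (u := φ s12) (x := ψ β3) (s := ψ s12) ⟨⟨hπ, mem_Cx.2 (hψ _)⟩, mem_Cx.2 (hψ _)⟩
      (by rw [← map_mul, Q0_vals.2.2.2.2.1, map_one]) (fun e => Q0_vals.2.2.2.2.2 (h.inj (e.trans (map_one φ).symm)))
      (fun q hq => (show Commute q _ from mem_Cx.1 (hle hq.1.1)).symm) (hψ _) (hψ _) (hψ _) n3 (pm1_nD nψ w1 w2)
      (pm1_nD nψ w3 w4) (by rw [← map_pow, w8, map_one]) (by rw [← map_pow, w7, map_one]) (R0_vals.2.2.2.1.map ψ)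
      (by rw [← map_inv, ← map_mul, ← map_mul, R0_vals.2.1, map_inv]) (fun e => w9 (pm1_comm h.inj ?_)) d hdD
    rw [← h.v3, ← h3]
    exact e _ (hE ▸ mem_map_of_mem φ (subset_closure (by simp)))

theorem pm1_key {q : G} (hq : q ∈ Q) (qz : Commute q (ψ z0)) : Commute q (ψ y0) := by
  obtain ⟨-, -, -, -, -, -, -, -, -, w7, -, w8, w9, -, -, -, -, w1, w2, w3, -⟩ := pm1_vals
  have nψ : ∀ m, ψ m ∈ Nm Q := fun m => hn (mem_Cx.2 (hψ m).symm)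
  have hR : ∀ d ∈ Q, Commute d (ψ y0) → Commute d (ψ z0) → ∀ r ∈ R0, Commute d (ψ r) := fun d hd d1 d2 r hr => by
    obtain ⟨i, j, k, rfl⟩ := mem_R0.1 hr
    rw [map_mul, map_mul, map_pow, map_pow, map_pow]
    exact ((d2.pow_right _).mul_right (d1.pow_right _)).mul_right
      ((pm1_al h hQ hπ hle hn hψ hy hz h3 hd d1 d2).pow_right _)
  have hw : ∀ w ∈ [α0, y0 * α0, y0 * α0⁻¹], ∀ d ∈ Q ⊓ Cx (ψ z0), Commute d (ψ w) → d ∈ Cx (ψ y0) := by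
    intro w hw d hd dw
    obtain ⟨p, hp, i, e⟩ := Q0_trans w hw
    have dz : Commute d (ψ z0) := mem_Cx.1 hd.2
    have pz : Commute p z0 := (Q0_facts p hp).1
    have d1 : Commute d (ψ p * ψ y0 * (ψ p)⁻¹) := by
      rw [← map_inv, ← map_mul, ← map_mul]
      rcases e with e | e <;> rw [e, map_mul, map_pow]
      · exact dw.mul_right (dz.pow_right i)
      · rw [map_inv]; exact dw.inv_right.mul_right (dz.pow_right i)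
    have d2 : Commute d (ψ p * ψ z0 * (ψ p)⁻¹) := by
      rwa [(pz.map ψ).eq, mul_inv_cancel_right]
    have d3 := hR _ (pm1_nm' (nψ p) hd.1) (comm_cj d1) (comm_cj d2) (p⁻¹ * y0 * p)
      (pm1_nm' (nR0 (mem_Cx.2 pz)) (subset_closure (by simp)))
    rw [map_mul, map_mul, map_inv] at d3
    have d4 := pm1_cj d3
    exact mem_Cx.2 (show Commute d (ψ y0) by simpa [mul_assoc] using d4)
  have key : Q ⊓ Cx (ψ z0) ≤ Cx (ψ y0) :=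
    gen9z (x := ψ y0) (y := ψ α0) (z := ψ z0) (cop_two (hQ.to_le inf_le_left)) (by rw [← map_pow, w8, map_one])
      (by rw [← map_pow, w7, map_one]) (by rw [← map_pow, w9, map_one]) (w1.map ψ) (w2.map ψ)
      (by rw [← map_inv, ← map_inv, ← map_mul, ← map_mul, ← map_mul, w3]; exact mem_zpowers _)
      (fun d hd => mem_Cx.1 hd.2) (pm1_inf (nψ _) (w1.map ψ).symm) (pm1_inf (nψ _) (w2.map ψ).symm)
      (fun d _ e => mem_Cx.2 e) (hw _ (by simp)) (fun d hd e => hw (y0 * α0) (by simp) d hd (by rwa [map_mul]))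
      (fun d hd e => hw (y0 * α0⁻¹) (by simp) d hd (by rwa [map_mul, map_inv]))
  exact mem_Cx.1 (key ⟨hq, mem_Cx.2 qz⟩)

end key

/-- `C_Q(b⁻¹ x3)` centralises `x1 x2` -/
theorem pm_key (h : Bd b φ ev) {g : G} (hg : Act4 ev g (x4 * cc) (x4 * cc⁻¹) x3 yy) {Q : Subgroup G}
    (hQ : IsPGroup 2 Q) (hπ : φ s12 ∈ Q) (hle : Q ≤ Cx (φ s12)) (hn : Cx (φ s12) ≤ Nm Q) {q : G} (hq : q ∈ Q)
    (hz : Commute q (b⁻¹ * ev x3)) : Commute q (ev cc) := by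
  obtain ⟨-, -, e3, e4, e5, e6⟩ := pm_vals h hg
  obtain ⟨-, -, -, -, -, -, -, -, -, -, -, -, -, -, w1, w2, w3, -⟩ := pm1_vals
  have hc := pm_cent h hg
  have ha : ∀ m, cjh (cjh g φ t1) (cjh g φ) m = cjh g φ (t1 * m * t1⁻¹) := fun m => by
    rw [cjh_apply, map_mul, map_mul, map_inv]
  have k := pm1_key h hQ hπ hle hn (ψ := cjh (cjh g φ t1) (cjh g φ)) (fun m => by rw [ha]; exact hc _)
    (by rw [ha, w1, map_inv, e4, inv_inv])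
    (by rw [ha, w2, map_mul, map_inv, e5, e3, inv_inv, ← map_mul, ← vals4.2.2.2.2.2.2.2.1])
    (by rw [ha, w3, e3]) (pm1_nm (hn (mem_Cx.2 (hc t1).symm)) hq)
    (by rw [cjh_apply _ _ z0, e6]; exact hz.map (MulAut.conj (cjh g φ t1)))
  rw [cjh_apply _ _ y0, e5] at k
  have k' := (comm_cj k).inv_right
  simpa [mul_assoc] using k'

/-- no weight of length two occurs in `O₂(C(π))` -/
theorem pm_two (h : Bd b φ ev) {g : G} (hg : Act4 ev g (x4 * cc) (x4 * cc⁻¹) x3 yy) {Q : Subgroup G}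
    (hQ : IsPGroup 2 Q) (hπ : φ s12 ∈ Q) (hle : Q ≤ Cx (φ s12)) (hn : Cx (φ s12) ≤ Nm Q) {q : G} (hq : q ∈ Q)
    (h4 : Commute q b) (h3 : Commute q (ev x3)) : q ∈ zpowers (φ s12) := by
  obtain ⟨p4, p3, pc⟩ := pm1_π h
  exact (h.plane hQ hle (hn (mem_Cx.2 pc.symm)) (hn (mem_Cx.2 p3.symm)) (hn (mem_Cx.2 p4.symm)) hq h4).2.1
    (pm_key h hg hQ hπ hle hn hq (h4.inv_right.mul_right h3))

end CfsgLib.S86
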