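import Cfsg.Agent.Lib.S86.Defs

/-! The combinatorics of the fusion patterns (project S86, see plans/S86.md). -/

set_option autoImplicit false
set_option maxRecDepth 100000
set_option Elab.async false

namespace CfsgLib.S86.PatA

open Subgroup CfsgLib.W2 CfsgLib.Rec3C CfsgLib.Rec3C.V4
open CfsgLib.Rec3B (V81)
open CfsgLib.Rec3B.W4 (frc frc_eq mJ iJ V_comm V_cube)

noncomputable section

/-- entry `i` of a quadruple -/
def en (g i : ℕ) : ℕ := Nat.mod (Nat.div g (Nat.pow 81 i)) 81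

/-- `a ^ i` -/
def pw (a i : ℕ) : ℕ := Nat.rec 0 (fun j _ => Nat.rec a (fun _ _ => mJ a a) j) i

def apN (g v : ℕ) : ℕ := frc g fun g => frc v fun v =>
  mJ (mJ (mJ (pw (en g 0) (Nat.mod v 3)) (pw (en g 1) (Nat.mod (Nat.div v 3) 3))) (pw (en g 2) (Nat.mod (Nat.div v 9) 3)))
    (pw (en g 3) (Nat.div v 27))

def pk4 (a b c d : ℕ) : ℕ := Nat.add (Nat.add a (Nat.mul 81 b)) (Nat.add (Nat.mul 6561 c) (Nat.mul 531441 d))

def mulN (g h : ℕ) : ℕ := frc g fun g => frc h fun h => pk4 (apN g (en h 0)) (apN g (en h 1)) (apN g (en h 2)) (apN g (en h 3))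

/-- entry `i` as a vector -/
def ve (g i : ℕ) : V81 := TG.o (en g i)

theorem en_lt (g i : ℕ) : en g i < 81 := Nat.mod_lt _ (by norm_num)

theorem v_ve (g i : ℕ) : (ve g i).v = en g i := TG.v_o (en_lt g i)

theorem v_pw (a : V81) {i : ℕ} (hi : i < 3) : (a ^ i).v = pw a.v i := by
  interval_cases i
  · rw [pow_zero]; rfl
  · rw [pow_one]; rfl
  · rw [pow_two]; rfl

theorem apN_eq (g : ℕ) (v : V81) : apN g v.v = (ap4 (ve g 0) (ve g 1) (ve g 2) (ve g 3) v).v := by
  have h := v.v_lt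
  show _ = (ve g 0 ^ (v.v % 3) * ve g 1 ^ (v.v / 3 % 3) * ve g 2 ^ (v.v / 9 % 3) * ve g 3 ^ (v.v / 27)).v
  rw [TG.v_mul, TG.v_mul, TG.v_mul, v_pw _ (Nat.mod_lt _ (by norm_num)), v_pw _ (Nat.mod_lt _ (by norm_num)),
    v_pw _ (Nat.mod_lt _ (by norm_num)), v_pw _ (by omega), v_ve, v_ve, v_ve, v_ve, apN, frc_eq, frc_eq]
  rfl

theorem en_pk4 {a b c d : ℕ} (ha : a < 81) (hb : b < 81) (hc : c < 81) (hd : d < 81) :
    en (pk4 a b c d) 0 = a ∧ en (pk4 a b c d) 1 = b ∧ en (pk4 a b c d) 2 = c ∧ en (pk4 a b c d) 3 = d := by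
  have e : ∀ g i, en g i = g / 81 ^ i % 81 := fun _ _ => rfl
  have : pk4 a b c d = a + 81 * b + (6561 * c + 531441 * d) := rfl
  simp only [e, this]
  norm_num
  omega

theorem ve_pk4 (a b c d : V81) : ve (pk4 a.v b.v c.v d.v) 0 = a ∧ ve (pk4 a.v b.v c.v d.v) 1 = b ∧
    ve (pk4 a.v b.v c.v d.v) 2 = c ∧ ve (pk4 a.v b.v c.v d.v) 3 = d := by
  obtain ⟨h0, h1, h2, h3⟩ := en_pk4 a.v_lt b.v_lt c.v_lt d.v_lt
  simp only [ve, h0, h1, h2, h3, TG.o_v, and_self]

/-- the point of a vector -/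
def nm (v : ℕ) : ℕ := tab1 7 127 0x28529d5ac549532462c98346acd72f5a7d01e448d09c3a6dab466c98b05eb96ac56a94a84e992a446890a03e78e9c363470c204478a16248901e3868c16284840a0c2840604080 v

/-- the points -/
def pt (i : ℕ) : ℕ := tab1 7 127 0x6ad19b262c17ae5ab15aa52a13a64a911a24280f9e3a70d91203c70d182c5090a10181 i

theorem nm_iff : ∀ u v : V81, nm u.v = nm v.v ↔ u = v ∨ u = v⁻¹ := by decide +kernel

theorem exists_pt : ∀ u : V81, u ≠ 1 → ∃ i < 40, u = TG.o (pt i) ∨ u⁻¹ = TG.o (pt i) := by decide +kernel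

theorem pt_lt : ∀ i < 40, pt i < 81 := by decide +kernel

/-- `x` is a point of the frame of `g` -/
def inF (g x : ℕ) : Bool := frc' x fun x => Nat.beq x (nm (en g 0)) || Nat.beq x (nm (en g 1)) || Nat.beq x (nm (en g 2))
where frc' (x : ℕ) (f : ℕ → Bool) : Bool := Nat.rec (f 0) (fun n _ => f (Nat.succ n)) (nm x)

theorem inF_iff (g x : ℕ) : inF g x = true ↔ nm x = nm (en g 0) ∨ nm x = nm (en g 1) ∨ nm x = nm (en g 2) := by
  have : ∀ f : ℕ → Bool, inF.frc' x f = f (nm x) := fun f => by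
    unfold inF.frc'
    cases nm x <;> rfl
  simp only [inF, this, Bool.or_eq_true, Nat.beq_eq, or_assoc]

/-- `g` and `h` are compatible -/
def okB (g h : ℕ) : Bool := !(Nat.beq (nm (en h 3)) (nm (en g 3))) || (inF g (en h 0) && inF g (en h 1) && inF g (en h 2))

/-- the letters -/
def lt (g h : ℕ) (c : ℕ) : ℕ := CosetEnum.nth h [14408201, 14408040, 14356200, g] c

/-- the value of a word -/
def ew (g h : ℕ) (w : List ℕ) : ℕ := List.rec 14408200 (fun c _ ih => mulN (lt g h c) ih) w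

/-- the action of `w` on a quadruple -/
def acN (w g : ℕ) : ℕ := pk4 (aG w (en g 0)) (aG w (en g 1)) (aG w (en g 2)) (aG w (en g 3))

/-- a set of linear maps with the properties of the automiser -/
structure RS (R : ℕ → Prop) : Prop where
  one : R 14408200
  l0 : R 14408201
  l1 : R 14408040
  l2 : R 14356200
  mul : ∀ g h, R g → R h → R (mulN g h)
  ok : ∀ g h, R g → R h → okB g h = true
  ind : ∀ g, R g → ∀ v < 81, apN g v = 0 → v = 0
  st : ∀ w : ℕ, bit (TG.sp [r1, t12, al] 8) w = true → ∀ g, R g → R (acN w g)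

theorem RS.ew {R : ℕ → Prop} (h : RS R) {g k : ℕ} (hg : R g) (hk : R k) : ∀ w, R (ew g k w)
  | [] => h.one
  | c :: w => by
    refine h.mul _ _ ?_ (h.ew hg hk w)
    match c with
    | 0 => exact h.l0
    | 1 => exact h.l1
    | 2 => exact h.l2
    | 3 => exact hg
    | _ + 4 => exact hk

/-- the test of one candidate -/
def tst (st good : List ℕ) (ws : List (List ℕ × List ℕ)) (g : ℕ) : Bool :=
  !(st.all fun w => okB g (acN w g)) || good.elem g || anyN (fun v => Nat.blt 0 v && Nat.beq (apN g v) 0) 81 ||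
    ws.any fun p => !(okB (ew g g p.1) (ew g g p.2))

def frB (x : ℕ) (f : ℕ → Bool) : Bool := Nat.rec (f 0) (fun n _ => f (Nat.succ n)) x

theorem frB_eq (x : ℕ) (f : ℕ → Bool) : frB x f = f x := by cases x <;> rfl

/-- the test of all candidates -/
def tstA (v : ℕ) (st good : List ℕ) (ws : List (List ℕ × List ℕ)) : Bool :=
  (st.all fun w => bit (TG.sp [r1, t12, al] 8) w) &&
    allN (fun k => allN (fun j => allN (fun i => frB (pk4 (pt i) (pt j) (pt k) v) (tst st good ws)) j) k) 40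

theorem RS.good {R : ℕ → Prop} (h : RS R) {v : ℕ} {st good : List ℕ} {ws : List (List ℕ × List ℕ)}
    (t : tstA v st good ws = true) {i j k : ℕ} (hij : i < j) (hjk : j < k) (hk : k < 40)
    (hg : R (pk4 (pt i) (pt j) (pt k) v)) : pk4 (pt i) (pt j) (pt k) v ∈ good := by
  simp only [tstA, Bool.and_eq_true, List.all_eq_true, allN_iff, frB_eq] at t
  have t1 := t.2 k hk j hjk i hij
  generalize pk4 (pt i) (pt j) (pt k) v = g at hg t1
  simp only [tst, Bool.or_eq_true, Bool.not_eq_true', List.all_eq_false, List.any_eq_true, anyN_iff, Bool.and_eq_true,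
    Nat.blt_eq, Nat.beq_eq, List.elem_eq_mem, decide_eq_true_eq] at t1
  rcases t1 with ((⟨w, hw, e⟩ | e) | ⟨u, hu, u0, e⟩) | ⟨p, -, e⟩
  · exact absurd (h.ok _ _ hg (h.st w (t.1 w hw) g hg)) e
  · exact e
  · exact absurd (h.ind g hg u hu e) (by omega)
  · rw [h.ok _ _ (h.ew hg hg _) (h.ew hg hg _)] at e
    exact absurd e (by decide)

theorem t1 : tstA 1 [933, 353, 582] [709320, 709815] [] = true := by decide +kernel

theorem t4 : tstA 4 [582, 871, 870] [2423930, 2351439] [([3, 0, 3], [2, 3, 3]), ([0, 3], [3, 0, 3])] = true := by decide +kernel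

theorem t13 : tstA 13 [615, 903] [] [] = true := by decide +kernel

theorem t28 : tstA 28 [933, 582] [14939641, 15071844] [([0, 3], [3, 3]), ([3, 3], [1, 3, 3])] = true := by decide +kernel

theorem t31 : tstA 31 [582, 870] [16533964, 16825973] [([0, 3], [3, 0, 3]), ([3, 3], [1, 2, 3]), ([3, 3], [2, 0, 3]), ([3, 3], [0, 3, 3]), ([1, 3, 3], [2, 3, 3]), ([3, 2, 3], [2, 2, 0, 3]), ([3, 2, 3], [0, 3, 3])] = true := by decide +kernel

theorem t40 : tstA 40 [64, 352] [21316933, 21596093, 21602906] [([], [3, 3]), ([3, 3], [0, 3, 3]), ([3, 0, 3], [0, 3, 0, 3]), ([0, 3, 3], [2, 0, 1, 0, 3])] = true := by decide +kernel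

theorem t55 : tstA 55 [933, 582] [29288548, 29414190] [([0, 3], [3, 0, 3]), ([1, 3, 3], [0, 3, 0, 3]), ([3, 0, 3], [1, 3, 0, 3])] = true := by decide +kernel

theorem t58 : tstA 58 [582, 870] [30882871, 31148312] [([3, 3], [1, 0, 3]), ([1, 3, 3], [2, 3, 3]), ([2, 3, 3], [0, 1, 0, 3]), ([2, 3], [3, 0, 3]), ([1, 3, 0, 3], [2, 3, 0, 3]), ([3, 3], [1, 2, 3])] = true := by decide +kernel

theorem t67 : tstA 67 [64, 352] [35665840, 35865454, 35931560] [([3, 0, 3], [2, 1, 0, 3]), ([1, 0, 3], [0, 3, 3]), ([], [3, 3]), ([3, 0, 3], [0, 3, 0, 3])] = true := by decide +kernel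

end

end CfsgLib.S86.PatA
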