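import Cfsg.Agent.Lib.S86.Loc

/-! The set-up (project S86, see plans/S86.md). -/

set_option autoImplicit false
set_option maxRecDepth 100000
set_option Elab.async false
set_option linter.unusedSectionVars false

namespace CfsgLib.S86

open Subgroup CfsgLib.W2 CfsgLib.Tech CfsgLib.PComp CfsgLib.Rec3C CfsgLib.Rec3C.V4
open CfsgLib.Rec3B (V81)
open CfsgLib.L72 (Nm IsQ Oc)

variable {G : Type*} [Group G] [Finite G]

theorem Set_β : β1 ∈ B0 ∧ β2 ∈ B0 ∧ β3 ∈ B0 :=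
  ⟨subset_closure (by simp), subset_closure (by simp), subset_closure (by simp)⟩

theorem Set_x3 {b : G} (hb : orderOf b = 3) : b ^ 3 = 1 := hb ▸ pow_orderOf_eq_one b

theorem exists_bd0 (b : G) (hb : orderOf b = 3) (L : Subgroup G) (hLC : L ≤ centralizer ({b} : Set G))
    (hLn : (L.subgroupOf (centralizer ({b} : Set G))).Normal) (e : SM ≃* L)
    (hcyc : ∀ R : Sylow 3 (centralizer (L : Set G)), IsCyclic (R : Subgroup (centralizer (L : Set G)))) :
    ∃ φ ev, Bd0 b φ ev := by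
  have : Fact (Nat.Prime 3) := ⟨Nat.prime_three⟩
  obtain ⟨φ, hi, hr⟩ : ∃ φ : SM →* G, Function.Injective φ ∧ φ.range = L := by
    refine ⟨L.subtype.comp e.toMonoidHom, Subtype.val_injective.comp e.injective, ?_⟩
    ext y
    exact ⟨by rintro ⟨m, rfl⟩; exact (e m).2, fun hy => ⟨e.symm ⟨y, hy⟩, by simp⟩⟩
  subst hr
  have hc : ∀ m, Commute b (φ m) := fun m => (mem_Cx.1 (hLC ⟨m, rfl⟩)).symm
  have hn : ∀ g, Commute g b → ∀ y ∈ φ.range, g * y * g⁻¹ ∈ φ.range := fun g hg y hy =>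
    hLn.conj_mem ⟨y, hLC hy⟩ hy ⟨g, mem_Cx.2 hg⟩
  have cyc : ∀ P : Subgroup G, IsPGroup 3 P → (∀ k ∈ P, ∀ m, Commute k (φ m)) → IsCyclic P := fun P hP hc => by
    have hle : P ≤ centralizer (φ.range : Set G) := fun k hk => mem_centralizer_iff.2 (by
      rintro _ ⟨m, rfl⟩
      exact (hc k hk m).symm.eq)
    obtain ⟨R, hR⟩ := (hP.comap_subtype (K := centralizer (φ.range : Set G))).exists_le_sylow
    have := hcyc R
    have h1 : IsCyclic (P.subgroupOf (centralizer (φ.range : Set G))) := Subgroup.isCyclic_of_le hR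
    exact isCyclic_of_surjective _ (subgroupOfEquivOfLe hle).surjective
  obtain ⟨b3, bc, b27, bi⟩ := B0_facts
  have ch : Ch0 b φ := by
    refine ⟨hb, hi, hc, fun g hg => inner_of_norm hi ?_, cyc⟩
    have c1 : ∀ y, Commute y b → Commute (g * y * g⁻¹) b := fun y hy => by
      have h1 : Commute (g * y * g⁻¹) (g * b * g⁻¹) := hy.map (MulAut.conj g)
      rcases hg with hg | hg <;> rw [hg] at h1
      exacts [h1, Commute.inv_right_iff.1 h1]
    have c2 : ∀ y, Commute y b → Commute (g⁻¹ * y * g) b := fun y hy => by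
      refine comm_cj ?_
      rcases hg with hg | hg <;> rw [hg]
      exacts [hy, hy.inv_right]
    have hN : (φ.range.comap (cjh g φ)).Normal := ⟨fun n hn' m => by
      have := hn _ (c1 _ (hc m).symm) _ hn'
      rw [mem_comap, map_mul, map_mul, map_inv]
      exact this⟩
    rcases simple_SM.eq_bot_or_eq_top_of_normal _ hN with h0 | h0
    · exfalso
      have h1 : ∀ m n, Commute (cjh g φ m) (φ n) := fun m n => by
        obtain ⟨k, hk⟩ : g⁻¹ * φ n * g * φ m * (g⁻¹ * φ n * g)⁻¹ * (φ m)⁻¹ ∈ φ.range :=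
          mul_mem (hn _ (c2 _ (hc n).symm) _ ⟨m, rfl⟩) (inv_mem ⟨m, rfl⟩)
        have h2 : cjh g φ k = φ n * (cjh g φ m * (φ n)⁻¹ * (cjh g φ m)⁻¹) := by
          rw [cjh_apply, cjh_apply, hk]; group
        have h3 : k ∈ φ.range.comap (cjh g φ) := by
          rw [mem_comap, h2]
          exact mul_mem ⟨n, rfl⟩ (hn _ (c1 _ (hc m).symm) _ (inv_mem ⟨n, rfl⟩))
        rw [h0, mem_bot] at h3
        rw [h3, map_one] at h2
        calc cjh g φ m * φ n = φ n * (cjh g φ m * (φ n)⁻¹ * (cjh g φ m)⁻¹) * (cjh g φ m * φ n) := by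
              rw [← h2, one_mul]
          _ = _ := by group
      have p3 : ∀ y ∈ B0.map (cjh g φ), y ^ 3 = 1 := by
        rintro _ ⟨m, hm, rfl⟩
        rw [← map_pow, b3 m hm, map_one]
      have h2 := cyc (B0.map (cjh g φ)) (isPGroup_iff_mem.2 fun y hy => ⟨1, p3 y hy⟩)
        (by rintro _ ⟨m, -, rfl⟩ n; exact h1 m n)
      have h3 : Monoid.exponent (B0.map (cjh g φ)) ∣ 3 :=
        Monoid.exponent_dvd_of_forall_pow_eq_one fun y => Subtype.ext (p3 _ y.2)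
      rw [IsCyclic.exponent_eq_card, card_map_of_injective ((MulAut.conj g).injective.comp hi), b27] at h3
      omega
    · exact fun m => show m ∈ φ.range.comap (cjh g φ) from h0 ▸ mem_top m
  obtain ⟨m1, m2, m3⟩ := Set_β
  have p : ∀ m ∈ B0, φ m ^ 3 = 1 := fun m hm => by rw [← map_pow, b3 m hm, map_one]
  obtain ⟨ev, e1, e2, e3, e4, e5⟩ := hom4 (p _ m1) (p _ m2) (p _ m3) (Set_x3 hb) ((bc _ m1 _ m2).map φ)
    ((bc _ m1 _ m3).map φ) (hc _).symm ((bc _ m2 _ m3).map φ) (hc _).symm (hc _).symm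
  refine ⟨φ, ev, ch, (injective_iff_map_eq_one _).2 fun v hv => ?_, e1, e2, e3, e4⟩
  rw [e5, ← map_pow, ← map_pow, ← map_pow, ← map_mul, ← map_mul] at hv
  have h1 : b ^ (v.v / 27) = 1 := ch.pow_mem (npow_mem_zpowers b _)
    (eq_inv_of_mul_eq_one_right hv ▸ inv_mem ⟨_, rfl⟩)
  rw [h1, mul_one, map_eq_one_iff φ hi] at hv
  have h2 := bi ⟨_, Nat.mod_lt v.v (by norm_num)⟩ ⟨_, Nat.mod_lt (v.v / 3) (by norm_num)⟩
    ⟨_, Nat.mod_lt (v.v / 9) (by norm_num)⟩ hv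
  simp only [Fin.ext_iff, Fin.val_zero] at h2
  have h3 := orderOf_dvd_of_pow_eq_one h1
  have h4 : v.v < 81 := TG.v_lt v
  rw [hb] at h3
  exact TG.ext' (show v.v = 0 by omega)

variable {b : G} {φ : SM →* G} {ev : V81 →* G}

theorem Set_cube (ev : V81 →* G) (v : V81) : ev v ^ 3 = 1 := by
  rw [← map_pow, pow_succ, pow_two, Rec3B.W4.V_cube, map_one]

theorem Set_comm (ev : V81 →* G) (u v : V81) : Commute (ev u) (ev v) :=
  (show Commute u v from Rec3B.W4.V_comm u v).map ev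

theorem Bd0.Set_card (h : Bd0 b φ ev) : Nat.card ev.range = 81 := by
  rw [← Nat.card_congr (MonoidHom.ofInjective h.einj).toEquiv]; exact TG.card_eq

theorem Bd0.Set_cm (h : Bd0 b φ ev) {k : G} (hk : Commute k b) (hc : ∀ m, Commute k (φ m)) (v : V81) :
    Commute k (ev v) := by
  rw [h.ev_eq]; exact (hc _).mul_right (hk.pow_right _)

theorem Bd0.wc (h : Bd0 b φ ev) (hwc : ∃ g : G, g * b * g⁻¹ ∈ centralizer ({b} : Set G) ∧ zpowers (g * b * g⁻¹) ≠ zpowers b) :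
    ∃ v, IsConj b (ev v) ∧ v ≠ x4 ∧ v ≠ x4⁻¹ := by
  obtain ⟨g, g1, g2⟩ := hwc
  have hc : Commute (g * b * g⁻¹) b := mem_Cx.1 g1
  obtain ⟨m, hm⟩ := h.conj_into (zpowers (g * b * g⁻¹))
    (fun r hr => by obtain ⟨i, rfl⟩ := mem_zpowers_iff.1 hr; exact hc.zpow_left i)
    (fun r hr => by
      obtain ⟨i, rfl⟩ := mem_zpowers_iff.1 hr
      rw [← zpow_natCast, ← zpow_mul, mul_comm, zpow_mul, zpow_natCast, conj_pow, Set_x3 h.ord]
      simp)
    (fun r hr s hs => by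
      obtain ⟨i, rfl⟩ := mem_zpowers_iff.1 hr
      obtain ⟨j, rfl⟩ := mem_zpowers_iff.1 hs
      exact Commute.zpow_zpow_self _ i j)
  obtain ⟨v, hv⟩ := hm _ (mem_zpowers _)
  have e : g * b * g⁻¹ = (φ m)⁻¹ * ev v * φ m := by rw [hv]; group
  have c : (φ m)⁻¹ * b * φ m = b := by rw [mul_assoc, (h.comm m).eq, inv_mul_cancel_left]
  refine ⟨v, isConj_iff.2 ⟨φ m * g, by rw [hv]; group⟩, ?_, ?_⟩ <;> rintro rfl <;> refine g2 ?_
  · rw [e, h.v4, c]
  · rw [e, map_inv, h.v4, show (φ m)⁻¹ * b⁻¹ * φ m = ((φ m)⁻¹ * b * φ m)⁻¹ by group, c, zpowers_inv]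

theorem Bd0.three (h : Bd0 b φ ev) (hv : ∃ v, IsConj b (ev v) ∧ v ≠ x4 ∧ v ≠ x4⁻¹) :
    ∀ k, Commute k b → (∀ m, Commute k (φ m)) → ∀ n : ℕ, k ^ 3 ^ n = 1 → k ∈ zpowers b := by
  have : Fact (Nat.Prime 3) := ⟨Nat.prime_three⟩
  refine fun k hk hc n hn => by_contra fun hne => ?_
  obtain ⟨x, hcj, hx1, hx2⟩ := hv
  have hK : ∀ y ∈ (zpowers k ⊔ zpowers b : Subgroup G), Commute y b ∧ ∀ m, Commute y (φ m) := by
    have key : ∀ a : G, Commute k a → Commute b a → ∀ y ∈ (zpowers k ⊔ zpowers b : Subgroup G), Commute y a :=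
      fun a h1 h2 y hy => mem_Cx.1 ((sup_le (zpowers_le.2 (mem_Cx.2 h1)) (zpowers_le.2 (mem_Cx.2 h2)) : _ ≤ Cx a) hy)
    exact fun y hy => ⟨key b hk (Commute.refl b) y hy, fun m => key _ (hc m) (h.comm m) y hy⟩
  have h1 : IsPGroup 3 (zpowers k ⊔ zpowers b : Subgroup G) :=
    IsPGroup.to_sup_of_normal_right' (isPGroup_zpowers_of_pow hn)
      (isPGroup_zpowers_of_pow (k := 1) (Set_x3 h.ord)) (zpowers_le.2
        (mem_normalizer_of_forall fun r hr => by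
          obtain ⟨i, rfl⟩ := mem_zpowers_iff.1 hr
          rwa [(hk.zpow_right i).eq, mul_inv_cancel_right]))
  obtain ⟨⟨c, hcm⟩, hgen⟩ := (h.cyc _ h1 fun y hy => (hK y hy).2).exists_monoid_generator
  obtain ⟨a, ha⟩ := hgen ⟨b, mem_sup_right (mem_zpowers b)⟩
  obtain ⟨d, hd⟩ := hgen ⟨k, mem_sup_left (mem_zpowers k)⟩
  replace ha : c ^ a = b := congrArg Subtype.val ha
  replace hd : c ^ d = k := congrArg Subtype.val hd
  obtain ⟨a, rfl⟩ : 3 ∣ a := by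
    by_contra h3
    obtain ⟨j, hj⟩ := isPGroup_iff_mem.1 h1 c hcm
    have h4 : Nat.Coprime a (orderOf c) := Nat.Coprime.coprime_dvd_right (orderOf_dvd_of_pow_eq_one hj)
      (Nat.Coprime.pow_right _ ((Nat.Prime.coprime_iff_not_dvd Nat.prime_three).2 h3).symm)
    obtain ⟨e, he⟩ := exists_pow_eq_self_of_coprime h4
    refine hne ?_
    rw [← hd, ← he, ha, ← pow_mul]
    exact npow_mem_zpowers b _
  rw [mul_comm, pow_mul] at ha
  obtain ⟨k1, k2⟩ := hK _ (Subgroup.pow_mem _ hcm a)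
  generalize c ^ a = r at ha k1 k2
  obtain ⟨g, p, q, s, g1⟩ := h.trans hcj
  have g2 : g * b * g⁻¹ = ev x := h.v4 ▸ g1.2.2.2
  have h2 : ∀ v, Commute (g * r * g⁻¹) (ev v) := fun v => by
    obtain ⟨u, e⟩ := conj_mem_of_mem_normalizer' (nm_of_act4 g1) ⟨v, rfl⟩
    have h3 := (e ▸ h.Set_cm k1 k2 u : Commute r (g⁻¹ * ev v * g)).map (MulAut.conj g)
    simpa [mul_assoc] using h3
  have h3 : (g * r * g⁻¹) ^ 3 = ev x := by rw [conj_pow, ha, g2]
  have hb' : Commute (g * r * g⁻¹) b := h.v4 ▸ h2 x4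
  have hb'' : g * r * g⁻¹ * b * (g * r * g⁻¹)⁻¹ = b := by rw [hb'.eq, mul_inv_cancel_right]
  obtain ⟨k', M, e, e1, e2, hM, -⟩ := h.dec (.inl hb'')
  have key : ∀ β v, ev v = φ β → Commute M β := fun β v hβ => by
    have e := hM β
    rw [← hβ, (h2 v).eq, mul_inv_cancel_right, hβ] at e
    exact mul_inv_eq_iff_eq_mul.1 (h.inj e).symm
  have hM3 := B0_facts.1 _ (cB0 (key _ _ h.v1) (key _ _ h.v2) (key _ _ h.v3))
  have h5 : ev x = k' ^ 3 := by rw [← h3, e, (e1 M).mul_pow, ← map_pow, hM3, map_one, mul_one]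
  have e3 : Commute k' b := mul_inv_eq_iff_eq_mul.1 (e2.trans hb'')
  have h6 := h.three0 (h5 ▸ e3.pow_left 3) (fun m => h5 ▸ (e1 m).pow_left 3) (Set_cube ev x)
  obtain ⟨i, hi, h7⟩ : ∃ i < 3, b ^ i = ev x := by
    obtain ⟨i, h7⟩ := (Submonoid.mem_powers_iff _ _).1 (mem_powers_iff_mem_zpowers.2 h6)
    exact ⟨i % 3, Nat.mod_lt _ (by norm_num), by rw [← pow_eq_pow_mod _ (Set_x3 h.ord), h7]⟩
  rw [← h.v4, ← map_pow] at h7
  obtain rfl := h.einj h7
  interval_cases i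
  · rw [pow_zero, map_one, isConj_one_left] at hcj
    have := h.ord
    rw [hcj, orderOf_one] at this
    omega
  · exact hx1 (pow_one _)
  · exact hx2 (by decide +kernel)

/-- a 2-subgroup of `C(b)` normalised by `B` centralises the component -/
theorem Bd0.Set_sig (h : Bd0 b φ ev) {T : Subgroup G} (hT : IsPGroup 2 T) (hb : ∀ q ∈ T, Commute q b)
    (hn : ∀ v, ev v ∈ Nm T) : ∀ q ∈ T, ∀ m, Commute q (φ m) := by
  let N : Subgroup SM :=
    { carrier := {M | ∃ k, (∀ m, Commute k (φ m)) ∧ k * φ M ∈ T}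
      one_mem' := ⟨1, fun m => Commute.one_left _, by simp⟩
      mul_mem' := by
        rintro M M' ⟨k, k1, k2⟩ ⟨k', k1', k2'⟩
        refine ⟨k * k', fun m => (k1 m).mul_left (k1' m), ?_⟩
        rw [map_mul, (k1' M).mul_mul_mul_comm]
        exact mul_mem k2 k2'
      inv_mem' := by
        rintro M ⟨k, k1, k2⟩
        refine ⟨k⁻¹, fun m => (k1 m).inv_left, ?_⟩
        rw [map_inv, ← mul_inv_rev, ← (k1 M).eq]
        exact inv_mem k2 }
  have h2 : IsPGroup 2 N := isPGroup_iff_mem.2 (by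
    rintro M ⟨k, k1, k2⟩
    obtain ⟨n, e⟩ := isPGroup_iff_mem.1 hT _ k2
    refine ⟨n, center_SM _ fun m => h.inj ?_⟩
    rw [(k1 M).mul_pow] at e
    rw [map_mul, map_mul, map_pow, eq_inv_of_mul_eq_one_right e]
    exact ((k1 m).pow_left _).inv_left)
  have key : ∀ β v, ev v = φ β → β ∈ Nm N := fun β v e => mem_normalizer_of_forall (by
    rintro M ⟨k, k1, k2⟩
    refine ⟨k, k1, ?_⟩
    have := conj_mem_of_mem_normalizer (hn v) k2
    rwa [e, ← mul_assoc, ← (k1 β).eq, mul_assoc, mul_assoc, ← mul_assoc (φ β), ← map_inv, ← map_mul, ← map_mul] at this)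
  have h0 := no3 (cop_two h2) (key _ _ h.v1) (key _ _ h.v2) (key _ _ h.v3)
  intro q hq
  obtain ⟨k, M, e, e1, -⟩ := h.dec (g := q) (.inl (by rw [(hb q hq).eq, mul_inv_cancel_right]))
  have h1 : M ∈ N := ⟨k, e1, e ▸ hq⟩
  rw [h0, mem_bot] at h1
  rwa [e, h1, map_one, mul_one]

/-- an elementary abelian 3-subgroup of `C(b)` is conjugate into `B` -/
theorem Bd0.Set_into (h : Bd0 b φ ev) (A : Subgroup (centralizer ({b} : Set G))) (h1 : ∀ x ∈ A, ∀ y ∈ A, Commute x y)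
    (h3 : ∀ a ∈ A, a ^ 3 = 1) : ∃ m, cj (φ m) (A.map (centralizer ({b} : Set G)).subtype) ≤ ev.range := by
  obtain ⟨m, hm⟩ := h.conj_into (A.map (centralizer ({b} : Set G)).subtype)
    (by rintro _ ⟨a, -, rfl⟩; exact mem_Cx.1 a.2)
    (by rintro _ ⟨a, ha, rfl⟩; exact congrArg Subtype.val (h3 a ha))
    (by rintro _ ⟨a, ha, rfl⟩ _ ⟨a', ha', rfl⟩; exact (h1 a ha a' ha').map _)
  exact ⟨m, cj_le_iff.2 hm⟩

theorem Bd0.od (h : Bd0 b φ ev)
    (hA5 : ∀ B : Subgroup (centralizer ({b} : Set G)), Cfsg.IsElementaryAbelian 3 B →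
      (∃ H : Subgroup (centralizer ({b} : Set G)), Cfsg.IsTwoLocal H ∧ B ≤ H) →
      (∀ B' : Subgroup (centralizer ({b} : Set G)), Cfsg.IsElementaryAbelian 3 B' →
        (∃ H : Subgroup (centralizer ({b} : Set G)), Cfsg.IsTwoLocal H ∧ B' ≤ H) → Nat.card B' ≤ Nat.card B) →
      ∃ Q : Subgroup (centralizer ({b} : Set G)), IsPGroup 2 Q ∧
        B ≤ normalizer (Q : Set (centralizer ({b} : Set G))) ∧ ⁅Q, B⁆ ≠ ⊥) :
    ∀ k, Commute k b → (∀ m, Commute k (φ m)) → k * k = 1 → k = 1 := by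
  refine fun k hk hc hkk => by_contra fun hne => ?_
  have cb : ∀ v, Commute (ev v) b := fun v => h.v4 ▸ Set_comm ev v x4
  have hle : ev.range ≤ centralizer ({b} : Set G) := by rintro _ ⟨v, rfl⟩; exact mem_Cx.2 (cb v)
  obtain ⟨Q, q1, q2, q3⟩ := hA5 (ev.range.subgroupOf (centralizer ({b} : Set G)))
    ⟨⟨⟨fun x y => by
      obtain ⟨u, (hu : ev u = x.1.1)⟩ := x.2
      obtain ⟨v, (hv : ev v = y.1.1)⟩ := y.2
      exact Subtype.ext (Subtype.ext (hu ▸ hv ▸ Set_comm ev u v : Commute x.1.1 y.1.1).eq)⟩⟩, by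
      rintro ⟨_, _⟩ ⟨u, rfl⟩
      exact Subtype.ext (Set_cube ev u)⟩
    ⟨_, ⟨zpowers ⟨k, mem_Cx.2 hk⟩, isPGroup_zpowers_of_pow (k := 1) (Subtype.ext (by simpa [pow_two] using hkk)),
      fun e => hne (congrArg Subtype.val (zpowers_eq_bot.1 e)), rfl⟩, by
      rintro ⟨_, ha⟩ ⟨u, rfl⟩
      refine mem_normalizer_of_forall fun y hy => ?_
      obtain ⟨i, rfl⟩ := mem_zpowers_iff.1 hy
      have : Commute (⟨ev u, ha⟩ : centralizer ({b} : Set G)) ⟨k, mem_Cx.2 hk⟩ :=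
        Subtype.ext (h.Set_cm hk hc u).symm.eq
      rwa [(this.zpow_right i).eq, mul_inv_cancel_right]⟩
    fun A hA _ => by
      obtain ⟨m, hm⟩ := h.Set_into A (fun x hx y hy => congrArg Subtype.val (hA.1.is_comm.comm ⟨x, hx⟩ ⟨y, hy⟩)) hA.2
      rw [← card_map_of_injective (subtype_injective _), ← card_cj (φ m),
        Nat.card_congr (subgroupOfEquivOfLe hle).toEquiv]
      exact card_le_of_le hm
  have h1 := h.Set_sig (q1.map (centralizer ({b} : Set G)).subtype) (by rintro _ ⟨a, -, rfl⟩; exact mem_Cx.1 a.2)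
    fun v => mem_normalizer_of_forall (by
      rintro _ ⟨a, ha, rfl⟩
      exact ⟨_, conj_mem_of_mem_normalizer (q2 (x := ⟨ev v, hle ⟨v, rfl⟩⟩) ⟨v, rfl⟩) ha, rfl⟩)
  refine q3 (commutator_eq_bot_iff_le_centralizer.2 fun a ha => mem_centralizer_iff.2 ?_)
  rintro ⟨_, _⟩ ⟨v, rfl⟩
  exact Subtype.ext (h.Set_cm (mem_Cx.1 a.2) (h1 _ ⟨a, ha, rfl⟩) v).symm.eq

theorem Bd.hy (h : Bd b φ ev) (hG : Cfsg.IsCharacteristicTwoType G) (h3 : ∀ N : Subgroup G, N.Normal → N.index = 3 → False)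
    (hrk : ∀ k : ℕ, Cfsg.TwoLocalPRankLE 3 k G ↔ Cfsg.TwoLocalPRankLE 3 k (centralizer ({b} : Set G))) : Hy G := by
  have : Fact (Nat.Prime 2) := ⟨Nat.prime_two⟩
  have : Fact (Nat.Prime 3) := ⟨Nat.prime_three⟩
  have r3 : Cfsg.TwoLocalPRankLE 3 3 (centralizer ({b} : Set G)) := by
    rintro _ ⟨T, t1, t2, rfl⟩ A a1 a2
    by_contra hlt
    obtain ⟨m, hm⟩ := h.Set_into (A.map (Nm T).subtype)
      (by rintro _ ⟨x, hx, rfl⟩ _ ⟨y, hy, rfl⟩
          exact congrArg Subtype.val (congrArg Subtype.val (a1.is_comm.comm ⟨x, hx⟩ ⟨y, hy⟩)))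
      (by rintro _ ⟨x, hx, rfl⟩; exact congrArg Subtype.val (a2 x hx))
    have c1 : Nat.card (cj (φ m) ((A.map (Nm T).subtype).map (centralizer ({b} : Set G)).subtype)) = Nat.card A := by
      rw [card_cj, card_map_of_injective (subtype_injective _), card_map_of_injective (subtype_injective _)]
    have c2 := card_dvd_of_le hm
    rw [h.Set_card, c1, show 81 = 3 ^ 4 from rfl, Nat.dvd_prime_pow Nat.prime_three] at c2
    obtain ⟨i, hi, c2⟩ := c2
    have c3 : Nat.card A = 81 := by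
      interval_cases i <;> omega
    have c4 := eq_of_le_of_card_ge hm (by rw [c1, c3, h.Set_card])
    have hb : ∀ q ∈ cj (φ m) (T.map (centralizer ({b} : Set G)).subtype), Commute q b := by
      rintro _ ⟨_, ⟨a, -, rfl⟩, rfl⟩
      exact ((h.comm m).symm.mul_left (mem_Cx.1 a.2)).mul_left (h.comm m).symm.inv_left
    have h1 := h.Set_sig (isPGroup_cj (φ m) (t1.map (centralizer ({b} : Set G)).subtype)) hb fun v => by
      have : ev v ∈ ev.range := ⟨v, rfl⟩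
      rw [← c4] at this
      rw [Nm, ← cj_normalizer]
      refine cj_mono _ ?_ this
      rintro _ ⟨_, ⟨x, -, rfl⟩, rfl⟩
      refine mem_normalizer_of_forall ?_
      rintro _ ⟨a, ha, rfl⟩
      exact ⟨_, conj_mem_of_mem_normalizer x.2 ha, rfl⟩
    obtain ⟨y, hy⟩ := exists_prime_orderOf_dvd_card' (G := T) 2 (by
      obtain ⟨n, hn⟩ := IsPGroup.iff_card.1 t1
      rcases n with _ | n
      · exact absurd (eq_bot_of_card_eq _ hn) t2
      · exact hn ▸ dvd_pow_self 2 n.succ_ne_zero)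
    have y1 : φ m * y.1.1 * (φ m)⁻¹ ∈ cj (φ m) (T.map (centralizer ({b} : Set G)).subtype) :=
      conj_mem_cj.2 ⟨_, y.2, rfl⟩
    have y2 : orderOf (φ m * y.1.1 * (φ m)⁻¹) = 2 := by rw [ord_conj, orderOf_coe, orderOf_coe, hy]
    exact ne_one_of_ord y2 (h.od _ (hb _ y1) (h1 _ y1) (sq_of_ord y2))
  refine ⟨hG, fun T E hT hE e3 ec hc => by_contra fun hne => ?_, h3⟩
  have h1 := (hrk 3).2 r3 _ ⟨T, hT, hne, rfl⟩ (E.subgroupOf (Nm T))
    ⟨⟨fun x y => Subtype.ext (Subtype.ext (ec _ x.2 _ y.2).eq)⟩⟩ fun a ha => Subtype.ext (e3 _ ha)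
  rw [Nat.card_congr (subgroupOfEquivOfLe hE).toEquiv] at h1
  omega

end CfsgLib.S86
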