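import Cfsg.Agent.Lib.S86.FrA
import Cfsg.Agent.Lib.Rec3C.BasA
import Cfsg.Agent.Lib.AG.Basic

/-! Case `F₄(2)`: Sylow 3-subgroups and signalizers (project S86, see plans/S86.md). -/

set_option autoImplicit false
set_option maxRecDepth 100000
set_option Elab.async false
set_option linter.unusedSectionVars false

namespace CfsgLib.S86

open Subgroup CfsgLib.W2 CfsgLib.Tech CfsgLib.PComp CfsgLib.Rec3C CfsgLib.Rec3C.V4
open CfsgLib.Rec3B (V81)
open CfsgLib.L72 (Nm IsQ Oc)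

variable {G : Type*} [Group G] [Finite G]

variable {Γ : Subgroup GO} {ι : N4 → G} {φ : SM →* G}

private theorem syl_XX : XX ≤ WF4 := show ∀ g ∈ XX, g ∈ WF4 by decide +kernel

private theorem syl_SV : IsSylowIn 3 SV ⊤ := by
  refine ⟨le_top, BasA.SV_pgroup, ?_⟩
  have e := card_mul_relIndex' (le_top : SV ≤ ⊤)
  rw [card_SV, ← comap_top np, card_NG, Subgroup.card_top, card_GO] at e
  rw [← comap_top np]
  omega

private theorem syl_J (h : Fr Γ ι φ) : (∀ x ∈ JG ι, ∀ y ∈ JG ι, x * y = y * x) ∧ (∀ x ∈ JG ι, x ^ 3 = 1) ∧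
    Nat.card (JG ι) = 81 := by
  refine ⟨?_, ?_, (h.card_im (JV_le Γ)).trans card_JV⟩ <;> rw [← h.ev_range]
  · rintro _ ⟨u, rfl⟩ _ ⟨v, rfl⟩
    rw [← map_mul, Rec3B.W4.V_comm, map_mul]
  · rintro _ ⟨u, rfl⟩
    rw [← map_pow, pow_succ, pow_two, Rec3B.W4.V_cube, map_one]

private theorem syl_hyp : ∀ i j l : Fin 3, ∃ a b c : Fin 3,
    qf ((x1 * x4 ^ i.1) ^ a.1 * (x2 * x4 ^ j.1) ^ b.1 * (x3 * x4 ^ l.1) ^ c.1) = 1 := by decide +kernel

private theorem syl_one (B : Subgroup V81) (hB : B.index = 3) : ∃ v ∈ B, qf v = 1 := by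
  by_cases hz : x4 ∈ B
  · exact ⟨x4, hz, by decide +kernel⟩
  have : B.Normal := ⟨fun n hn g => by rwa [Rec3B.W4.V_comm g, mul_inv_cancel_right]⟩
  have h3 : x4 ^ 3 = 1 := by rw [pow_succ, pow_two, Rec3B.W4.V_cube]
  have k : ∀ y : V81, ∃ i : Fin 3, y * x4 ^ i.val ∈ B := fun y => by
    rcases Rec3.zp3_cases (by rw [← map_pow, h3, map_one]) (mem_zpowers_of_prime_card (g' := QuotientGroup.mk' B y)
      (g := QuotientGroup.mk' B x4) hB (fun e => hz ((QuotientGroup.eq_one_iff _).1 e))) with e | e | e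
    · exact ⟨0, (QuotientGroup.eq_one_iff _).1 (by simpa using e)⟩
    · refine ⟨2, (QuotientGroup.eq_one_iff _).1 ?_⟩
      show QuotientGroup.mk' B (y * x4 ^ 2) = 1
      rw [map_mul, e, ← map_mul, ← pow_succ', h3, map_one]
    · refine ⟨1, (QuotientGroup.eq_one_iff _).1 ?_⟩
      show QuotientGroup.mk' B (y * x4 ^ 1) = 1
      rw [map_mul, e, pow_one, inv_mul_cancel]
  obtain ⟨i, hi⟩ := k x1
  obtain ⟨j, hj⟩ := k x2
  obtain ⟨l, hl⟩ := k x3
  obtain ⟨a, b, c, e⟩ := syl_hyp i j l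
  exact ⟨_, mul_mem (mul_mem (pow_mem hi _) (pow_mem hj _)) (pow_mem hl _), e⟩

private theorem syl_rep : ∀ v : V81, qf v = 1 → ∃ w ∈ WF4, act w x4 = v := by decide +kernel

private theorem syl_sig0 (h : Fr Γ ι φ) {N : Subgroup G} (hN : (Nat.card N).Coprime 3)
    (hn : ∀ v, ι (nv v) ∈ Nm N) {g : G} (hg : g ∈ N) (hc : Commute g (ι (nv x4))) : g = 1 := by
  obtain ⟨m, rfl⟩ := h.cent' hc (hN.coprime_dvd_left (orderOf_dvd_natCard _ hg))
  have k : ∀ (v : V81) (b : SM), ι (nv v) = φ b → b ∈ Nm (N.comap φ) := fun v b e =>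
    mem_normalizer_iff.2 fun y => by
      rw [mem_comap, mem_comap, map_mul, map_mul, map_inv, ← e]
      exact mem_normalizer_iff.1 (hn v) _
  have := no3 (N := N.comap φ) (hN.coprime_dvd_left (card_comap_dvd_of_injective _ _ h.ch.inj))
    (k _ _ h.v1) (k _ _ h.v2) (k _ _ h.v3)
  rw [mem_bot.1 (this.le hg), map_one]

theorem Fr.syl (h : Fr Γ ι φ) (wf : WF4 ≤ Γ) : IsSylowIn 3 (SG ι) ⊤ := by
  have := Fact.mk Nat.prime_three
  have l : SV ≤ NG Γ := comap_mono (syl_XX.trans wf)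
  obtain ⟨jc, j3, j81⟩ := syl_J h
  refine Rec3.sylow_of (h.im_pgroup l BasA.SV_pgroup) le_top fun x _ hx ⟨n, hn⟩ => ?_
  obtain ⟨E, h1, e, h2⟩ := BasA.pull h.toGEmb l (E := cj x (JG ι))
    ((cj_mono _ (gim_mono (JV_le XX))).trans (mem_normalizer_iff_cj.1 hx).le)
  have l' := h1.trans l
  rw [BasA.uniq h1 (fun a ha b hb => (h.comm_iff (l' ha) (l' hb)).1 ((Rec3.Jx.cj_elem x jc j3).1 _ (h2 a ha) _ (h2 b hb)))
    (by rw [← h.card_im l', e, card_cj, j81])] at e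
  obtain ⟨a, ha, rfl⟩ := h.exists_eq (mem_normalizer_iff_cj.2 e.symm)
  refine mem_gim_of (syl_SV.le_of_normalizes (isPGroup_zpowers_of_pow (k := n) ?_) le_top (zpowers_le.2 ?_) (mem_zpowers a))
  · exact (h.eq_one_iff (pow_mem ha _)).1 ((h.pow ha _).trans hn)
  · refine mem_normalizer_of_forall fun b hb => ?_
    rw [← h.mem_im_iff l (mul_mem (mul_mem ha (l hb)) (inv_mem ha)), ← h.conj ha (l hb)]
    exact conj_mem_of_mem_normalizer hx (mem_gim_of hb)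

/-- `J` normalises no non-trivial `3'`-subgroup -/
theorem Fr.sig (hy : Hy G) (h : Fr Γ ι φ) (wf : WF4 ≤ Γ) {N : Subgroup G} (hN : (Nat.card N).Coprime 3)
    (hn : ∀ v, ι (nv v) ∈ Nm N) : N = ⊥ := by
  obtain ⟨jc, j3, j81⟩ := syl_J h
  have : IsMulCommutative (JG ι) := ⟨⟨fun x y => Subtype.ext (jc _ x.2 _ y.2)⟩⟩
  refine eq_bot_iff.2 (Coprime.le_of_forall_hyperplane Nat.prime_three j3
    (fun e => by rw [e, card_bot] at j81; norm_num at j81) (by rw [← h.ev_range]; rintro _ ⟨v, rfl⟩; exact hn v)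
    (j81 ▸ (hN.pow_right 4).symm) fun B hB i3 => ?_)
  obtain ⟨v, hv, v1⟩ := syl_one (B.comap h.ev) (by rw [index_comap, h.ev_range, i3])
  obtain ⟨w, hw, rfl⟩ := syl_rep v v1
  rintro g ⟨hg, hc⟩
  exact syl_sig0 (h.twb (wf hw)) hN (fun v => by rw [twb_nv]; exact hn _) hg (by rw [twb_nv]; exact (hc _ hv).symm)

theorem Fr.cQ (hy : Hy G) (h : Fr Γ ι φ) (wf : WF4 ≤ Γ) (hn : Cx (ι (nv zz)) ≤ Nm (QG ι)) :
    centralizer (QG ι : Set G) ≤ QG ι := by
  have := Fact.mk Nat.prime_three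
  have l : SV ≤ NG Γ := comap_mono (syl_XX.trans wf)
  have zQ : ι (nv zz) ∈ QG ι := mem_gim_of (BasA.nv_QV BasA.albe.2.2.2.2.1)
  have hS : SG ι ≤ Cx (ι (nv zz)) := gim_le.2 fun a ha =>
    mem_Cx.2 ((h.comm_iff (l ha) (nv_mem Γ _)).2 (comm_nv.2 (BasA.X_zz ha)))
  have hC := hn.trans (Core.normalizer_le_normalizer_centralizer (QG ι : Set G))
  have h1 := ((h.syl wf).of_le hS le_top).inf_of_le_normalizer hC
  rw [inf_eq_right.2 (show centralizer (QG ι : Set G) ≤ Cx (ι (nv zz)) from fun g hg => mem_Cx.2 (hg _ zQ).symm)] at h1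
  have h2 : SG ι ⊓ centralizer (QG ι : Set G) ≤ QG ι := fun g hg => by
    obtain ⟨a, ha, rfl⟩ := (h.mem_im l).1 hg.1
    exact mem_gim_of (zpowers_le.2 (BasA.nv_QV BasA.albe.2.2.2.2.1) (BasA.cent_QV ha fun b hb =>
      (h.comm_iff (l (QV_le hb)) (l ha)).1 (hg.2 _ (mem_gim_of hb))))
  have h3 := AG.sup_opr_of_central_sylow h1 (centralizer_le h2)
  rw [h.sig hy wf (N := AG.opr 3 _) (Core.coprime_card_map_pPrimeCore _) fun v => by
    rw [mem_normalizer_iff_cj, AG.cj_opr, mem_normalizer_iff_cj.1 (hC (hS (mem_gim_of (nv_mem XX v))))], sup_bot_eq] at h3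
  exact h3.ge.trans h2

end CfsgLib.S86
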