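import Cfsg.Agent.Lib.S86.FrA

/-! Case `F₄(2)`: Sylow 2-subgroups of `C(z)` (project S86, see plans/S86.md). -/

set_option autoImplicit false
set_option maxRecDepth 100000
set_option Elab.async false
set_option linter.unusedSectionVars false

namespace CfsgLib.S86

open Subgroup CfsgLib.W2 CfsgLib.Tech CfsgLib.PComp CfsgLib.Rec3C CfsgLib.Rec3C.V4
open CfsgLib.Rec3B (V81)
open CfsgLib.L72 (Nm IsQ Oc)

variable {G : Type*} [Group G] [Finite G]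

variable {Γ : Subgroup GO} {ι : N4 → G} {φ : SM →* G} {T : Subgroup G}

theorem xb_cm {a x : G} (h : a * x * a⁻¹ = x) : Commute a x := mul_inv_eq_iff_eq_mul.1 h

theorem xb_cj {a x : G} (h : Commute a x) : a * x * a⁻¹ = x := mul_inv_eq_iff_eq_mul.2 h

/-- `y ∈ ⟨a, b⟩` -/
def XbU (a b y : G) : Prop := y = 1 ∨ y = a ∨ y = b ∨ y = a * b

theorem XbU.comm {a b y c : G} (h : XbU a b y) (h1 : Commute c a) (h2 : Commute c b) : Commute c y := by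
  rcases h with e | e | e | e <;> rw [e]
  exacts [Commute.one_right _, h1, h2, h1.mul_right h2]

theorem xd_cen (h : XD Γ ι φ T) : T ≤ Cx (ι (nv zz)) ∧ T ≤ Cx (ι (nl t12)) ∧ ι (nl t12) ∈ T ∧
    ∀ g ∈ Cx (ι (nv zz)), Commute g (ι (nl t12)) → Commute g (ι (nl r4)) → (∃ n : ℕ, g ^ 2 ^ n = 1) → g ∈ T := by
  have h1 : T ≤ Cx (ι (nv zz)) := h.syl.le.trans inf_le_left
  refine ⟨h1, h.syl.le.trans inf_le_right, ?_, ?_⟩
  · have q : q1 ∈ Q0 := subset_closure (by simp)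
    rw [h.w12, ← (by decide +kernel : q1 * q1 = s12)]
    exact h.DT (mem_map_of_mem φ (mul_mem q q))
  · rintro g hz h2 h3 ⟨n, hn⟩
    have hg : g ∈ Cx (ι (nv zz)) ⊓ Cx (ι (nl t12)) := ⟨hz, mem_Cx.2 h2⟩
    obtain ⟨s, hs, i, j, e⟩ := h.cU g hg (mem_Cx.2 h3)
    have hN : g ∈ Nm T := by
      rw [e]
      refine mul_mem (mul_mem (le_normalizer hs) (pow_mem (mem_normalizer_of_forall fun x hx => ?_) i))
        (pow_mem h.x3T j)
      rwa [mem_Cx'.1 (Cx_comm.1 (h1 hx))]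
    exact h.syl.le_of_normalizes (isPGroup_zpowers_of_pow hn) (zpowers_le.2 hg) (zpowers_le.2 hN) (mem_zpowers g)

theorem xb_sq (h : Fr Γ ι φ) : ι (nl t12) * ι (nl t12) = 1 ∧ ι (nl r4) * ι (nl r4) = 1 :=
  ⟨sq_of_ord (h.ord_nl (h.m4 mem_M4.2.2.2.2.1) (by decide +kernel) (by decide +kernel)),
    sq_of_ord (h.ord_nl (h.m4 mem_M4.2.2.2.1) (by decide +kernel) (by decide +kernel))⟩

theorem xb_fix (h : Fr Γ ι φ) {k : G}
    (hk : k * ι (nv x3) * k⁻¹ = ι (nv x3) ∨ k * ι (nv x3) * k⁻¹ = (ι (nv x3))⁻¹)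
    (h1 : XbU (ι (nl t12)) (ι (nl r4)) (k * ι (nl t12) * k⁻¹))
    (h2 : XbU (ι (nl t12)) (ι (nl r4)) (k * ι (nl r4) * k⁻¹)) : Commute k (ι (nl t12)) ∧ Commute k (ι (nl r4)) := by
  obtain ⟨M, hM⟩ := h.ch3.nrm k hk
  obtain ⟨-, -, -, e1, e2, -⟩ := h.φ3_vals
  have e3 : φ3 ι φ s12 = ι (nl t12) := by rw [← κ_vals.2.2.2.2.1, e2, κ_vals.2.2.2.2.1, h.w12]
  have inj := h.ch3.inj
  obtain ⟨n1, n2, n3⟩ := nconj
  rw [← e1, ← e3] at h1 h2 ⊢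
  rw [hM, XbU, ← map_mul, ← map_one (φ3 ι φ), inj.eq_iff, inj.eq_iff, inj.eq_iff, inj.eq_iff] at h1 h2
  refine ⟨xb_cm ?_, xb_cm ?_⟩ <;> rw [hM]
  · rcases h1 with e | e | e | e
    · exact absurd (conj_eq_one_iff.1 e) (by decide +kernel)
    · rw [e]
    · exact absurd (isConj_iff.2 ⟨M, e⟩) n1
    · exact absurd (isConj_iff.2 ⟨M, e⟩) n2
  · rcases h2 with e | e | e | e
    · exact absurd (conj_eq_one_iff.1 e) (by decide +kernel)
    · exact absurd (isConj_iff.2 ⟨M, e⟩).symm n1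
    · rw [e]
    · exact absurd (isConj_iff.2 ⟨M, e⟩) n3

/-- `⟨zz, x3⟩` -/
noncomputable def xbW : Subgroup V81 := TG.sub (fun v => v.v < 27 ∧ v.v % 9 % 4 = 0) (by decide +kernel)

theorem xb_U (h : XD Γ ι φ T) {g y : G} (hg : g ∈ Nm T) (hy : y ∈ T) (y2 : y * y = 1) :
    XbU (ι (nl t12)) (ι (nl r4)) (g * y * g⁻¹) :=
  h.invs _ (conj_mem_of_mem_normalizer hg hy) (by rw [conj_mul, y2, mul_one, mul_inv_cancel])

theorem xd_nT (h : XD Γ ι φ T) {g : G} (hz : g ∈ Cx (ι (nv zz))) (hg : g ∈ Nm T) :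
    (Commute g (ι (nl t12)) ∧ Commute g (ι (nl r4))) ∨
      (th ∈ Γ ∧ Commute (g * ι (nl th)) (ι (nl t12)) ∧ Commute (g * ι (nl th)) (ι (nl r4))) := by
  have F := h.toFr
  obtain ⟨π2, t2⟩ := xb_sq F
  obtain ⟨-, -, πT, -⟩ := xd_cen h
  have mπ : t12 ∈ Γ := F.m4 mem_M4.2.2.2.2.1
  have mt : r4 ∈ Γ := F.m4 mem_M4.2.2.2.1
  obtain ⟨Y, hY⟩ : ∃ Y, Y = Cx (ι (nv zz)) ⊓ Cx (ι (nl t12)) ⊓ Cx (ι (nl r4)) := ⟨_, rfl⟩
  have mY : ∀ y, y ∈ Y ↔ Commute y (ι (nv zz)) ∧ Commute y (ι (nl t12)) ∧ Commute y (ι (nl r4)) := fun y => by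
    rw [hY, mem_inf, mem_inf, mem_Cx, mem_Cx, mem_Cx, and_assoc]; rfl
  have P3 : IsPGroup 3 (xbW.map F.ev) := isPGroup_iff_mem.2 (by
    rintro _ ⟨v, -, rfl⟩
    exact ⟨1, by rw [← map_pow, (by decide +kernel : ∀ v : V81, v ^ 3 ^ 1 = 1), map_one]⟩)
  have PY : xbW.map F.ev ≤ Y := by
    rintro _ ⟨v, hv, rfl⟩
    obtain ⟨e1, e2⟩ := (by decide +kernel : ∀ v : V81, (v.v < 27 ∧ v.v % 9 % 4 = 0) →
      act t12 v = v ∧ act r4 v = v) v hv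
    exact (mY _).2 ⟨(show Commute v zz from Rec3B.W4.V_comm v zz).map F.ev, ((F.comm_ev mπ v).2 e1).symm,
      ((F.comm_ev mt v).2 e2).symm⟩
  have zP : ι (nv zz) ∈ xbW.map F.ev := ⟨zz, (by decide +kernel : zz.v < 27 ∧ zz.v % 9 % 4 = 0), rfl⟩
  have xP : ι (nv x3) ∈ xbW.map F.ev := ⟨x3, (by decide +kernel : x3.v < 27 ∧ x3.v % 9 % 4 = 0), rfl⟩
  have PS : IsSylowIn 3 (xbW.map F.ev) Y := isSylowIn_of_maximal P3 PY fun R hR h1 h2 r hr => by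
    have rY := h2 hr
    rw [hY] at rY
    obtain ⟨s, hs, i, j, e⟩ := h.cU r rY.1 rY.2
    have p := mul_mem (pow_mem zP i) (pow_mem xP j)
    have sR : s ∈ R := by
      have := mul_mem hr (inv_mem (h1 p))
      rwa [e, mul_assoc s, mul_inv_cancel_right] at this
    have s1 : s ∈ (⊥ : Subgroup G) := by
      obtain ⟨a, ha⟩ := isPGroup_iff_mem.1 hR s sR
      obtain ⟨b, hb⟩ := isPGroup_iff_mem.1 h.syl.pgroup s hs
      exact mem_of_coprime_pow (Nat.Coprime.pow a b (by norm_num : Nat.Coprime 3 2)) ha hb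
    rwa [e, mem_bot.1 s1, one_mul]
  have xY := (mY _).1 (PY xP)
  have back : ∀ {u : G}, Commute (ι (nv x3)) (g⁻¹ * u * g⁻¹⁻¹) → Commute (g * ι (nv x3) * g⁻¹) u := fun {u} k => by
    simpa [mul_assoc] using k.conj g
  have gY : g * ι (nv x3) * g⁻¹ ∈ Y := (mY _).2 ⟨back (by rw [mem_Cx'.1 (inv_mem hz)]; exact xY.1),
    back ((xb_U h (inv_mem hg) πT π2).comm xY.2.1 xY.2.2), back ((xb_U h (inv_mem hg) h.tT t2).comm xY.2.1 xY.2.2)⟩
  obtain ⟨c, hc, v, hv, e⟩ := PS.exists_conj_mem gY (by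
    rw [← cj_zpowers]; exact isPGroup_cj g (isPGroup_zpowers_of_mem P3 xP))
  obtain ⟨-, c1, c2⟩ := (mY c).1 hc
  have e' : c * g * ι (nv x3) * (c * g)⁻¹ = ι (nv v) := by rw [← F.ev_apply v, e]; group
  have cU : ∀ {y : G}, y ∈ T → y * y = 1 → c * g * y * (c * g)⁻¹ = g * y * g⁻¹ := fun {y} hy y2 => by
    rw [← xb_cj ((xb_U h hg hy y2).comm c1 c2)]; group
  obtain ⟨w, hw, ew⟩ := h.oc v (Or.inl (by
    have := F.conj_ev (nl_mem (F.m4 mem_M4.2.2.2.2.2.2.2.1)) x4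
    rw [show act (nl t34).w x4 = x3 by decide +kernel] at this
    exact (isConj_iff.2 ⟨_, this⟩).trans (isConj_iff.2 ⟨_, e'⟩)))
  have qv := qf_act w x4
  rw [ew] at qv
  by_cases hW : w ∈ WF4
  · rw [if_pos hW] at qv
    have k := xb_fix F (k := c * g) (by
      rw [e', ← F.ev_apply x3, ← map_inv]
      rcases (by decide +kernel : ∀ v : V81, (v.v < 27 ∧ v.v % 9 % 4 = 0) → qf v = qf x4 → v = x3 ∨ v = x3⁻¹) v hv qv
        with k | k <;> rw [k]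
      exacts [Or.inl rfl, Or.inr rfl]) (by rw [cU πT π2]; exact xb_U h hg πT π2) (by rw [cU h.tT t2]; exact xb_U h hg h.tT t2)
    exact Or.inl ⟨xb_cm (by rw [← cU πT π2, xb_cj k.1]), xb_cm (by rw [← cU h.tT t2, xb_cj k.2])⟩
  rw [if_neg hW] at qv
  have mth : th ∈ Γ := by
    rcases h.hΓ with k | k | k
    · exact absurd (M4_le (k ▸ hw)) hW
    · exact absurd (k ▸ hw) hW
    · exact k ▸ mem_top _
  have s1 : ι (nl th) * ι (nl t12) * (ι (nl th))⁻¹ = ι (nl r4) := by rw [F.conj_nl mth mπ, th_vals.2.2.2.2.1]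
  have s2 : ι (nl th) * ι (nl r4) * (ι (nl th))⁻¹ = ι (nl t12) := by rw [F.conj_nl mth mt, th_vals.2.2.2.2.2.1]
  have cp : ∀ y : G, ι (nl th) * (c * g) * y * (ι (nl th) * (c * g))⁻¹ =
      ι (nl th) * (c * g * y * (c * g)⁻¹) * (ι (nl th))⁻¹ := fun y => by group
  have sU : ∀ {y : G}, XbU (ι (nl t12)) (ι (nl r4)) y →
      XbU (ι (nl t12)) (ι (nl r4)) (ι (nl th) * y * (ι (nl th))⁻¹) := by
    rintro y (k | k | k | k) <;> rw [k]
    · exact Or.inl (by group)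
    · exact Or.inr (Or.inr (Or.inl s1))
    · exact Or.inr (Or.inl s2)
    · exact Or.inr (Or.inr (Or.inr (by rw [← conj_mul, s1, s2, mem_Cx.1 (h.cT πT)])))
  have k := xb_fix F (k := ι (nl th) * (c * g)) (by
      rw [cp, e', F.conj_ev (nl_mem mth), ← F.ev_apply x3, ← map_inv]
      rcases (by decide +kernel : ∀ v : V81, (v.v < 27 ∧ v.v % 9 % 4 = 0) → qf v = 2 * qf x4 % 3 →
        act (nl th).w v = x3 ∨ act (nl th).w v = x3⁻¹) v hv qv with k | k <;> rw [k]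
      exacts [Or.inl rfl, Or.inr rfl]) (by rw [cp, cU πT π2]; exact sU (xb_U h hg πT π2))
    (by rw [cp, cU h.tT t2]; exact sU (xb_U h hg h.tT t2))
  have k1 := xb_cj k.1
  have k2 := xb_cj k.2
  rw [cp, cU πT π2] at k1
  rw [cp, cU h.tT t2] at k2
  have cq : ∀ y : G, g * ι (nl th) * y * (g * ι (nl th))⁻¹ = g * (ι (nl th) * y * (ι (nl th))⁻¹) * g⁻¹ :=
    fun y => by group
  refine Or.inr ⟨mth, xb_cm ?_, xb_cm ?_⟩
  · rw [cq, s1]; exact mul_left_cancel (mul_right_cancel (k2.trans s1.symm))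
  · rw [cq, s2]; exact mul_left_cancel (mul_right_cancel (k1.trans s2.symm))

theorem xb_nT (h : XD WF4 ι φ T) {g : G} (hz : g ∈ Cx (ι (nv zz))) (hg : g ∈ Nm T) :
    Commute g (ι (nl t12)) ∧ Commute g (ι (nl r4)) :=
  (xd_nT h hz hg).resolve_right fun k => absurd k.1 (by decide +kernel)

theorem xd_syl (h : XD WF4 ι φ T) : IsSylowIn 2 T (Cx (ι (nv zz))) :=
  isSylowIn_of_isSylowIn_normalizer (xd_cen h).1 (h.syl.of_le (le_inf (xd_cen h).1 le_normalizer)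
    fun _ hg => ⟨hg.1, mem_Cx.2 (xb_nT h hg.1 hg.2).1⟩)

theorem xd_wc (h : XD WF4 ι φ T) {k : G} (hk : k ∈ Cx (ι (nv zz))) :
    (k * ι (nl t12) * k⁻¹ ∈ T → k * ι (nl t12) * k⁻¹ = ι (nl t12)) ∧
      (k * ι (nl r4) * k⁻¹ ∈ T → k * ι (nl r4) * k⁻¹ = ι (nl r4)) := by
  obtain ⟨π2, t2⟩ := xb_sq h.toFr
  obtain ⟨-, Tπ, -, -⟩ := xd_cen h
  have key : ∀ {y : G}, y * y = 1 → k * y * k⁻¹ ∈ T → T ≤ Cx (k * y * k⁻¹) := fun {y} y2 hy s hs =>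
    mem_Cx.2 (XbU.comm (h.invs _ hy (by rw [conj_mul, y2, mul_one, mul_inv_cancel])) (mem_Cx.1 (Tπ hs))
      (mem_Cx.1 (h.cT hs)))
  refine ⟨fun e => ?_, fun e => ?_⟩
  · obtain ⟨n, n1, n2, n3⟩ := exists_normalizer_conj (xd_syl h) hk Tπ (key π2 e)
    rw [← n3, xb_cj (xb_nT h n1 n2).1]
  · obtain ⟨n, n1, n2, n3⟩ := exists_normalizer_conj (xd_syl h) hk h.cT (key t2 e)
    rw [← n3, xb_cj (xb_nT h n1 n2).2]

end CfsgLib.S86
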