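import Cfsg.Agent.Lib.S86.XB
import Cfsg.Agent.Lib.S86.Syl
import Cfsg.Agent.Lib.FT.OddOrder

/-! Case `F₄(2)`: `Q` is normal in `C(z)` (project S86, see plans/S86.md). -/

set_option autoImplicit false
set_option maxRecDepth 100000
set_option Elab.async false
set_option linter.unusedSectionVars false

namespace CfsgLib.S86

open Subgroup CfsgLib.W2 CfsgLib.Tech CfsgLib.PComp CfsgLib.Rec3C CfsgLib.Rec3C.V4
open CfsgLib.Rec3B (V81)
open CfsgLib.L72 (Nm IsQ Oc)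

variable {G : Type*} [Group G] [Finite G]

variable {ι : N4 → G} {φ : SM →* G} {T : Subgroup G}

namespace XC1x
open Rec3C.BasA

theorem XW : ∀ g ∈ XX, g ∈ WF4 := by decide +kernel
theorem SN : SV ≤ NG WF4 := fun _ ha => XW _ ha
theorem QN : QV ≤ NG WF4 := V4.QV_le.trans SN
theorem mW : t12 ∈ WF4 ∧ r4 ∈ WF4 := by decide +kernel

theorem d1 : ∀ v : V81, Perp v zz → ∃ i j k : Fin 3, v = zz ^ i.1 * yy ^ j.1 * x4 ^ k.1 := by decide +kernel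

theorem d2 : ∀ v : V81, ¬ Perp v zz → Perp (x3 * v) zz ∨ Perp (x3 * v⁻¹) zz := by decide +kernel

theorem d3 : ∀ w ∈ XL, ∀ v : V81, Perp v zz →
    act t12 (v * act w (act t12 v)) = v * act w (act t12 v) ∧
    t12 * (w * (t12 * w * t12⁻¹)) * t12⁻¹ = w * (t12 * w * t12⁻¹) ∧
    (w * (t12 * w * t12⁻¹) = 1 → act w x4 = x4) := by decide +kernel

theorem d4 : ∀ w ∈ XL, ∀ v : V81, Perp v zz →
    (∃ i j k : Fin 3, v * act w (act r4 v) = zz ^ i.1 * yy ^ j.1 ∧ w * (r4 * w * r4⁻¹) = al ^ k.1) ∧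
    (w * (r4 * w * r4⁻¹) = 1 → act w yy = yy) := by decide +kernel

theorem d5 : nl t12 * nv yy * (nl t12)⁻¹ = (nv yy)⁻¹ ∧ nl t12 * nl al * (nl t12)⁻¹ = (nl al)⁻¹ ∧
    nl r4 * nv x4 * (nl r4)⁻¹ = (nv x4)⁻¹ ∧ nl r4 * nl be * (nl r4)⁻¹ = (nl be)⁻¹ ∧
    nv x3 * nl t12 = nl t12 * nv x3 ∧ nv x4 * nl t12 = nl t12 * nv x4 ∧ yy ∉ [1, zz, zz⁻¹] ∧ x4 ∉ [1, zz, zz⁻¹] ∧
    nv zz ≠ 1 := by
  decide +kernel

theorem gQ : nv zz ∈ QV ∧ nv yy ∈ QV ∧ nv x4 ∈ QV ∧ nl al ∈ QV ∧ nl be ∈ QV ∧ nv x3 ∉ QV := by decide +kernel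

/-- commutators with a weakly closed element -/
theorem comm_O {K T : Subgroup G} (hS : IsSylowIn 2 T K) {u : G} (hu : u ∈ T)
    (wc : ∀ k ∈ K, k * u * k⁻¹ ∈ T → k * u * k⁻¹ = u) {g : G} (hg : g ∈ K) : g * u * g⁻¹ * u⁻¹ ∈ opOf 2 K := by
  have n : ∀ k ∈ K, ∀ o ∈ opOf 2 K, k * o * k⁻¹ ∈ opOf 2 K := fun k hk o ho =>
    (mem_normalizer_iff.1 (le_normalizer_opOf K hk) o).1 ho
  let M : Subgroup G :=
    { carrier := {g | g ∈ K ∧ g * u * g⁻¹ * u⁻¹ ∈ opOf 2 K}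
      one_mem' := ⟨one_mem _, by simp⟩
      mul_mem' := fun {a b} ha hb => ⟨mul_mem ha.1 hb.1, by
        have := mul_mem (n a ha.1 _ hb.2) ha.2
        convert this using 1
        group⟩
      inv_mem' := fun {a} ha => ⟨inv_mem ha.1, by
        have := n _ (inv_mem ha.1) _ (inv_mem ha.2)
        convert this using 1
        group⟩ }
  refine (le_of_weaklyClosed (M := M) hS hu wc (fun o ho => ⟨opOf_le K ho, ?_⟩) (fun c hc => ⟨hc.1, ?_⟩) hg).2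
  · have := mul_mem ho (n u (hS.le hu) _ (inv_mem ho))
    convert this using 1
    group
  · rw [mem_Cx.1 hc.2]
    simp

theorem inv_O {K T : Subgroup G} (hS : IsSylowIn 2 T K) {u : G} (hu : u ∈ T)
    (wc : ∀ k ∈ K, k * u * k⁻¹ ∈ T → k * u * k⁻¹ = u) {s : G} (hs : s ∈ K) (s3 : s ^ 3 = 1)
    (e : u * s * u⁻¹ = s⁻¹) : s ∈ opOf 2 K := by
  have h1 := comm_O hS hu wc hs
  rw [show s * u * s⁻¹ * u⁻¹ = s * (u * s * u⁻¹)⁻¹ by group, e, inv_inv] at h1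
  have h2 := mul_mem h1 h1
  rwa [show s * s * (s * s) = s ^ 3 * s by rw [pow_succ, pow_two]; group, s3, one_mul] at h2

/-- the preimage in the model -/
noncomputable def pre (e : GEmb (NG WF4) ι) (K : Subgroup G) : Subgroup N4 := (K.comap e.hom).map (NG WF4).subtype

theorem mem_pre (e : GEmb (NG WF4) ι) {K : Subgroup G} {a : N4} (ha : a ∈ NG WF4) : a ∈ pre e K ↔ ι a ∈ K :=
  mem_map_iff_mem (f := (NG WF4).subtype) (NG WF4).subtype_injective (x := ⟨a, ha⟩)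

theorem Q_le (e : GEmb (NG WF4) ι) {K : Subgroup G} (hz : ι (nv zz) ∈ K) (hy : ι (nv yy) ∈ K)
    (h4 : ι (nv x4) ∈ K) (ha : ι (nl al) ∈ K) (hb : ι (nl be) ∈ K) : QG ι ≤ K := by
  obtain ⟨g1, g2, g3, g4, g5, -⟩ := gQ
  rw [← mem_pre e (QN g1)] at hz
  rw [← mem_pre e (QN g2)] at hy
  rw [← mem_pre e (QN g3)] at h4
  rw [← mem_pre e (QN g4)] at ha
  rw [← mem_pre e (QN g5)] at hb
  refine gim_le.2 fun a m => (mem_pre e (QN m)).1 ?_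
  obtain ⟨i, j, k, hv⟩ := d1 a.v m.1
  obtain ⟨l, -, n, -, hw⟩ := XX_eq a.w m.2
  rw [← nv_nl a, hv, hw]
  simp only [map_mul, map_pow]
  exact mul_mem (mul_mem (mul_mem (pow_mem hz _) (pow_mem hy _)) (pow_mem h4 _))
    (mul_mem (pow_mem ha _) (pow_mem hb _))

theorem S_le (e : GEmb (NG WF4) ι) : SG ι ≤ Cx (ι (nv zz)) :=
  gim_le.2 fun _ ha => mem_Cx.2 ((e.comm_iff (SN ha) (nv_mem _ _)).2 (comm_nv.2 (X_zz ha)))

theorem mem_Z (e : GEmb (NG WF4) ι) {a : N4} (ha : a ∈ NG WF4) (h : ι a ∈ zpowers (ι (nv zz))) :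
    a ∈ zpowers (nv zz) := by
  rwa [← e.im_zpowers (nv_mem _ _), e.mem_im_iff (zpowers_le.2 (nv_mem _ _)) ha] at h

theorem Q_le_O (h : XD WF4 ι φ T) : QG ι ≤ opOf 2 (Cx (ι (nv zz))) := by
  have e := h.toFr.toGEmb
  obtain ⟨g1, g2, g3, g4, g5, -⟩ := gQ
  obtain ⟨c1, c2, c3, c4, -⟩ := d5
  have k : ∀ {a : N4}, a ∈ QV → ∀ {w : GO}, w ∈ WF4 → ι (nl w) ∈ T →
      (∀ k ∈ Cx (ι (nv zz)), k * ι (nl w) * k⁻¹ ∈ T → k * ι (nl w) * k⁻¹ = ι (nl w)) →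
      nl w * a * (nl w)⁻¹ = a⁻¹ → ι a ∈ opOf 2 (Cx (ι (nv zz))) := fun {a} ha w hw hT wc c =>
    inv_O (xd_syl h) hT wc (S_le e (mem_gim_of (V4.QV_le ha)))
      (by rw [← e.pow (QN ha), cube_QV ha, e.one]) (by rw [e.conj_eq (nl_mem hw) (QN ha) c, e.inv (QN ha)])
  have p1 := (xd_cen h).2.2.1
  refine Q_le e ?_ (k g2 mW.1 p1 (fun k hk => (xd_wc h hk).1) c1) (k g3 mW.2 h.tT (fun k hk => (xd_wc h hk).2) c3)
    (k g4 mW.1 p1 (fun k hk => (xd_wc h hk).1) c2) (k g5 mW.2 h.tT (fun k hk => (xd_wc h hk).2) c4)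
  refine le_opOf (zpowers_le.2 (mem_Cx.2 rfl)) (fun g hg => mem_normalizer_iff_cj.2 ?_) ?_ (mem_zpowers _)
  · rw [cj_zpowers, mem_Cx'.1 hg]
  · rw [Nat.card_zpowers, e.ord_three (QN g1) z3 d5.2.2.2.2.2.2.2.2]
    norm_num

theorem O_le (h : XD WF4 ι φ T) : opOf 2 (Cx (ι (nv zz))) ⊓ Cx (ι (nl t12)) ≤ R1 ι :=
  h.odd _ (Nat.coprime_two_right.1 (coprime_card_of_le_opOf inf_le_left)) (inf_le_inf_right _ (opOf_le _))
    ((inf_le_inf (le_normalizer_opOf _) le_normalizer).trans inf_normalizer_le_normalizer_inf)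

theorem R1_le : R1 ι ≤ QG ι := by
  rw [R1, closure_le]
  rintro _ (rfl | rfl | rfl)
  exacts [mem_gim_of gQ.1, mem_gim_of gQ.2.2.1, mem_gim_of gQ.2.2.2.2.1]

end XC1x
open XC1x Rec3C.BasA

/-- `t12` and `r4` are central modulo `O(C(z))` -/
theorem xd_zstar (h : XD WF4 ι φ T) : Cx (ι (nv zz)) ≤ opOf 2 (Cx (ι (nv zz))) ⊔ (Cx (ι (nv zz)) ⊓ Cx (ι (nl t12))) ∧
    opOf 2 (Cx (ι (nv zz))) ⊓ SG ι = QG ι := by
  refine ⟨le_of_weaklyClosed (xd_syl h) (xd_cen h).2.2.1 (fun k hk => (xd_wc h hk).1) le_sup_left le_sup_right,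
    le_antisymm ?_ (le_inf (Q_le_O h) (gim_mono V4.QV_le))⟩
  have e := h.toFr.toGEmb
  rintro g ⟨hO, hS⟩
  obtain ⟨a, ha, rfl⟩ := (e.mem_im SN).1 hS
  refine mem_gim_of ?_
  by_contra n
  have Q : QV ≤ pre e (opOf 2 (Cx (ι (nv zz)))) := fun b hb => (mem_pre e (QN hb)).2 (Q_le_O h (mem_gim_of hb))
  have h1 : a ∈ pre e (opOf 2 (Cx (ι (nv zz)))) := (mem_pre e (SN ha)).2 hO
  have h2 : nv a.v ∈ pre e (opOf 2 (Cx (ι (nv zz)))) := by
    have := mul_mem h1 (inv_mem (Q (nl_QV (g := a.w) ha)))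
    nth_rewrite 1 [← nv_nl a] at this
    rwa [mul_inv_cancel_right] at this
  have h3 : nv x3 ∈ pre e (opOf 2 (Cx (ι (nv zz)))) := by
    rcases d2 a.v (fun p => n ⟨p, ha⟩) with p | p
    · have := mul_mem (Q (nv_QV p)) (inv_mem h2)
      rwa [map_mul, mul_inv_cancel_right] at this
    · have := mul_mem (Q (nv_QV p)) h2
      rwa [map_mul, map_inv, inv_mul_cancel_right] at this
  have h4 := R1_le (O_le h ⟨(mem_pre e (nv_mem _ _)).1 h3,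
    mem_Cx.2 ((e.comm_iff (nv_mem _ _) (nl_mem mW.1)).2 d5.2.2.2.2.1)⟩)
  exact gQ.2.2.2.2.2 ((e.mem_im_iff QN (nv_mem _ _)).1 h4)

theorem xd_nQ (hy : Hy G) (h : XD WF4 ι φ T) : Cx (ι (nv zz)) ≤ Nm (QG ι) := by
  have e := h.toFr.toGEmb
  obtain ⟨O, hO⟩ : ∃ O, O = opOf 2 (Cx (ι (nv zz))) := ⟨_, rfl⟩
  have nO : Cx (ι (nv zz)) ≤ Nm O := hO ▸ le_normalizer_opOf _
  have OX : O ≤ Cx (ι (nv zz)) := hO ▸ opOf_le _
  have QO : QG ι ≤ O := hO ▸ Q_le_O h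
  haveI := Core.pCore_characteristic 3 O
  obtain ⟨P, hP⟩ : ∃ P, P = (Cfsg.pCore 3 O).map O.subtype := ⟨_, rfl⟩
  have nP : Cx (ι (nv zz)) ≤ Nm P :=
    hP ▸ nO.trans (Core.normalizer_le_normalizer_map_subtype_of_characteristic _)
  have PO : P ≤ O := hP ▸ map_subtype_le _
  have PQ : P ≤ QG ι := by
    rw [← (xd_zstar h).2, ← hO]
    exact le_inf PO (((h.toFr.syl le_rfl).of_le (S_le e) le_top).le_of_le_normalizer
      (hP ▸ (Core.isPGroup_pCore 3 O).map _) (PO.trans OX) nP)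
  have cen : ∀ c ∈ O, (∀ p ∈ P, p * c = c * p) → c ∈ P := by
    intro c hc H
    haveI : Group.IsSolvable O := FT.odd_subgroup_solvable (Nat.coprime_two_right.1 (hO ▸ coprime_card_opOf _))
    have b : opOf 3 O = ⊥ := h.toFr.sig hy le_rfl (coprime_card_opOf O) fun v =>
      normalizer_le_normalizer_opOf O (nO (S_le e (mem_gim_of (nv_mem _ v))))
    have b' : Cfsg.pPrimeCore 3 O = ⊥ := by rw [← opOf_subgroupOf, b, bot_subgroupOf]
    rw [hP]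
    refine ⟨⟨c, hc⟩, Core.centralizer_pCore_le_of_isSolvable Nat.prime_three b' fun p hp => ?_, rfl⟩
    exact Subtype.ext (H p (hP ▸ mem_map_of_mem _ hp))
  have key : ∀ v : V81, nv v ∈ QV → ∀ w ∈ WF4, ι (nl w) ∈ T →
      (∀ a ∈ QV, ι (a * (nl w * a * (nl w)⁻¹)) ∈ P → act a.w v = v) → ι (nv v) ∈ P := by
    intro v hv w hw hT H
    refine cen _ (QO (mem_gim_of hv)) fun p hp => ?_
    obtain ⟨a, ha, rfl⟩ := (e.mem_im QN).1 (PQ hp)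
    refine (e.comm_iff (QN ha) (nv_mem _ _)).2 (comm_nv.2 (H a ha ?_))
    rw [e.mul (QN ha) (mul_mem (mul_mem (nl_mem hw) (QN ha)) (inv_mem (nl_mem hw))), ← e.conj (nl_mem hw) (QN ha)]
    exact mul_mem hp ((mem_normalizer_iff.1 (nP ((xd_cen h).1 hT)) _).1 hp)
  have mb : ∀ a ∈ QV, ∀ w ∈ WF4, a * (nl w * a * (nl w)⁻¹) ∈ NG WF4 := fun a ha w hw =>
    mul_mem (QN ha) (mul_mem (mul_mem (nl_mem hw) (QN ha)) (inv_mem (nl_mem hw)))
  have lin : ∀ a ∈ QV, ∀ w ∈ WF4, ι (a * (nl w * a * (nl w)⁻¹)) ∈ zpowers (ι (nv zz)) →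
      a.w * (w * a.w * w⁻¹) = 1 := fun a ha w hw m =>
    (zpowers_le.2 (nv_JV zz) : zpowers (nv zz) ≤ JV) (mem_Z e (mb a ha w hw) m)
  have h1 : R1 ι ≤ P := by
    rcases h.irr (P ⊓ Cx (ι (nl t12))) ((inf_le_inf_right _ (hO ▸ PO)).trans (O_le h))
      ((le_inf ((xd_cen h).1.trans nP) ((xd_cen h).2.1.trans le_normalizer)).trans
        inf_normalizer_le_normalizer_inf) with c | c
    · exfalso
      have m := key x4 gQ.2.2.1 t12 mW.1 (xd_cen h).2.2.1 fun a ha m => by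
        obtain ⟨k1, k2, k3⟩ := d3 a.w (mem_XL _ ha.2) a.v ha.1
        refine k3 (lin a ha _ mW.1 (c ⟨m, mem_Cx.2 ((e.comm_iff (mb a ha _ mW.1) (nl_mem mW.1)).2 ?_)⟩))
        rw [eq_comm, ← mul_inv_eq_iff_eq_mul, nl_conj, nl_conj]
        exact N4.ext k1 k2
      exact d5.2.2.2.2.2.2.2.1 (nv_Z.1 (mem_Z e (nv_mem _ _)
        (c ⟨m, mem_Cx.2 ((e.comm_iff (nv_mem _ _) (nl_mem mW.1)).2 d5.2.2.2.2.2.1)⟩)))
    · exact c.trans inf_le_left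
  obtain ⟨-, -, -, -, -, vy, vz, -⟩ := h.toFr.vals
  have h2 : R0 ≤ P.comap φ := by
    rcases irr_R0 (N := P.comap φ ⊓ R0) inf_le_right (fun q hq => inf_normalizer_le_normalizer_inf
      ⟨le_normalizer_comap φ (nP ((xd_cen h).1 (h.DT (mem_map_of_mem φ hq)))),
        nR0 (mem_Cx.2 (Q0_facts q hq).1)⟩) with c | c
    · exfalso
      have c' : ∀ m ∈ R0, φ m ∈ P → φ m ∈ zpowers (ι (nv zz)) := fun m hm hp => by
        rw [vz, ← MonoidHom.map_zpowers]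
        exact mem_map_of_mem φ (c ⟨hp, hm⟩)
      have m := key yy gQ.2.1 r4 mW.2 h.tT fun a ha m => by
        obtain ⟨⟨i, j, k, k1, k2⟩, k3⟩ := d4 a.w (mem_XL _ ha.2) a.v ha.1
        have e1 : a * (nl r4 * a * (nl r4)⁻¹) = nv zz ^ i.1 * nv yy ^ j.1 * nl al ^ k.1 := by
          rw [← map_pow, ← map_pow, ← map_pow, ← map_mul, ← mk_eq, nl_conj]
          exact N4.ext k1 k2
        have e2 : ι (a * (nl r4 * a * (nl r4)⁻¹)) = φ (z0 ^ i.1 * y0 ^ j.1 * α0 ^ k.1) := by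
          have g1 := QN gQ.1
          have g2 := QN gQ.2.1
          have g3 := QN gQ.2.2.2.1
          rw [e1, e.mul (mul_mem (pow_mem g1 _) (pow_mem g2 _)) (pow_mem g3 _), e.mul (pow_mem g1 _) (pow_mem g2 _),
            e.pow g1, e.pow g2, e.pow g3, vz, vy, h.wal]
          simp only [map_mul, map_pow]
        refine k3 (lin a ha _ mW.2 ?_)
        rw [e2] at m ⊢
        exact c' _ (mem_R0.2 ⟨i, j, k, rfl⟩) m
      refine d5.2.2.2.2.2.2.1 (nv_Z.1 (mem_Z e (nv_mem _ _) ?_))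
      rw [vy] at m ⊢
      exact c' _ (subset_closure (by simp)) m
    · exact c.trans inf_le_left
  have h3 : QG ι ≤ P := Q_le e (h1 (subset_closure (by simp))) (vy ▸ h2 (subset_closure (by simp)))
    (h1 (subset_closure (by simp))) (h.wal ▸ h2 (subset_closure (by simp))) (h1 (subset_closure (by simp)))
  rw [le_antisymm h3 PQ]
  exact nP

end CfsgLib.S86
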