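import Cfsg.Agent.Lib.S86.XC1
import Cfsg.Agent.Lib.S86.Gen2
import Cfsg.Agent.Lib.Rec3.S9Fin

/-! Case `F₄(2)`: `O(C(z)) = Q` (project S86, see plans/S86.md). -/

set_option autoImplicit false
set_option maxRecDepth 100000
set_option Elab.async false
set_option linter.unusedSectionVars false

namespace CfsgLib.S86

open Subgroup CfsgLib.W2 CfsgLib.Tech CfsgLib.PComp CfsgLib.Rec3C CfsgLib.Rec3C.V4
open CfsgLib.Rec3B (V81)
open CfsgLib.L72 (Nm IsQ Oc)

variable {G : Type*} [Group G] [Finite G]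

theorem xc2_SV : SV ≤ NG WF4 := fun _ ha => (show ∀ g ∈ XX, g ∈ WF4 by decide +kernel) _ ha

omit [Finite G] in
theorem xc2_R1 (ι : N4 → G) : R1 ι ≤ QG ι := (closure_le _).2 (by
  rintro _ (rfl | rfl | rfl)
  exacts [mem_gim_of (BasA.nv_QV BasA.albe.2.2.2.2.1), mem_gim_of (BasA.nv_QV (by decide +kernel)),
    mem_gim_of (BasA.nl_QV BasA.albe.2.1)])

theorem xd_O (hy : Hy G) {ι : N4 → G} {φ : SM →* G} {T : Subgroup G} (h : XD WF4 ι φ T) :
    opOf 2 (Cx (ι (nv zz))) = QG ι := by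
  haveI : Fact (Nat.Prime 3) := ⟨Nat.prime_three⟩
  haveI : Fact (Nat.Prime 2) := ⟨Nat.prime_two⟩
  set X := Cx (ι (nv zz))
  set O := opOf 2 X
  have OX : O ≤ X := opOf_le X
  have XO : X ≤ Nm O := le_normalizer_opOf X
  have oO : (Nat.card O).Coprime 2 := coprime_card_opOf X
  have cQ : Nat.card (QG ι) = 243 := (h.card_im (QV_le.trans xc2_SV)).trans card_QV
  have Q3 : IsPGroup 3 (QG ι) := IsPGroup.of_card (n := 5) cQ
  have DX : Q0.map φ ≤ X := h.DT.trans (h.syl.le.trans inf_le_left)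
  have O3 : IsPGroup 3 O := by
    refine IsPGroup.of_card (Nat.eq_prime_pow_of_unique_prime_dvd Nat.card_pos.ne' fun {r} hr hd => ?_)
    by_contra r3
    haveI := Fact.mk hr
    have r2 : r ≠ 2 := by rintro rfl; exact absurd (oO.symm.eq_one_of_dvd hd) (by norm_num)
    have r5 : 5 ≤ r := hr.five_le_of_ne_two_of_ne_three r2 r3
    obtain ⟨R, hR, DR⟩ := inv_sylow (r := r) (h.syl.pgroup.to_le h.DT) oO (DX.trans XO)
    have one : ∀ y ∈ R, y ∈ QG ι → y = 1 := fun y h1 h2 => mem_bot.1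
      ((IsPGroup.disjoint_of_ne r 3 r3 R (QG ι) hR.pgroup Q3).le_bot ⟨h1, h2⟩)
    have m1 : φ q1 ∈ Q0.map φ := mem_map_of_mem _ (subset_closure (by simp))
    have m2 : φ q2 ∈ Q0.map φ := mem_map_of_mem _ (subset_closure (by simp))
    have mπ : φ s12 ∈ Q0.map φ := by rw [← Q0_vals.1, map_mul]; exact mul_mem m1 m1
    have fpf : ∀ y ∈ R, φ s12 * y * (φ s12)⁻¹ = y → y = 1 := fun y hy e => one y hy (xc2_R1 ι
      (h.odd (O ⊓ Cx (ι (nl t12))) ((Nat.coprime_two_right.1 oO).of_dvd_nat (card_dvd_of_le inf_le_left))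
        (inf_le_inf_right _ OX) (fun g hg => mem_normalizer_of_forall fun x hx =>
          ⟨conj_mem_of_mem_normalizer (XO hg.1) hx.1, mul_mem (mul_mem hg.2 hx.2) (Subgroup.inv_mem _ hg.2)⟩)
        ⟨hR.le hy, by rw [h.w12]; exact Cx_comm.1 (mem_Cx'.2 e)⟩))
    have inv : ∀ y ∈ R, φ s12 * y * (φ s12)⁻¹ = y⁻¹ := fun y hy =>
      Rec3.fpf_inverts (by rw [← map_mul, Q0_vals.2.2.2.2.1, map_one]) (DR mπ) fpf hy
    have ab : ∀ x ∈ R, ∀ y ∈ R, Commute x y := fun x hx y hy => by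
      have := inv _ (mul_mem hx hy)
      rw [← conj_mul, inv x hx, inv y hy, ← mul_inv_rev, inv_inj] at this
      exact this.symm
    obtain ⟨⟨g, gR⟩, og⟩ := exists_prime_orderOf_dvd_card' (G := R) r (by
      rw [hR.card_eq_pow]
      exact dvd_pow_self r (hr.factorization_pos_of_dvd Nat.card_pos.ne' hd).ne')
    rw [← orderOf_coe] at og
    change orderOf g = r at og
    have key : ∀ q ∈ Q0.map φ, q * g * q⁻¹ ∈ zpowers g := fun q hq => by
      by_contra hn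
      have kR := conj_mem_of_mem_normalizer (DR hq) gR
      have RX := hR.le.trans OX
      obtain ⟨y, y1, y2, y3⟩ := cnt cQ hr r5 og ((ord_conj q g).trans og) (ab _ gR _ kR) hn
        (xd_nQ hy h (RX gR)) (xd_nQ hy h (RX kR)) (mem_gim_of (BasA.nv_QV BasA.albe.2.2.2.2.1))
        (fun e => BasA.albe.2.2.1 (nv_inj (((h.eq_one_iff (nv_mem _ _)).1 e).trans (map_one _).symm)))
        (mem_Cx.1 (RX gR)) (mem_Cx.1 (RX kR))
      exact y2 (one y ((closure_le R).2 (by rintro _ (rfl | rfl); exacts [gR, kR]) y1)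
        (h.toFr.cQ hy le_rfl (xd_nQ hy h) fun q hq => (y3 q hq).eq.symm))
    obtain ⟨i, hi⟩ := mem_zpowers_iff.1 (key _ m1)
    obtain ⟨j, hj⟩ := mem_zpowers_iff.1 (key _ m2)
    have e : φ s12 * (φ q2 * φ q1) = φ q1 * φ q2 := by
      rw [← Q0_vals.2.2.2.1, map_mul, map_mul, map_mul, map_inv, map_inv]; group
    have e1 : φ q1 * φ q2 * g * (φ q1 * φ q2)⁻¹ = φ q2 * φ q1 * g * (φ q2 * φ q1)⁻¹ := by
      calc _ = φ q1 * (φ q2 * g * (φ q2)⁻¹) * (φ q1)⁻¹ := by group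
        _ = (g ^ i) ^ j := by rw [← hj, ← conj_zpow, ← hi]
        _ = (g ^ j) ^ i := by rw [← zpow_mul, ← zpow_mul, mul_comm]
        _ = φ q2 * (φ q1 * g * (φ q1)⁻¹) * (φ q2)⁻¹ := by rw [← hi, ← conj_zpow, ← hj]
        _ = _ := by group
    have := fpf _ (conj_mem_of_mem_normalizer (DR (mul_mem m2 m1)) gR) (by
      calc _ = φ s12 * (φ q2 * φ q1) * g * (φ s12 * (φ q2 * φ q1))⁻¹ := by group
        _ = _ := by rw [e, e1])
    rw [conj_eq_one_iff] at this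
    rw [this, orderOf_one] at og
    omega
  have SX : SG ι ≤ X := gim_le.2 fun a ha => mem_Cx.2
    ((h.comm_iff (xc2_SV ha) (nv_mem _ _)).2 (comm_nv.2 (BasA.X_zz ha)))
  rw [← (xd_zstar h).2, inf_eq_left.2 (((h.toFr.syl le_rfl).of_le SX le_top).le_of_le_normalizer O3 OX XO)]

end CfsgLib.S86
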